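import Cfsg.Agent.Lib.Helper15.ChevGraphEx
import Cfsg.Prelude.Def_ChevD4
import Cfsg.Prelude.Def_ChevE6

set_option autoImplicit false

namespace Cfsg.Agent.Lib.Helper15
namespace ChevGraphEx

open Cfsg.Lie

def permE6 : List ℕ := [5, 1, 4, 3, 2, 0]
def permInvE6 : List ℕ := [5, 1, 4, 3, 2, 0]
def rhoE6 : List ℕ :=
  [0, 1, 2, 5, 16, 3, 6, 17, 8, 19, 22, 11, 26, 30, 33, 35, 4, 7, 18, 9, 20, 23, 10, 21, 24, 25,
    12, 27, 31, 34, 13, 28, 32, 14, 29, 15, 56, 42, 57, 39, 43, 58, 37, 40, 44, 59, 46, 47, 50, 61,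
    48, 51, 62, 53, 64, 67, 36, 38, 41, 45, 60, 49, 52, 63, 54, 65, 68, 55, 66, 69, 70, 71]
def rhoInvE6 : List ℕ :=
  [0, 1, 2, 5, 16, 3, 6, 17, 8, 19, 22, 11, 26, 30, 33, 35, 4, 7, 18, 9, 20, 23, 10, 21, 24, 25,
    12, 27, 31, 34, 13, 28, 32, 14, 29, 15, 56, 42, 57, 39, 43, 58, 37, 40, 44, 59, 46, 47, 50, 61,
    48, 51, 62, 53, 64, 67, 36, 38, 41, 45, 60, 49, 52, 63, 54, 65, 68, 55, 66, 69, 70, 71]
def epsE6 : List ℤ :=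
  [1, 1, 1, 1, -1, 1, 1, -1, 1, -1, -1, 1, -1, 1, -1, 1, -1, -1, 1, -1, 1, 1, -1, 1, 1, 1, -1, 1,
    -1, 1, 1, -1, 1, -1, 1, 1, 1, 1, -1, 1, -1, 1, 1, -1, 1, -1, 1, 1, 1, -1, 1, 1, -1, 1, -1, -1,
    1, -1, 1, -1, 1, -1, -1, 1, -1, 1, 1, -1, 1, 1, 1, 1]

def permD4a : List ℕ := [2, 1, 3, 0]
def permInvD4a : List ℕ := [3, 1, 0, 2]
def rhoD4a : List ℕ :=
  [0, 1, 6, 2, 7, 10, 3, 8, 4, 9, 11, 5, 18, 12, 14, 19, 15, 20, 13, 16, 21, 17, 22, 23]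
def rhoInvD4a : List ℕ :=
  [0, 1, 3, 6, 8, 11, 2, 4, 7, 9, 5, 10, 13, 18, 14, 16, 19, 21, 12, 15, 17, 20, 22, 23]
def epsD4a : List ℤ :=
  [1, 1, -1, 1, -1, 1, -1, 1, -1, 1, 1, 1, 1, 1, 1, -1, 1, -1, 1, -1, 1, -1, 1, 1]

def permD4b : List ℕ := [3, 1, 0, 2]
def permInvD4b : List ℕ := [2, 1, 3, 0]
def rhoD4b : List ℕ :=
  [0, 1, 3, 6, 8, 11, 2, 4, 7, 9, 5, 10, 13, 18, 14, 16, 19, 21, 12, 15, 17, 20, 22, 23]
def rhoInvD4b : List ℕ :=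
  [0, 1, 6, 2, 7, 10, 3, 8, 4, 9, 11, 5, 18, 12, 14, 19, 15, 20, 13, 16, 21, 17, 22, 23]
def epsD4b : List ℤ :=
  [1, 1, 1, -1, -1, 1, -1, -1, 1, 1, 1, 1, 1, 1, 1, 1, -1, -1, 1, -1, -1, 1, 1, 1]

set_option maxRecDepth 100000 in
theorem graphOK_E6 : GraphOK chevE6 permE6 permInvE6 rhoE6 rhoInvE6 epsE6 :=
  ⟨by decide +kernel, by decide +kernel, by decide +kernel, by decide +kernel, by decide +kernel,
    by decide +kernel⟩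

set_option maxRecDepth 100000 in
theorem graphOK_D4a : GraphOK chevD4 permD4a permInvD4a rhoD4a rhoInvD4a epsD4a :=
  ⟨by decide +kernel, by decide +kernel, by decide +kernel, by decide +kernel, by decide +kernel,
    by decide +kernel⟩

set_option maxRecDepth 100000 in
theorem graphOK_D4b : GraphOK chevD4 permD4b permInvD4b rhoD4b rhoInvD4b epsD4b :=
  ⟨by decide +kernel, by decide +kernel, by decide +kernel, by decide +kernel, by decide +kernel,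
    by decide +kernel⟩

end ChevGraphEx
end Cfsg.Agent.Lib.Helper15
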