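import Cfsg.Agent.Lib.Helper15.ChevOrbDef
import Cfsg.Prelude.Def_ChevG2
import Cfsg.Prelude.Def_ChevB2
import Cfsg.Prelude.Def_ChevD4
import Cfsg.Prelude.Def_ChevF4
import Cfsg.Prelude.Def_ChevE6
import Cfsg.Prelude.Def_ChevE7
import Cfsg.Prelude.Def_ChevE8

set_option autoImplicit false

namespace Cfsg.Agent.Lib.Helper15
namespace ChevGen

open Cfsg.Lie

def cert17G2 : List ((ℕ × List ℕ) × (ℕ × List ℕ)) :=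
  [((7, []), (7, [0])), ((6, []), (6, [1]))]

set_option maxRecDepth 100000 in
theorem cert17G2_ok : Cert17OK chevG2 cert17G2 := by
  decide +kernel

def cert17B2 : List ((ℕ × List ℕ) × (ℕ × List ℕ)) :=
  [((5, []), (5, [0])), ((4, []), (4, [1]))]

set_option maxRecDepth 100000 in
theorem cert17B2_ok : Cert17OK chevB2 cert17B2 := by
  decide +kernel

def cert17F4 : List ((ℕ × List ℕ) × (ℕ × List ℕ)) :=
  [((27, [0, 1]), (27, [0, 1, 0])), ((27, []), (27, [1])), ((25, []), (25, [2])), ((25, [3, 2]),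
    (25, [2, 3, 2]))]

set_option maxRecDepth 100000 in
theorem cert17F4_ok : Cert17OK chevF4 cert17F4 := by
  decide +kernel

def cert16G2 : List (ℕ × List ℕ × ℕ × ℤ × List ((ℕ × List ℕ) × (ℕ × List ℕ))) :=
  [(3, [0, 1], 5, 3, [((7, []), (7, [0])), ((5, [1]), (5, []))]),
   (0, [], 0, 0, [])]

set_option maxRecDepth 100000 in
theorem cert16G2_ok : Cert16OK chevG2 3 true cert16G2 := by
  decide +kernel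

def cert16B2 : List (ℕ × List ℕ × ℕ × ℤ × List ((ℕ × List ℕ) × (ℕ × List ℕ))) :=
  [(1, [0, 1], 3, 2, [((5, []), (5, [0])), ((3, [1]), (3, []))]),
   (0, [], 0, 0, [])]

set_option maxRecDepth 100000 in
theorem cert16B2_ok : Cert16OK chevB2 2 true cert16B2 := by
  decide +kernel

def cert16D4 : List (ℕ × List ℕ × ℕ × ℤ × List ((ℕ × List ℕ) × (ℕ × List ℕ))) :=
  [(0, [], 0, 0, [((18, []), (18, [0])), ((18, [1, 0]), (18, [0, 1, 0])), ((18, [1, 0, 2, 1]), (18,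
    [0, 1, 0, 2, 1])), ((18, [1, 0, 3, 1]), (18, [0, 1, 0, 3, 1]))]),
   (0, [], 0, 0, [((14, [0, 1]), (14, [0, 1, 0])), ((14, []), (14, [1])), ((14, [2, 1]), (14, [1,
    2, 1])), ((14, [3, 1]), (14, [1, 3, 1]))]),
   (0, [], 0, 0, [((13, [1, 0, 2, 1]), (13, [1, 0, 2, 1, 0])), ((13, [1, 2]), (13, [1, 2, 1])),
    ((13, []), (13, [2])), ((13, [1, 2, 3, 1]), (13, [1, 2, 1, 3, 1]))]),
   (0, [], 0, 0, [((12, [1, 0, 3, 1]), (12, [1, 0, 3, 1, 0])), ((12, [1, 3]), (12, [1, 3, 1])),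
    ((12, [1, 2, 3, 1]), (12, [1, 2, 3, 1, 2])), ((12, []), (12, [3]))])]

set_option maxRecDepth 100000 in
theorem cert16D4_ok : Cert16OK chevD4 1 false cert16D4 := by
  decide +kernel

def cert16F4 : List (ℕ × List ℕ × ℕ × ℤ × List ((ℕ × List ℕ) × (ℕ × List ℕ))) :=
  [(8, [0, 1, 2, 1, 3, 2], 15, 2, [((33, []), (33, [0])), ((33, [1, 0]), (33, [0, 1, 0])), ((15,
    [2, 1, 3, 2]), (15, [2, 1, 3])), ((15, [2, 1, 2, 3]), (15, [2, 1, 2]))]),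
   (3, [1, 0, 2, 1, 3, 2, 1, 0], 4, -2, [((27, [0, 1]), (27, [0, 1, 0])), ((27, []), (27, [1])),
    ((4, [0, 2, 1, 3, 2]), (4, [0, 2, 1, 3])), ((4, [0, 2, 1, 2, 3]), (4, [0, 2, 1, 2]))]),
   (0, [], 0, 0, []),
   (0, [], 0, 0, [])]

set_option maxRecDepth 100000 in
theorem cert16F4_ok : Cert16OK chevF4 2 true cert16F4 := by
  decide +kernel

def cert16E6 : List (ℕ × List ℕ × ℕ × ℤ × List ((ℕ × List ℕ) × (ℕ × List ℕ))) :=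
  [(0, [], 0, 0, [((56, []), (56, [0])), ((56, [2, 0, 3, 1, 2, 3]), (56, [0, 2, 0, 3, 1, 2, 3])),
    ((56, [2, 0]), (56, [0, 2, 0])), ((56, [2, 0, 3, 2]), (56, [0, 2, 0, 3, 2])), ((56, [2, 0, 3,
    2, 4, 3]), (56, [0, 2, 0, 3, 2, 4, 3])), ((56, [2, 0, 3, 2, 4, 3, 5, 4]), (56, [0, 2, 0, 3, 2,
    4, 3, 5, 4]))]),
   (0, [], 0, 0, [((46, [3, 1, 2, 0, 3, 2]), (46, [1, 3, 1, 2, 0, 3, 2])), ((46, []), (46, [1])),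
    ((46, [3, 1, 2, 3]), (46, [1, 3, 1, 2, 3])), ((46, [3, 1]), (46, [1, 3, 1])), ((46, [3, 1, 4,
    3]), (46, [1, 3, 1, 4, 3])), ((46, [3, 1, 4, 3, 5, 4]), (46, [1, 3, 1, 4, 3, 5, 4]))]),
   (0, [], 0, 0, [((42, [0, 2]), (42, [0, 2, 0])), ((42, [3, 1, 2, 3]), (42, [2, 3, 1, 2, 3])),
    ((42, []), (42, [2])), ((42, [3, 2]), (42, [2, 3, 2])), ((42, [3, 2, 4, 3]), (42, [2, 3, 2, 4,
    3])), ((42, [3, 2, 4, 3, 5, 4]), (42, [2, 3, 2, 4, 3, 5, 4]))]),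
   (0, [], 0, 0, [((39, [2, 0, 3, 2]), (39, [2, 0, 3, 2, 0])), ((39, [1, 3]), (39, [1, 3, 1])),
    ((39, [2, 3]), (39, [2, 3, 2])), ((39, []), (39, [3])), ((39, [4, 3]), (39, [3, 4, 3])), ((39,
    [4, 3, 5, 4]), (39, [3, 4, 3, 5, 4]))]),
   (0, [], 0, 0, [((37, [3, 2, 0, 4, 3, 2]), (37, [3, 2, 0, 4, 3, 2, 0])), ((37, [3, 1, 4, 3]),
    (37, [3, 1, 4, 3, 1])), ((37, [3, 2, 4, 3]), (37, [3, 2, 4, 3, 2])), ((37, [3, 4]), (37, [3, 4,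
    3])), ((37, []), (37, [4])), ((37, [5, 4]), (37, [4, 5, 4]))]),
   (0, [], 0, 0, [((36, [4, 3, 2, 0, 5, 4, 3, 2]), (36, [4, 3, 2, 0, 5, 4, 3, 2, 0])), ((36, [4, 3,
    1, 5, 4, 3]), (36, [4, 3, 1, 5, 4, 3, 1])), ((36, [4, 3, 2, 5, 4, 3]), (36, [4, 3, 2, 5, 4, 3,
    2])), ((36, [4, 3, 5, 4]), (36, [4, 3, 5, 4, 3])), ((36, [4, 5]), (36, [4, 5, 4])), ((36, []),
    (36, [5]))])]

set_option maxRecDepth 100000 in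
theorem cert16E6_ok : Cert16OK chevE6 1 false cert16E6 := by
  decide +kernel

def cert16E7 : List (ℕ × List ℕ × ℕ × ℤ × List ((ℕ × List ℕ) × (ℕ × List ℕ))) :=
  [(0, [], 0, 0, [((93, []), (93, [0])), ((93, [2, 0, 3, 1, 2, 3]), (93, [0, 2, 0, 3, 1, 2, 3])),
    ((93, [2, 0]), (93, [0, 2, 0])), ((93, [2, 0, 3, 2]), (93, [0, 2, 0, 3, 2])), ((93, [2, 0, 3,
    2, 4, 3]), (93, [0, 2, 0, 3, 2, 4, 3])), ((93, [2, 0, 3, 2, 4, 3, 5, 4]), (93, [0, 2, 0, 3, 2,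
    4, 3, 5, 4])), ((93, [2, 0, 3, 2, 4, 3, 5, 4, 6, 5]), (93, [0, 2, 0, 3, 2, 4, 3, 5, 4, 6,
    5]))]),
   (0, [], 0, 0, [((78, [3, 1, 2, 0, 3, 2]), (78, [1, 3, 1, 2, 0, 3, 2])), ((78, []), (78, [1])),
    ((78, [3, 1, 2, 3]), (78, [1, 3, 1, 2, 3])), ((78, [3, 1]), (78, [1, 3, 1])), ((78, [3, 1, 4,
    3]), (78, [1, 3, 1, 4, 3])), ((78, [3, 1, 4, 3, 5, 4]), (78, [1, 3, 1, 4, 3, 5, 4])), ((78, [3,
    1, 4, 3, 5, 4, 6, 5]), (78, [1, 3, 1, 4, 3, 5, 4, 6, 5]))]),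
   (0, [], 0, 0, [((73, [0, 2]), (73, [0, 2, 0])), ((73, [3, 1, 2, 3]), (73, [2, 3, 1, 2, 3])),
    ((73, []), (73, [2])), ((73, [3, 2]), (73, [2, 3, 2])), ((73, [3, 2, 4, 3]), (73, [2, 3, 2, 4,
    3])), ((73, [3, 2, 4, 3, 5, 4]), (73, [2, 3, 2, 4, 3, 5, 4])), ((73, [3, 2, 4, 3, 5, 4, 6, 5]),
    (73, [2, 3, 2, 4, 3, 5, 4, 6, 5]))]),
   (0, [], 0, 0, [((69, [2, 0, 3, 2]), (69, [2, 0, 3, 2, 0])), ((69, [1, 3]), (69, [1, 3, 1])),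
    ((69, [2, 3]), (69, [2, 3, 2])), ((69, []), (69, [3])), ((69, [4, 3]), (69, [3, 4, 3])), ((69,
    [4, 3, 5, 4]), (69, [3, 4, 3, 5, 4])), ((69, [4, 3, 5, 4, 6, 5]), (69, [3, 4, 3, 5, 4, 6,
    5]))]),
   (0, [], 0, 0, [((66, [3, 2, 0, 4, 3, 2]), (66, [3, 2, 0, 4, 3, 2, 0])), ((66, [3, 1, 4, 3]),
    (66, [3, 1, 4, 3, 1])), ((66, [3, 2, 4, 3]), (66, [3, 2, 4, 3, 2])), ((66, [3, 4]), (66, [3, 4,
    3])), ((66, []), (66, [4])), ((66, [5, 4]), (66, [4, 5, 4])), ((66, [5, 4, 6, 5]), (66, [4, 5,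
    4, 6, 5]))]),
   (0, [], 0, 0, [((64, [4, 3, 2, 0, 5, 4, 3, 2]), (64, [4, 3, 2, 0, 5, 4, 3, 2, 0])), ((64, [4, 3,
    1, 5, 4, 3]), (64, [4, 3, 1, 5, 4, 3, 1])), ((64, [4, 3, 2, 5, 4, 3]), (64, [4, 3, 2, 5, 4, 3,
    2])), ((64, [4, 3, 5, 4]), (64, [4, 3, 5, 4, 3])), ((64, [4, 5]), (64, [4, 5, 4])), ((64, []),
    (64, [5])), ((64, [6, 5]), (64, [5, 6, 5]))]),
   (0, [], 0, 0, [((63, [5, 4, 3, 2, 0, 6, 5, 4, 3, 2]), (63, [5, 4, 3, 2, 0, 6, 5, 4, 3, 2, 0])),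
    ((63, [5, 4, 3, 1, 6, 5, 4, 3]), (63, [5, 4, 3, 1, 6, 5, 4, 3, 1])), ((63, [5, 4, 3, 2, 6, 5,
    4, 3]), (63, [5, 4, 3, 2, 6, 5, 4, 3, 2])), ((63, [5, 4, 3, 6, 5, 4]), (63, [5, 4, 3, 6, 5, 4,
    3])), ((63, [5, 4, 6, 5]), (63, [5, 4, 6, 5, 4])), ((63, [5, 6]), (63, [5, 6, 5])), ((63, []),
    (63, [6]))])]

set_option maxRecDepth 100000 in
theorem cert16E7_ok : Cert16OK chevE7 1 false cert16E7 := by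
  decide +kernel

def cert16E8 : List (ℕ × List ℕ × ℕ × ℤ × List ((ℕ × List ℕ) × (ℕ × List ℕ))) :=
  [(0, [], 0, 0, [((162, []), (162, [0])), ((162, [2, 0, 3, 1, 2, 3]), (162, [0, 2, 0, 3, 1, 2,
    3])), ((162, [2, 0]), (162, [0, 2, 0])), ((162, [2, 0, 3, 2]), (162, [0, 2, 0, 3, 2])), ((162,
    [2, 0, 3, 2, 4, 3]), (162, [0, 2, 0, 3, 2, 4, 3])), ((162, [2, 0, 3, 2, 4, 3, 5, 4]), (162, [0,
    2, 0, 3, 2, 4, 3, 5, 4])), ((162, [2, 0, 3, 2, 4, 3, 5, 4, 6, 5]), (162, [0, 2, 0, 3, 2, 4, 3,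
    5, 4, 6, 5])), ((162, [2, 0, 3, 2, 4, 3, 5, 4, 6, 5, 7, 6]), (162, [0, 2, 0, 3, 2, 4, 3, 5, 4,
    6, 5, 7, 6]))]),
   (0, [], 0, 0, [((141, [3, 1, 2, 0, 3, 2]), (141, [1, 3, 1, 2, 0, 3, 2])), ((141, []), (141,
    [1])), ((141, [3, 1, 2, 3]), (141, [1, 3, 1, 2, 3])), ((141, [3, 1]), (141, [1, 3, 1])), ((141,
    [3, 1, 4, 3]), (141, [1, 3, 1, 4, 3])), ((141, [3, 1, 4, 3, 5, 4]), (141, [1, 3, 1, 4, 3, 5,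
    4])), ((141, [3, 1, 4, 3, 5, 4, 6, 5]), (141, [1, 3, 1, 4, 3, 5, 4, 6, 5])), ((141, [3, 1, 4,
    3, 5, 4, 6, 5, 7, 6]), (141, [1, 3, 1, 4, 3, 5, 4, 6, 5, 7, 6]))]),
   (0, [], 0, 0, [((135, [0, 2]), (135, [0, 2, 0])), ((135, [3, 1, 2, 3]), (135, [2, 3, 1, 2, 3])),
    ((135, []), (135, [2])), ((135, [3, 2]), (135, [2, 3, 2])), ((135, [3, 2, 4, 3]), (135, [2, 3,
    2, 4, 3])), ((135, [3, 2, 4, 3, 5, 4]), (135, [2, 3, 2, 4, 3, 5, 4])), ((135, [3, 2, 4, 3, 5,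
    4, 6, 5]), (135, [2, 3, 2, 4, 3, 5, 4, 6, 5])), ((135, [3, 2, 4, 3, 5, 4, 6, 5, 7, 6]), (135,
    [2, 3, 2, 4, 3, 5, 4, 6, 5, 7, 6]))]),
   (0, [], 0, 0, [((130, [2, 0, 3, 2]), (130, [2, 0, 3, 2, 0])), ((130, [1, 3]), (130, [1, 3, 1])),
    ((130, [2, 3]), (130, [2, 3, 2])), ((130, []), (130, [3])), ((130, [4, 3]), (130, [3, 4, 3])),
    ((130, [4, 3, 5, 4]), (130, [3, 4, 3, 5, 4])), ((130, [4, 3, 5, 4, 6, 5]), (130, [3, 4, 3, 5,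
    4, 6, 5])), ((130, [4, 3, 5, 4, 6, 5, 7, 6]), (130, [3, 4, 3, 5, 4, 6, 5, 7, 6]))]),
   (0, [], 0, 0, [((126, [3, 2, 0, 4, 3, 2]), (126, [3, 2, 0, 4, 3, 2, 0])), ((126, [3, 1, 4, 3]),
    (126, [3, 1, 4, 3, 1])), ((126, [3, 2, 4, 3]), (126, [3, 2, 4, 3, 2])), ((126, [3, 4]), (126,
    [3, 4, 3])), ((126, []), (126, [4])), ((126, [5, 4]), (126, [4, 5, 4])), ((126, [5, 4, 6, 5]),
    (126, [4, 5, 4, 6, 5])), ((126, [5, 4, 6, 5, 7, 6]), (126, [4, 5, 4, 6, 5, 7, 6]))]),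
   (0, [], 0, 0, [((123, [4, 3, 2, 0, 5, 4, 3, 2]), (123, [4, 3, 2, 0, 5, 4, 3, 2, 0])), ((123, [4,
    3, 1, 5, 4, 3]), (123, [4, 3, 1, 5, 4, 3, 1])), ((123, [4, 3, 2, 5, 4, 3]), (123, [4, 3, 2, 5,
    4, 3, 2])), ((123, [4, 3, 5, 4]), (123, [4, 3, 5, 4, 3])), ((123, [4, 5]), (123, [4, 5, 4])),
    ((123, []), (123, [5])), ((123, [6, 5]), (123, [5, 6, 5])), ((123, [6, 5, 7, 6]), (123, [5, 6,
    5, 7, 6]))]),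
   (0, [], 0, 0, [((121, [5, 4, 3, 2, 0, 6, 5, 4, 3, 2]), (121, [5, 4, 3, 2, 0, 6, 5, 4, 3, 2,
    0])), ((121, [5, 4, 3, 1, 6, 5, 4, 3]), (121, [5, 4, 3, 1, 6, 5, 4, 3, 1])), ((121, [5, 4, 3,
    2, 6, 5, 4, 3]), (121, [5, 4, 3, 2, 6, 5, 4, 3, 2])), ((121, [5, 4, 3, 6, 5, 4]), (121, [5, 4,
    3, 6, 5, 4, 3])), ((121, [5, 4, 6, 5]), (121, [5, 4, 6, 5, 4])), ((121, [5, 6]), (121, [5, 6,
    5])), ((121, []), (121, [6])), ((121, [7, 6]), (121, [6, 7, 6]))]),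
   (0, [], 0, 0, [((120, [6, 5, 4, 3, 2, 0, 7, 6, 5, 4, 3, 2]), (120, [6, 5, 4, 3, 2, 0, 7, 6, 5,
    4, 3, 2, 0])), ((120, [6, 5, 4, 3, 1, 7, 6, 5, 4, 3]), (120, [6, 5, 4, 3, 1, 7, 6, 5, 4, 3,
    1])), ((120, [6, 5, 4, 3, 2, 7, 6, 5, 4, 3]), (120, [6, 5, 4, 3, 2, 7, 6, 5, 4, 3, 2])), ((120,
    [6, 5, 4, 3, 7, 6, 5, 4]), (120, [6, 5, 4, 3, 7, 6, 5, 4, 3])), ((120, [6, 5, 4, 7, 6, 5]),
    (120, [6, 5, 4, 7, 6, 5, 4])), ((120, [6, 5, 7, 6]), (120, [6, 5, 7, 6, 5])), ((120, [6, 7]),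
    (120, [6, 7, 6])), ((120, []), (120, [7]))])]

set_option maxRecDepth 100000 in
theorem cert16E8_ok : Cert16OK chevE8 1 false cert16E8 := by
  decide +kernel

end ChevGen
end Cfsg.Agent.Lib.Helper15
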