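import Cfsg.Agent.Lib.Helper15.ChevPath
import Cfsg.Prelude.Def_ChevE7

set_option autoImplicit false

namespace Cfsg.Agent.Lib.Helper15
namespace ChevGen

open Cfsg.Lie

/-- Reflection paths from fundamental roots (or their negatives) to every root, type E7. -/
def gcertE7 : List (ℕ × List ℕ) :=
  [(32, [2, 3, 1, 4, 3, 2, 5, 4, 3, 1, 6, 5, 4, 3, 2, 0]),
   (32, [2, 3, 1, 4, 3, 2, 5, 4, 3, 1, 6, 5, 4, 3, 2]),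
   (32, [2, 3, 1, 4, 3, 2, 5, 4, 3, 1, 6, 5, 4, 3]),
   (32, [2, 3, 1, 4, 3, 2, 5, 4, 3, 1, 6, 5, 4]), (32, [2, 3, 1, 4, 3, 2, 5, 4, 3, 1, 6, 5]),
   (32, [2, 3, 1, 4, 3, 2, 5, 4, 3, 1, 6]), (32, [2, 3, 1, 4, 3, 2, 5, 4, 3, 1]),
   (32, [2, 3, 1, 4, 3, 2, 5, 4, 3, 6, 5, 4]), (32, [2, 3, 1, 4, 3, 2, 5, 4, 3, 6, 5]),
   (32, [2, 3, 1, 4, 3, 2, 5, 4, 3, 6]), (32, [2, 3, 1, 4, 3, 2, 5, 4, 3]),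
   (32, [2, 3, 1, 4, 3, 2, 5, 4, 6, 5]), (32, [2, 3, 1, 4, 3, 2, 5, 4, 6]),
   (32, [2, 3, 1, 4, 3, 2, 5, 4]), (32, [2, 3, 1, 4, 3, 2, 5, 6]), (32, [2, 3, 1, 4, 3, 2, 5]),
   (32, [2, 3, 1, 4, 3, 2]), (32, [2, 3, 1, 4, 3, 5, 4, 6, 5]), (32, [2, 3, 1, 4, 3, 5, 4, 6]),
   (32, [2, 3, 1, 4, 3, 5, 4]), (32, [2, 3, 1, 4, 3, 5, 6]), (32, [2, 3, 1, 4, 3, 5]),
   (32, [2, 3, 1, 4, 3]), (32, [2, 3, 1, 4, 5, 6]), (32, [2, 3, 1, 4, 5]), (32, [2, 3, 1, 4]),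
   (32, [2, 3, 1]), (32, [2, 3, 4, 5, 6]), (32, [2, 3, 4, 5]), (32, [2, 3, 4]), (32, [2, 3]),
   (32, [2]), (32, []), (47, [3, 2, 4, 3, 5, 4, 6, 5]), (47, [3, 2, 4, 3, 5, 4, 6]),
   (47, [3, 2, 4, 3, 5, 4]), (47, [3, 2, 4, 3, 5, 6]), (47, [3, 2, 4, 3, 5]),
   (47, [3, 2, 4, 3]), (47, [3, 2, 4, 5, 6]), (47, [3, 2, 4, 5]), (47, [3, 2, 4]), (47, [3, 2]),
   (47, [3, 4, 5, 6]), (47, [3, 4, 5]), (47, [3, 4]), (47, [3]), (47, []), (52, [3, 4, 5, 6]),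
   (52, [3, 4, 5]), (52, [3, 4]), (52, [3]), (52, []), (56, [4, 5, 6]), (56, [4, 5]), (56, [4]),
   (56, []), (59, [5, 6]), (59, [5]), (59, []), (61, [6]), (61, []), (62, []), (63, []),
   (64, []), (64, [6]), (66, []), (66, [5]), (66, [5, 6]), (69, []), (69, [4]), (69, [4, 5]),
   (69, [4, 5, 6]), (73, []), (73, [3]), (73, [3, 4]), (73, [3, 4, 5]), (73, [3, 4, 5, 6]),
   (78, []), (78, [3]), (78, [3, 4]), (78, [3, 4, 5]), (78, [3, 4, 5, 6]), (78, [3, 2]),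
   (78, [3, 2, 4]), (78, [3, 2, 4, 5]), (78, [3, 2, 4, 5, 6]), (78, [3, 2, 4, 3]),
   (78, [3, 2, 4, 3, 5]), (78, [3, 2, 4, 3, 5, 6]), (78, [3, 2, 4, 3, 5, 4]),
   (78, [3, 2, 4, 3, 5, 4, 6]), (78, [3, 2, 4, 3, 5, 4, 6, 5]), (93, []), (93, [2]),
   (93, [2, 3]), (93, [2, 3, 4]), (93, [2, 3, 4, 5]), (93, [2, 3, 4, 5, 6]), (93, [2, 3, 1]),
   (93, [2, 3, 1, 4]), (93, [2, 3, 1, 4, 5]), (93, [2, 3, 1, 4, 5, 6]), (93, [2, 3, 1, 4, 3]),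
   (93, [2, 3, 1, 4, 3, 5]), (93, [2, 3, 1, 4, 3, 5, 6]), (93, [2, 3, 1, 4, 3, 5, 4]),
   (93, [2, 3, 1, 4, 3, 5, 4, 6]), (93, [2, 3, 1, 4, 3, 5, 4, 6, 5]), (93, [2, 3, 1, 4, 3, 2]),
   (93, [2, 3, 1, 4, 3, 2, 5]), (93, [2, 3, 1, 4, 3, 2, 5, 6]), (93, [2, 3, 1, 4, 3, 2, 5, 4]),
   (93, [2, 3, 1, 4, 3, 2, 5, 4, 6]), (93, [2, 3, 1, 4, 3, 2, 5, 4, 6, 5]),
   (93, [2, 3, 1, 4, 3, 2, 5, 4, 3]), (93, [2, 3, 1, 4, 3, 2, 5, 4, 3, 6]),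
   (93, [2, 3, 1, 4, 3, 2, 5, 4, 3, 6, 5]), (93, [2, 3, 1, 4, 3, 2, 5, 4, 3, 6, 5, 4]),
   (93, [2, 3, 1, 4, 3, 2, 5, 4, 3, 1]), (93, [2, 3, 1, 4, 3, 2, 5, 4, 3, 1, 6]),
   (93, [2, 3, 1, 4, 3, 2, 5, 4, 3, 1, 6, 5]), (93, [2, 3, 1, 4, 3, 2, 5, 4, 3, 1, 6, 5, 4]),
   (93, [2, 3, 1, 4, 3, 2, 5, 4, 3, 1, 6, 5, 4, 3]),
   (93, [2, 3, 1, 4, 3, 2, 5, 4, 3, 1, 6, 5, 4, 3, 2]),
   (93, [2, 3, 1, 4, 3, 2, 5, 4, 3, 1, 6, 5, 4, 3, 2, 0])]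

set_option maxRecDepth 100000 in
theorem gcertE7_ok : GenCert chevE7 gcertE7 := by
  decide +kernel

end ChevGen
end Cfsg.Agent.Lib.Helper15
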