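import Cfsg.Agent.Lib.Helper15.ChevPath
import Cfsg.Prelude.Def_ChevE8

set_option autoImplicit false

namespace Cfsg.Agent.Lib.Helper15
namespace ChevGen

open Cfsg.Lie

/-- Reflection paths from fundamental roots (or their negatives) to every root, type E8. -/
def gcertE8 : List (ℕ × List ℕ) :=
  [(77, [2, 3, 1, 4, 3, 2, 5, 4, 3, 1, 6, 5, 4, 3, 2, 0, 7, 6, 5, 4, 3, 1, 2, 3, 4, 5, 6, 7]),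
   (77, [2, 3, 1, 4, 3, 2, 5, 4, 3, 1, 6, 5, 4, 3, 2, 0, 7, 6, 5, 4, 3, 1, 2, 3, 4, 5, 6]),
   (77, [2, 3, 1, 4, 3, 2, 5, 4, 3, 1, 6, 5, 4, 3, 2, 0, 7, 6, 5, 4, 3, 1, 2, 3, 4, 5]),
   (77, [2, 3, 1, 4, 3, 2, 5, 4, 3, 1, 6, 5, 4, 3, 2, 0, 7, 6, 5, 4, 3, 1, 2, 3, 4]),
   (77, [2, 3, 1, 4, 3, 2, 5, 4, 3, 1, 6, 5, 4, 3, 2, 0, 7, 6, 5, 4, 3, 1, 2, 3]),
   (77, [2, 3, 1, 4, 3, 2, 5, 4, 3, 1, 6, 5, 4, 3, 2, 0, 7, 6, 5, 4, 3, 1, 2]),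
   (77, [2, 3, 1, 4, 3, 2, 5, 4, 3, 1, 6, 5, 4, 3, 2, 0, 7, 6, 5, 4, 3, 1]),
   (77, [2, 3, 1, 4, 3, 2, 5, 4, 3, 1, 6, 5, 4, 3, 2, 0, 7, 6, 5, 4, 3, 2]),
   (77, [2, 3, 1, 4, 3, 2, 5, 4, 3, 1, 6, 5, 4, 3, 2, 0, 7, 6, 5, 4, 3]),
   (77, [2, 3, 1, 4, 3, 2, 5, 4, 3, 1, 6, 5, 4, 3, 2, 0, 7, 6, 5, 4]),
   (77, [2, 3, 1, 4, 3, 2, 5, 4, 3, 1, 6, 5, 4, 3, 2, 0, 7, 6, 5]),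
   (77, [2, 3, 1, 4, 3, 2, 5, 4, 3, 1, 6, 5, 4, 3, 2, 0, 7, 6]),
   (77, [2, 3, 1, 4, 3, 2, 5, 4, 3, 1, 6, 5, 4, 3, 2, 0, 7]),
   (77, [2, 3, 1, 4, 3, 2, 5, 4, 3, 1, 6, 5, 4, 3, 2, 0]),
   (77, [2, 3, 1, 4, 3, 2, 5, 4, 3, 1, 6, 5, 4, 3, 2, 7, 6, 5, 4, 3, 1]),
   (77, [2, 3, 1, 4, 3, 2, 5, 4, 3, 1, 6, 5, 4, 3, 2, 7, 6, 5, 4, 3]),
   (77, [2, 3, 1, 4, 3, 2, 5, 4, 3, 1, 6, 5, 4, 3, 2, 7, 6, 5, 4]),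
   (77, [2, 3, 1, 4, 3, 2, 5, 4, 3, 1, 6, 5, 4, 3, 2, 7, 6, 5]),
   (77, [2, 3, 1, 4, 3, 2, 5, 4, 3, 1, 6, 5, 4, 3, 2, 7, 6]),
   (77, [2, 3, 1, 4, 3, 2, 5, 4, 3, 1, 6, 5, 4, 3, 2, 7]),
   (77, [2, 3, 1, 4, 3, 2, 5, 4, 3, 1, 6, 5, 4, 3, 2]),
   (77, [2, 3, 1, 4, 3, 2, 5, 4, 3, 1, 6, 5, 4, 3, 7, 6, 5, 4]),
   (77, [2, 3, 1, 4, 3, 2, 5, 4, 3, 1, 6, 5, 4, 3, 7, 6, 5]),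
   (77, [2, 3, 1, 4, 3, 2, 5, 4, 3, 1, 6, 5, 4, 3, 7, 6]),
   (77, [2, 3, 1, 4, 3, 2, 5, 4, 3, 1, 6, 5, 4, 3, 7]),
   (77, [2, 3, 1, 4, 3, 2, 5, 4, 3, 1, 6, 5, 4, 3]),
   (77, [2, 3, 1, 4, 3, 2, 5, 4, 3, 1, 6, 5, 4, 7, 6, 5]),
   (77, [2, 3, 1, 4, 3, 2, 5, 4, 3, 1, 6, 5, 4, 7, 6]),
   (77, [2, 3, 1, 4, 3, 2, 5, 4, 3, 1, 6, 5, 4, 7]),
   (77, [2, 3, 1, 4, 3, 2, 5, 4, 3, 1, 6, 5, 4]),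
   (77, [2, 3, 1, 4, 3, 2, 5, 4, 3, 1, 6, 5, 7, 6]),
   (77, [2, 3, 1, 4, 3, 2, 5, 4, 3, 1, 6, 5, 7]), (77, [2, 3, 1, 4, 3, 2, 5, 4, 3, 1, 6, 5]),
   (77, [2, 3, 1, 4, 3, 2, 5, 4, 3, 1, 6, 7]), (77, [2, 3, 1, 4, 3, 2, 5, 4, 3, 1, 6]),
   (77, [2, 3, 1, 4, 3, 2, 5, 4, 3, 1]), (77, [2, 3, 1, 4, 3, 2, 5, 4, 3, 6, 5, 4, 7, 6, 5]),
   (77, [2, 3, 1, 4, 3, 2, 5, 4, 3, 6, 5, 4, 7, 6]),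
   (77, [2, 3, 1, 4, 3, 2, 5, 4, 3, 6, 5, 4, 7]), (77, [2, 3, 1, 4, 3, 2, 5, 4, 3, 6, 5, 4]),
   (77, [2, 3, 1, 4, 3, 2, 5, 4, 3, 6, 5, 7, 6]), (77, [2, 3, 1, 4, 3, 2, 5, 4, 3, 6, 5, 7]),
   (77, [2, 3, 1, 4, 3, 2, 5, 4, 3, 6, 5]), (77, [2, 3, 1, 4, 3, 2, 5, 4, 3, 6, 7]),
   (77, [2, 3, 1, 4, 3, 2, 5, 4, 3, 6]), (77, [2, 3, 1, 4, 3, 2, 5, 4, 3]),
   (77, [2, 3, 1, 4, 3, 2, 5, 4, 6, 5, 7, 6]), (77, [2, 3, 1, 4, 3, 2, 5, 4, 6, 5, 7]),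
   (77, [2, 3, 1, 4, 3, 2, 5, 4, 6, 5]), (77, [2, 3, 1, 4, 3, 2, 5, 4, 6, 7]),
   (77, [2, 3, 1, 4, 3, 2, 5, 4, 6]), (77, [2, 3, 1, 4, 3, 2, 5, 4]),
   (77, [2, 3, 1, 4, 3, 2, 5, 6, 7]), (77, [2, 3, 1, 4, 3, 2, 5, 6]),
   (77, [2, 3, 1, 4, 3, 2, 5]), (77, [2, 3, 1, 4, 3, 2]),
   (77, [2, 3, 1, 4, 3, 5, 4, 6, 5, 7, 6]), (77, [2, 3, 1, 4, 3, 5, 4, 6, 5, 7]),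
   (77, [2, 3, 1, 4, 3, 5, 4, 6, 5]), (77, [2, 3, 1, 4, 3, 5, 4, 6, 7]),
   (77, [2, 3, 1, 4, 3, 5, 4, 6]), (77, [2, 3, 1, 4, 3, 5, 4]), (77, [2, 3, 1, 4, 3, 5, 6, 7]),
   (77, [2, 3, 1, 4, 3, 5, 6]), (77, [2, 3, 1, 4, 3, 5]), (77, [2, 3, 1, 4, 3]),
   (77, [2, 3, 1, 4, 5, 6, 7]), (77, [2, 3, 1, 4, 5, 6]), (77, [2, 3, 1, 4, 5]),
   (77, [2, 3, 1, 4]), (77, [2, 3, 1]), (77, [2, 3, 4, 5, 6, 7]), (77, [2, 3, 4, 5, 6]),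
   (77, [2, 3, 4, 5]), (77, [2, 3, 4]), (77, [2, 3]), (77, [2]), (77, []),
   (98, [3, 2, 4, 3, 5, 4, 6, 5, 7, 6]), (98, [3, 2, 4, 3, 5, 4, 6, 5, 7]),
   (98, [3, 2, 4, 3, 5, 4, 6, 5]), (98, [3, 2, 4, 3, 5, 4, 6, 7]), (98, [3, 2, 4, 3, 5, 4, 6]),
   (98, [3, 2, 4, 3, 5, 4]), (98, [3, 2, 4, 3, 5, 6, 7]), (98, [3, 2, 4, 3, 5, 6]),
   (98, [3, 2, 4, 3, 5]), (98, [3, 2, 4, 3]), (98, [3, 2, 4, 5, 6, 7]), (98, [3, 2, 4, 5, 6]),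
   (98, [3, 2, 4, 5]), (98, [3, 2, 4]), (98, [3, 2]), (98, [3, 4, 5, 6, 7]), (98, [3, 4, 5, 6]),
   (98, [3, 4, 5]), (98, [3, 4]), (98, [3]), (98, []), (104, [3, 4, 5, 6, 7]),
   (104, [3, 4, 5, 6]), (104, [3, 4, 5]), (104, [3, 4]), (104, [3]), (104, []),
   (109, [4, 5, 6, 7]), (109, [4, 5, 6]), (109, [4, 5]), (109, [4]), (109, []),
   (113, [5, 6, 7]), (113, [5, 6]), (113, [5]), (113, []), (116, [6, 7]), (116, [6]), (116, []),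
   (118, [7]), (118, []), (119, []), (120, []), (121, []), (121, [7]), (123, []), (123, [6]),
   (123, [6, 7]), (126, []), (126, [5]), (126, [5, 6]), (126, [5, 6, 7]), (130, []), (130, [4]),
   (130, [4, 5]), (130, [4, 5, 6]), (130, [4, 5, 6, 7]), (135, []), (135, [3]), (135, [3, 4]),
   (135, [3, 4, 5]), (135, [3, 4, 5, 6]), (135, [3, 4, 5, 6, 7]), (141, []), (141, [3]),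
   (141, [3, 4]), (141, [3, 4, 5]), (141, [3, 4, 5, 6]), (141, [3, 4, 5, 6, 7]), (141, [3, 2]),
   (141, [3, 2, 4]), (141, [3, 2, 4, 5]), (141, [3, 2, 4, 5, 6]), (141, [3, 2, 4, 5, 6, 7]),
   (141, [3, 2, 4, 3]), (141, [3, 2, 4, 3, 5]), (141, [3, 2, 4, 3, 5, 6]),
   (141, [3, 2, 4, 3, 5, 6, 7]), (141, [3, 2, 4, 3, 5, 4]), (141, [3, 2, 4, 3, 5, 4, 6]),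
   (141, [3, 2, 4, 3, 5, 4, 6, 7]), (141, [3, 2, 4, 3, 5, 4, 6, 5]),
   (141, [3, 2, 4, 3, 5, 4, 6, 5, 7]), (141, [3, 2, 4, 3, 5, 4, 6, 5, 7, 6]), (162, []),
   (162, [2]), (162, [2, 3]), (162, [2, 3, 4]), (162, [2, 3, 4, 5]), (162, [2, 3, 4, 5, 6]),
   (162, [2, 3, 4, 5, 6, 7]), (162, [2, 3, 1]), (162, [2, 3, 1, 4]), (162, [2, 3, 1, 4, 5]),
   (162, [2, 3, 1, 4, 5, 6]), (162, [2, 3, 1, 4, 5, 6, 7]), (162, [2, 3, 1, 4, 3]),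
   (162, [2, 3, 1, 4, 3, 5]), (162, [2, 3, 1, 4, 3, 5, 6]), (162, [2, 3, 1, 4, 3, 5, 6, 7]),
   (162, [2, 3, 1, 4, 3, 5, 4]), (162, [2, 3, 1, 4, 3, 5, 4, 6]),
   (162, [2, 3, 1, 4, 3, 5, 4, 6, 7]), (162, [2, 3, 1, 4, 3, 5, 4, 6, 5]),
   (162, [2, 3, 1, 4, 3, 5, 4, 6, 5, 7]), (162, [2, 3, 1, 4, 3, 5, 4, 6, 5, 7, 6]),
   (162, [2, 3, 1, 4, 3, 2]), (162, [2, 3, 1, 4, 3, 2, 5]), (162, [2, 3, 1, 4, 3, 2, 5, 6]),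
   (162, [2, 3, 1, 4, 3, 2, 5, 6, 7]), (162, [2, 3, 1, 4, 3, 2, 5, 4]),
   (162, [2, 3, 1, 4, 3, 2, 5, 4, 6]), (162, [2, 3, 1, 4, 3, 2, 5, 4, 6, 7]),
   (162, [2, 3, 1, 4, 3, 2, 5, 4, 6, 5]), (162, [2, 3, 1, 4, 3, 2, 5, 4, 6, 5, 7]),
   (162, [2, 3, 1, 4, 3, 2, 5, 4, 6, 5, 7, 6]), (162, [2, 3, 1, 4, 3, 2, 5, 4, 3]),
   (162, [2, 3, 1, 4, 3, 2, 5, 4, 3, 6]), (162, [2, 3, 1, 4, 3, 2, 5, 4, 3, 6, 7]),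
   (162, [2, 3, 1, 4, 3, 2, 5, 4, 3, 6, 5]), (162, [2, 3, 1, 4, 3, 2, 5, 4, 3, 6, 5, 7]),
   (162, [2, 3, 1, 4, 3, 2, 5, 4, 3, 6, 5, 7, 6]), (162, [2, 3, 1, 4, 3, 2, 5, 4, 3, 6, 5, 4]),
   (162, [2, 3, 1, 4, 3, 2, 5, 4, 3, 6, 5, 4, 7]),
   (162, [2, 3, 1, 4, 3, 2, 5, 4, 3, 6, 5, 4, 7, 6]),
   (162, [2, 3, 1, 4, 3, 2, 5, 4, 3, 6, 5, 4, 7, 6, 5]), (162, [2, 3, 1, 4, 3, 2, 5, 4, 3, 1]),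
   (162, [2, 3, 1, 4, 3, 2, 5, 4, 3, 1, 6]), (162, [2, 3, 1, 4, 3, 2, 5, 4, 3, 1, 6, 7]),
   (162, [2, 3, 1, 4, 3, 2, 5, 4, 3, 1, 6, 5]), (162, [2, 3, 1, 4, 3, 2, 5, 4, 3, 1, 6, 5, 7]),
   (162, [2, 3, 1, 4, 3, 2, 5, 4, 3, 1, 6, 5, 7, 6]),
   (162, [2, 3, 1, 4, 3, 2, 5, 4, 3, 1, 6, 5, 4]),
   (162, [2, 3, 1, 4, 3, 2, 5, 4, 3, 1, 6, 5, 4, 7]),
   (162, [2, 3, 1, 4, 3, 2, 5, 4, 3, 1, 6, 5, 4, 7, 6]),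
   (162, [2, 3, 1, 4, 3, 2, 5, 4, 3, 1, 6, 5, 4, 7, 6, 5]),
   (162, [2, 3, 1, 4, 3, 2, 5, 4, 3, 1, 6, 5, 4, 3]),
   (162, [2, 3, 1, 4, 3, 2, 5, 4, 3, 1, 6, 5, 4, 3, 7]),
   (162, [2, 3, 1, 4, 3, 2, 5, 4, 3, 1, 6, 5, 4, 3, 7, 6]),
   (162, [2, 3, 1, 4, 3, 2, 5, 4, 3, 1, 6, 5, 4, 3, 7, 6, 5]),
   (162, [2, 3, 1, 4, 3, 2, 5, 4, 3, 1, 6, 5, 4, 3, 7, 6, 5, 4]),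
   (162, [2, 3, 1, 4, 3, 2, 5, 4, 3, 1, 6, 5, 4, 3, 2]),
   (162, [2, 3, 1, 4, 3, 2, 5, 4, 3, 1, 6, 5, 4, 3, 2, 7]),
   (162, [2, 3, 1, 4, 3, 2, 5, 4, 3, 1, 6, 5, 4, 3, 2, 7, 6]),
   (162, [2, 3, 1, 4, 3, 2, 5, 4, 3, 1, 6, 5, 4, 3, 2, 7, 6, 5]),
   (162, [2, 3, 1, 4, 3, 2, 5, 4, 3, 1, 6, 5, 4, 3, 2, 7, 6, 5, 4]),
   (162, [2, 3, 1, 4, 3, 2, 5, 4, 3, 1, 6, 5, 4, 3, 2, 7, 6, 5, 4, 3]),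
   (162, [2, 3, 1, 4, 3, 2, 5, 4, 3, 1, 6, 5, 4, 3, 2, 7, 6, 5, 4, 3, 1]),
   (162, [2, 3, 1, 4, 3, 2, 5, 4, 3, 1, 6, 5, 4, 3, 2, 0]),
   (162, [2, 3, 1, 4, 3, 2, 5, 4, 3, 1, 6, 5, 4, 3, 2, 0, 7]),
   (162, [2, 3, 1, 4, 3, 2, 5, 4, 3, 1, 6, 5, 4, 3, 2, 0, 7, 6]),
   (162, [2, 3, 1, 4, 3, 2, 5, 4, 3, 1, 6, 5, 4, 3, 2, 0, 7, 6, 5]),
   (162, [2, 3, 1, 4, 3, 2, 5, 4, 3, 1, 6, 5, 4, 3, 2, 0, 7, 6, 5, 4]),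
   (162, [2, 3, 1, 4, 3, 2, 5, 4, 3, 1, 6, 5, 4, 3, 2, 0, 7, 6, 5, 4, 3]),
   (162, [2, 3, 1, 4, 3, 2, 5, 4, 3, 1, 6, 5, 4, 3, 2, 0, 7, 6, 5, 4, 3, 2]),
   (162, [2, 3, 1, 4, 3, 2, 5, 4, 3, 1, 6, 5, 4, 3, 2, 0, 7, 6, 5, 4, 3, 1]),
   (162, [2, 3, 1, 4, 3, 2, 5, 4, 3, 1, 6, 5, 4, 3, 2, 0, 7, 6, 5, 4, 3, 1, 2]),
   (162, [2, 3, 1, 4, 3, 2, 5, 4, 3, 1, 6, 5, 4, 3, 2, 0, 7, 6, 5, 4, 3, 1, 2, 3]),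
   (162, [2, 3, 1, 4, 3, 2, 5, 4, 3, 1, 6, 5, 4, 3, 2, 0, 7, 6, 5, 4, 3, 1, 2, 3, 4]),
   (162, [2, 3, 1, 4, 3, 2, 5, 4, 3, 1, 6, 5, 4, 3, 2, 0, 7, 6, 5, 4, 3, 1, 2, 3, 4, 5]),
   (162, [2, 3, 1, 4, 3, 2, 5, 4, 3, 1, 6, 5, 4, 3, 2, 0, 7, 6, 5, 4, 3, 1, 2, 3, 4, 5, 6]),
   (162, [2, 3, 1, 4, 3, 2, 5, 4, 3, 1, 6, 5, 4, 3, 2, 0, 7, 6, 5, 4, 3, 1, 2, 3, 4, 5, 6, 7])]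

set_option maxRecDepth 100000 in
theorem gcertE8_ok : GenCert chevE8 gcertE8 := by
  decide +kernel

end ChevGen
end Cfsg.Agent.Lib.Helper15
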