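import Mathlib

set_option autoImplicit false

namespace Cfsg.Agent.Lib.Helper15

open Equiv

/-- Naturality of `FreeGroup.lift`. -/
theorem lift_comp_hom {α G H : Type*} [Group G] [Group H] (ψ : G →* H) (σ : α → G)
    (w : FreeGroup α) :
    FreeGroup.lift (fun a => ψ (σ a)) w = ψ (FreeGroup.lift σ w) := by
  have : FreeGroup.lift (fun a => ψ (σ a)) = ψ.comp (FreeGroup.lift σ) := by
    apply FreeGroup.ext_hom
    intro a
    simp
  rw [this]; rfl

/-- Residual finiteness of free groups, in permutation form: a nontrivial word acts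
nontrivially on a finite set under some assignment of permutations. -/
theorem exists_perm_rep_ne_one (w : FreeGroup ℕ) (hw : w ≠ 1) :
    ∃ (X : Type) (_ : Fintype X) (σ : ℕ → Perm X), FreeGroup.lift σ w ≠ 1 := by
  classical
  obtain ⟨L, rfl⟩ : ∃ L : List (ℕ × Bool), FreeGroup.mk L = w :=
    ⟨w.toWord, FreeGroup.mk_toWord⟩
  let S : Finset (FreeGroup ℕ) := (L.tails.map FreeGroup.mk).toFinset
  have hS : ∀ l, l <:+ L → FreeGroup.mk l ∈ S := fun l hl => by
    simp only [S, List.mem_toFinset, List.mem_map, List.mem_tails]; exact ⟨l, hl, rfl⟩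
  have h1 : (1 : FreeGroup ℕ) ∈ S := hS [] (List.nil_suffix)
  let e : ∀ a : ℕ, {x : S // FreeGroup.of a * x.1 ∈ S} ≃
      {y : S // (FreeGroup.of a)⁻¹ * y.1 ∈ S} := fun a =>
    { toFun := fun x => ⟨⟨FreeGroup.of a * x.1.1, x.2⟩, by
        show (FreeGroup.of a)⁻¹ * (FreeGroup.of a * x.1.1) ∈ S
        rw [inv_mul_cancel_left]; exact x.1.2⟩
      invFun := fun y => ⟨⟨(FreeGroup.of a)⁻¹ * y.1.1, y.2⟩, by
        show FreeGroup.of a * ((FreeGroup.of a)⁻¹ * y.1.1) ∈ S
        rw [mul_inv_cancel_left]; exact y.1.2⟩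
      left_inv := fun x => by
        apply Subtype.ext; apply Subtype.ext
        show (FreeGroup.of a)⁻¹ * (FreeGroup.of a * x.1.1) = x.1.1
        rw [inv_mul_cancel_left]
      right_inv := fun y => by
        apply Subtype.ext; apply Subtype.ext
        show FreeGroup.of a * ((FreeGroup.of a)⁻¹ * y.1.1) = y.1.1
        rw [mul_inv_cancel_left] }
  let σ : ℕ → Perm S := fun a => (e a).extendSubtype
  have hσ : ∀ (a : ℕ) (x : S) (h : FreeGroup.of a * x.1 ∈ S),
      σ a x = ⟨FreeGroup.of a * x.1, h⟩ := by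
    intro a x h
    show (e a).extendSubtype x = _
    rw [Equiv.extendSubtype_apply_of_mem (e a) x h]
    rfl
  have hσ' : ∀ (a : ℕ) (y : S) (h : (FreeGroup.of a)⁻¹ * y.1 ∈ S),
      (σ a)⁻¹ y = ⟨(FreeGroup.of a)⁻¹ * y.1, h⟩ := by
    intro a y h
    rw [Equiv.Perm.inv_eq_iff_eq]
    have h2 : FreeGroup.of a * (⟨(FreeGroup.of a)⁻¹ * y.1, h⟩ : S).1 ∈ S := by
      show FreeGroup.of a * ((FreeGroup.of a)⁻¹ * y.1) ∈ S
      rw [mul_inv_cancel_left]; exact y.2
    rw [hσ a _ h2]
    apply Subtype.ext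
    show y.1 = FreeGroup.of a * ((FreeGroup.of a)⁻¹ * y.1)
    rw [mul_inv_cancel_left]
  have key : ∀ (l : List (ℕ × Bool)) (hl : l <:+ L),
      FreeGroup.lift σ (FreeGroup.mk l) ⟨1, h1⟩ = ⟨FreeGroup.mk l, hS l hl⟩ := by
    intro l
    induction l with
    | nil =>
      intro hl
      apply Subtype.ext
      show ((FreeGroup.lift σ (1 : FreeGroup ℕ)) ⟨1, h1⟩ : S).1 = 1
      rw [map_one]; rfl
    | cons ab l ih =>
      intro hl
      obtain ⟨a, b⟩ := ab
      have hl' : l <:+ L := (List.suffix_cons _ _).trans hl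
      have hsplit : (FreeGroup.mk ((a, b) :: l) : FreeGroup ℕ)
          = FreeGroup.mk [(a, b)] * FreeGroup.mk l := rfl
      have hmem := hS _ hl
      rw [hsplit] at hmem
      have : FreeGroup.lift σ (FreeGroup.mk ((a, b) :: l)) ⟨1, h1⟩
          = FreeGroup.lift σ (FreeGroup.mk [(a, b)]) ⟨FreeGroup.mk l, hS l hl'⟩ := by
        rw [hsplit, map_mul, Equiv.Perm.mul_apply, ih hl']
      rw [this]
      cases b with
      | true =>
        have h3 : (FreeGroup.mk [(a, true)] : FreeGroup ℕ) = FreeGroup.of a := rfl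
        rw [h3] at hmem
        rw [h3, FreeGroup.lift_apply_of, hσ a _ hmem]
        rfl
      | false =>
        have h3 : (FreeGroup.mk [(a, false)] : FreeGroup ℕ) = (FreeGroup.of a)⁻¹ := rfl
        rw [h3] at hmem
        rw [h3, map_inv, FreeGroup.lift_apply_of, hσ' a _ hmem]
        rfl
  refine ⟨S, inferInstance, σ, ?_⟩
  intro hcontra
  have h2 := key L (List.suffix_refl L)
  rw [hcontra] at h2
  have h3 : (1 : FreeGroup ℕ) = FreeGroup.mk L := congrArg Subtype.val h2
  exact hw h3.symm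

/-- The symmetric group on a finite set embeds into every sufficiently large alternating
group. -/
theorem exists_hom_alternating (X : Type) [Fintype X] [DecidableEq X] (n : ℕ)
    (hn : 2 * Fintype.card X ≤ n) :
    ∃ ψ : Perm X →* alternatingGroup (Fin n), Function.Injective ψ := by
  classical
  have hcard : Fintype.card (X ⊕ X) ≤ Fintype.card (Fin n) := by
    rw [Fintype.card_sum, Fintype.card_fin]; omega
  obtain ⟨ι⟩ := Function.Embedding.nonempty_of_card_le hcard
  let d : Perm X →* Perm X × Perm X := MonoidHom.prod (MonoidHom.id _) (MonoidHom.id _)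
  let φ : Perm X →* Perm (Fin n) :=
    (Equiv.Perm.viaEmbeddingHom ι).comp ((Equiv.Perm.sumCongrHom X X).comp d)
  have hφ : Function.Injective φ := by
    refine (Equiv.Perm.viaEmbeddingHom_injective ι).comp ?_
    refine Equiv.Perm.sumCongrHom_injective.comp ?_
    intro a b hab
    exact congrArg Prod.fst hab
  have hsign : ∀ s : Perm X, φ s ∈ alternatingGroup (Fin n) := by
    intro s
    rw [Equiv.Perm.mem_alternatingGroup]
    show Equiv.Perm.sign ((Equiv.Perm.sumCongr s s).viaEmbedding ι) = 1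
    unfold Equiv.Perm.viaEmbedding
    rw [Equiv.Perm.sign_extendDomain, Equiv.Perm.sign_sumCongr]
    exact Int.units_mul_self _
  refine ⟨φ.codRestrict _ hsign, ?_⟩
  intro a b hab
  apply hφ
  exact congrArg Subtype.val hab

/-- A nontrivial word is not a law of large alternating groups. -/
theorem law_fails_alternating (w : FreeGroup ℕ) (hw : w ≠ 1) :
    ∃ N : ℕ, ∀ n : ℕ, N ≤ n →
      ∃ f : ℕ → alternatingGroup (Fin n), FreeGroup.lift f w ≠ 1 := by
  classical
  obtain ⟨X, hX, σ, hσ⟩ := exists_perm_rep_ne_one w hw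
  refine ⟨2 * Fintype.card X, fun n hn => ?_⟩
  obtain ⟨ψ, hψ⟩ := exists_hom_alternating X n hn
  refine ⟨fun a => ψ (σ a), ?_⟩
  rw [lift_comp_hom ψ σ w]
  intro h
  apply hσ
  apply hψ
  rw [h, map_one]

end Cfsg.Agent.Lib.Helper15
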