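import Mathlib
import Cfsg.Prelude.Def_Characters
import Cfsg.Prelude.Def_ParabolicCharacters
import Cfsg.Agent.Lib.Helper2.CharMore
import Cfsg.Agent.S2308

set_option autoImplicit false

namespace Cfsg.Agent.Lib.Helper15

open Cfsg.Agent.Lib.Helper2
open Matrix
open scoped ComplexConjugate

/-- Induced function computed through a set of coset representatives. -/
theorem indFun_eq_sum_reps {G : Type*} [Group G] [Fintype G] (H : Subgroup G) (θ : H → ℂ)
    (hθ : Cfsg.IsClassFunction H θ) {ι : Type*} [Fintype ι] (r : ι → G)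
    (hr : ∀ x : G, ∃! i, (r i)⁻¹ * x ∈ H) (g : G) :
    Cfsg.indFun H θ g = ∑ i, Cfsg.extendByZero H θ ((r i)⁻¹ * g * r i) := by
  classical
  have : Fintype H := Fintype.ofFinite H
  have hf : ∀ (x : G) (h : H), Cfsg.extendByZero H θ ((x * h)⁻¹ * g * (x * h)) =
      Cfsg.extendByZero H θ (x⁻¹ * g * x) := by
    intro x h
    have heq : (x * (h : G))⁻¹ * g * (x * h) = (h : G)⁻¹ * (x⁻¹ * g * x) * h := by group
    by_cases hm : x⁻¹ * g * x ∈ H
    · have hm' : (x * (h : G))⁻¹ * g * (x * h) ∈ H := by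
        rw [heq]; exact H.mul_mem (H.mul_mem (H.inv_mem h.2) hm) h.2
      rw [extendByZero_of_mem H θ hm, extendByZero_of_mem H θ hm']
      have h1 := hθ ⟨x⁻¹ * g * x, hm⟩ h⁻¹
      rw [← h1]
      congr 1
      apply Subtype.ext
      simp only [Subgroup.coe_mul, Subgroup.coe_inv, inv_inv]
      rw [heq]
    · have hm' : (x * (h : G))⁻¹ * g * (x * h) ∉ H := by
        intro hc; apply hm
        have : x⁻¹ * g * x = (h : G) * ((x * h)⁻¹ * g * (x * h)) * (h : G)⁻¹ := by group
        rw [this]; exact H.mul_mem (H.mul_mem h.2 hc) (H.inv_mem h.2)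
      rw [extendByZero_of_not_mem H θ hm, extendByZero_of_not_mem H θ hm']
  have he : Function.Bijective (fun p : ι × H => r p.1 * (p.2 : G)) := by
    constructor
    · rintro ⟨i, h⟩ ⟨j, k⟩ hij
      simp only at hij
      obtain ⟨i0, _, huniq⟩ := hr (r i * h)
      have hi : i = i0 := huniq i (by simp)
      have hj : j = i0 := huniq j (by rw [hij]; simp)
      have hij' : i = j := hi.trans hj.symm
      subst hij'
      have : (h : G) = k := mul_left_cancel hij
      rw [Subtype.ext this]
    · intro x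
      obtain ⟨i, hi, _⟩ := hr x
      exact ⟨(i, ⟨(r i)⁻¹ * x, hi⟩), by simp⟩
  rw [indFun_apply]
  have hsum : ∑ x : G, Cfsg.extendByZero H θ (x⁻¹ * g * x) =
      ∑ p : ι × H, Cfsg.extendByZero H θ ((r p.1)⁻¹ * g * r p.1) := by
    symm
    apply Fintype.sum_bijective _ he
    intro p
    exact (hf (r p.1) p.2).symm
  rw [hsum, Fintype.sum_prod_type]
  simp only [Finset.sum_const, Finset.card_univ, nsmul_eq_mul]
  rw [← Finset.mul_sum, ← mul_assoc, Nat.card_eq_fintype_card, inv_mul_cancel₀, one_mul]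
  exact_mod_cast Fintype.card_ne_zero

section Reps

variable {F : Type*} [Field F]

/-- The upper triangular subgroup of GL₂. -/
abbrev borelGL (F : Type*) [Field F] : Subgroup (GL (Fin 2) F) := Cfsg.upperTriangularGL 2 F

/-- The upper triangular subgroup of SL₂. -/
abbrev borelSL (F : Type*) [Field F] : Subgroup (Matrix.SpecialLinearGroup (Fin 2) F) :=
  (Cfsg.upperTriangularGL 2 F).comap Matrix.SpecialLinearGroup.toGL

/-- Coset representatives as matrices. -/
def repM (o : Option F) : Matrix (Fin 2) (Fin 2) F :=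
  o.elim !![0, -1; 1, 0] (fun t => !![1, 0; t, 1])

theorem det_repM (o : Option F) : (repM o).det = 1 := by
  cases o <;> simp [repM, Matrix.det_fin_two_of]

/-- Coset representatives in SL₂. -/
def repS (o : Option F) : Matrix.SpecialLinearGroup (Fin 2) F := ⟨repM o, det_repM o⟩

/-- Conjugation by a coset representative. -/
def conjM (o : Option F) (M : Matrix (Fin 2) (Fin 2) F) : Matrix (Fin 2) (Fin 2) F :=
  (repM o).adjugate * M * repM o

theorem conjM_none (M : Matrix (Fin 2) (Fin 2) F) :
    conjM none M = !![M 1 1, -M 1 0; -M 0 1, M 0 0] := by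
  ext i j
  fin_cases i <;> fin_cases j <;>
    simp [conjM, repM, Matrix.adjugate_fin_two, Matrix.mul_apply, Fin.sum_univ_two, Matrix.vecMul,
      dotProduct]

theorem conjM_some (t : F) (M : Matrix (Fin 2) (Fin 2) F) :
    conjM (some t) M = !![M 0 0 + M 0 1 * t, M 0 1;
      M 1 0 + (M 1 1 - M 0 0) * t - M 0 1 * t ^ 2, M 1 1 - M 0 1 * t] := by
  ext i j
  fin_cases i <;> fin_cases j <;>
    simp [conjM, repM, Matrix.adjugate_fin_two, Matrix.mul_apply, Fin.sum_univ_two, Matrix.vecMul,
      dotProduct] <;> ring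

theorem val_conj_SL (o : Option F) (g : Matrix.SpecialLinearGroup (Fin 2) F) :
    (((repS o)⁻¹ * g * repS o : Matrix.SpecialLinearGroup (Fin 2) F) : Matrix (Fin 2) (Fin 2) F) =
      conjM o (g : Matrix (Fin 2) (Fin 2) F) := by
  rw [Matrix.SpecialLinearGroup.coe_mul, Matrix.SpecialLinearGroup.coe_mul, Matrix.SpecialLinearGroup.coe_inv]
  rfl

theorem val_conj_GL (o : Option F) (g : GL (Fin 2) F) :
    ((Matrix.SpecialLinearGroup.toGL (repS o))⁻¹ * g * Matrix.SpecialLinearGroup.toGL (repS o)).val =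
      conjM o g.val := by
  have h1 : (Matrix.SpecialLinearGroup.toGL (repS o)).val = repM o := rfl
  have h2 : ((Matrix.SpecialLinearGroup.toGL (repS o))⁻¹).val = (repM o).adjugate := by
    rw [← map_inv]
    have h3 : (Matrix.SpecialLinearGroup.toGL (repS o)⁻¹).val =
        (((repS o)⁻¹ : Matrix.SpecialLinearGroup (Fin 2) F) : Matrix (Fin 2) (Fin 2) F) := rfl
    rw [h3, Matrix.SpecialLinearGroup.coe_inv]; rfl
  rw [Units.val_mul, Units.val_mul, h1, h2]; rfl

theorem col_repG (o : Option F) : Cfsg.Agent.S2308.col (Matrix.SpecialLinearGroup.toGL (repS o)) = o := by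
  have h1 : (Matrix.SpecialLinearGroup.toGL (repS o)).val = repM o := rfl
  unfold Cfsg.Agent.S2308.col
  rw [h1]
  cases o <;> simp [repM]

theorem repG_unique (x : GL (Fin 2) F) :
    ∃! o : Option F, (Matrix.SpecialLinearGroup.toGL (repS o))⁻¹ * x ∈ borelGL F := by
  refine ⟨Cfsg.Agent.S2308.col x, ?_, ?_⟩
  · exact (Cfsg.Agent.S2308.inv_mul_mem_B_iff _ x).mpr
      ((Cfsg.Agent.S2308.col_eq_iff _ x).mp (col_repG _))
  · intro o ho
    have := (Cfsg.Agent.S2308.col_eq_iff _ x).mpr ((Cfsg.Agent.S2308.inv_mul_mem_B_iff _ x).mp ho)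
    rw [col_repG] at this
    exact this

theorem repS_unique (x : Matrix.SpecialLinearGroup (Fin 2) F) :
    ∃! o : Option F, (repS o)⁻¹ * x ∈ borelSL F := by
  obtain ⟨o, ho, huniq⟩ := repG_unique (Matrix.SpecialLinearGroup.toGL x)
  refine ⟨o, ?_, ?_⟩
  · change Matrix.SpecialLinearGroup.toGL ((repS o)⁻¹ * x) ∈ borelGL F
    rw [map_mul, map_inv]; exact ho
  · intro o' ho'
    apply huniq
    change Matrix.SpecialLinearGroup.toGL ((repS o')⁻¹ * x) ∈ borelGL F at ho'
    rw [map_mul, map_inv] at ho'; exact ho'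

end Reps

section DiagVal

variable {F : Type*} [Field F] [DecidableEq F]

/-- Value of a function of the diagonal, extended by zero off the upper triangular matrices. -/
def diagVal (f : F → F → ℂ) (M : Matrix (Fin 2) (Fin 2) F) : ℂ :=
  if M 1 0 = 0 then f (M 0 0) (M 1 1) else 0

theorem extendByZero_GL (f : F → F → ℂ) (g : GL (Fin 2) F) :
    Cfsg.extendByZero (borelGL F)
      (fun b => f ((b : GL (Fin 2) F).val 0 0) ((b : GL (Fin 2) F).val 1 1)) g = diagVal f g.val := by
  unfold diagVal
  by_cases h : g.val 1 0 = 0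
  · rw [if_pos h, extendByZero_of_mem _ _ ((Cfsg.Agent.S2308.mem_B_iff g).mpr h)]
  · rw [if_neg h, extendByZero_of_not_mem _ _ (fun hc => h ((Cfsg.Agent.S2308.mem_B_iff g).mp hc))]

omit [DecidableEq F] in
theorem mem_borelSL_iff (g : Matrix.SpecialLinearGroup (Fin 2) F) :
    g ∈ borelSL F ↔ (g : Matrix (Fin 2) (Fin 2) F) 1 0 = 0 := by
  change Matrix.SpecialLinearGroup.toGL g ∈ borelGL F ↔ _
  rw [Cfsg.Agent.S2308.mem_B_iff]
  rfl

theorem extendByZero_SL (f : F → F → ℂ) (g : Matrix.SpecialLinearGroup (Fin 2) F) :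
    Cfsg.extendByZero (borelSL F)
      (fun b => f (((b : Matrix.SpecialLinearGroup (Fin 2) F) : Matrix (Fin 2) (Fin 2) F) 0 0)
        (((b : Matrix.SpecialLinearGroup (Fin 2) F) : Matrix (Fin 2) (Fin 2) F) 1 1)) g =
      diagVal f (g : Matrix (Fin 2) (Fin 2) F) := by
  unfold diagVal
  by_cases h : (g : Matrix (Fin 2) (Fin 2) F) 1 0 = 0
  · rw [if_pos h, extendByZero_of_mem _ _ ((mem_borelSL_iff g).mpr h)]
  · rw [if_neg h, extendByZero_of_not_mem _ _ (fun hc => h ((mem_borelSL_iff g).mp hc))]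

variable [Fintype F]

/-- The induced value, as a function of the matrix. -/
def indVal (f : F → F → ℂ) (M : Matrix (Fin 2) (Fin 2) F) : ℂ :=
  ∑ o : Option F, diagVal f (conjM o M)

theorem indVal_eq (f : F → F → ℂ) (M : Matrix (Fin 2) (Fin 2) F) :
    indVal f M = (if M 0 1 = 0 then f (M 1 1) (M 0 0) else 0) +
      ∑ t : F, (if M 1 0 + (M 1 1 - M 0 0) * t - M 0 1 * t ^ 2 = 0
        then f (M 0 0 + M 0 1 * t) (M 1 1 - M 0 1 * t) else 0) := by
  unfold indVal
  rw [Fintype.sum_option]
  simp [conjM_none, conjM_some, diagVal]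

theorem indFun_GL (f : F → F → ℂ)
    (hf : Cfsg.IsClassFunction (borelGL F)
      (fun b => f ((b : GL (Fin 2) F).val 0 0) ((b : GL (Fin 2) F).val 1 1)))
    (g : GL (Fin 2) F) :
    Cfsg.indFun (borelGL F)
      (fun b => f ((b : GL (Fin 2) F).val 0 0) ((b : GL (Fin 2) F).val 1 1)) g = indVal f g.val := by
  rw [indFun_eq_sum_reps (borelGL F) _ hf (fun o : Option F => Matrix.SpecialLinearGroup.toGL (repS o))
    repG_unique g]
  unfold indVal
  apply Finset.sum_congr rfl
  intro o _
  rw [extendByZero_GL, val_conj_GL]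

theorem indFun_SL (f : F → F → ℂ)
    (hf : Cfsg.IsClassFunction (borelSL F)
      (fun b => f (((b : Matrix.SpecialLinearGroup (Fin 2) F) : Matrix (Fin 2) (Fin 2) F) 0 0)
        (((b : Matrix.SpecialLinearGroup (Fin 2) F) : Matrix (Fin 2) (Fin 2) F) 1 1)))
    (g : Matrix.SpecialLinearGroup (Fin 2) F) :
    Cfsg.indFun (borelSL F)
      (fun b => f (((b : Matrix.SpecialLinearGroup (Fin 2) F) : Matrix (Fin 2) (Fin 2) F) 0 0)
        (((b : Matrix.SpecialLinearGroup (Fin 2) F) : Matrix (Fin 2) (Fin 2) F) 1 1)) g =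
      indVal f (g : Matrix (Fin 2) (Fin 2) F) := by
  rw [indFun_eq_sum_reps (borelSL F) _ hf (fun o : Option F => repS o) repS_unique g]
  unfold indVal
  apply Finset.sum_congr rfl
  intro o _
  rw [extendByZero_SL, val_conj_SL]

/-- Sum of the induced values over an upper triangular coset. -/
theorem sum_indVal_borel (f : F → F → ℂ) (a d : F) :
    ∑ x : F, indVal f !![a, x; 0, d] = (Fintype.card F : ℂ) * (f a d + f d a) := by
  have h1 : ∀ x : F, indVal f !![a, x; 0, d] = (if x = 0 then f d a else 0) +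
      ∑ t : F, (if (d - a) * t - x * t ^ 2 = 0 then f (a + x * t) (d - x * t) else 0) := by
    intro x; rw [indVal_eq]; simp
  simp only [h1]
  rw [Finset.sum_add_distrib, Finset.sum_ite_eq', Finset.sum_comm]
  have h2 : ∀ t : F, ∑ x : F, (if (d - a) * t - x * t ^ 2 = 0 then f (a + x * t) (d - x * t) else 0)
      = if t = 0 then (Fintype.card F : ℂ) * f a d else f d a := by
    intro t
    by_cases ht : t = 0
    · subst ht; simp
    · rw [if_neg ht]
      have h3 : ∀ x : F, (if (d - a) * t - x * t ^ 2 = 0 then f (a + x * t) (d - x * t) else 0)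
          = if x = (d - a) / t then f d a else 0 := by
        intro x
        have hiff : (d - a) * t - x * t ^ 2 = 0 ↔ x = (d - a) / t := by
          constructor
          · intro h
            rw [eq_div_iff ht]
            have h5 : t * (x * t - (d - a)) = 0 := by linear_combination (-1 : F) * h
            have h6 := (mul_eq_zero.mp h5).resolve_left ht
            linear_combination h6
          · intro h; rw [h]; field_simp; ring
        by_cases hx : x = (d - a) / t
        · rw [if_pos hx, if_pos (hiff.mpr hx)]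
          have e1 : a + x * t = d := by rw [hx]; field_simp; ring
          have e2 : d - x * t = a := by rw [hx]; field_simp; ring
          rw [e1, e2]
        · rw [if_neg hx, if_neg (fun h => hx (hiff.mp h))]
      simp only [h3]; simp
  simp only [h2]
  rw [Finset.sum_ite]
  simp only [Finset.filter_eq', Finset.mem_univ, if_true, Finset.sum_const,
    nsmul_eq_mul, Finset.card_singleton]
  have hc : (Finset.univ.filter (fun t : F => ¬ t = 0)).card = Fintype.card F - 1 := by
    rw [Finset.filter_ne' Finset.univ (0 : F), Finset.card_erase_of_mem (Finset.mem_univ _),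
      Finset.card_univ]
  rw [hc, Nat.cast_sub Fintype.card_pos]
  push_cast
  ring

end DiagVal

end Cfsg.Agent.Lib.Helper15
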