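import Mathlib
import Cfsg.Agent.Lib.Helper15.GL2Ind
import Cfsg.Agent.S0148

set_option autoImplicit false

namespace Cfsg.Agent.Lib.Helper15

open Cfsg.Agent.Lib.Helper2
open Matrix
open scoped ComplexConjugate

section Borel

variable {F : Type*} [Field F]

theorem borel_10 (b : borelGL F) : (b : GL (Fin 2) F).val 1 0 = 0 :=
  (Cfsg.Agent.S2308.mem_B_iff b.1).mp b.2

theorem borel_00_ne (b : borelGL F) : (b : GL (Fin 2) F).val 0 0 ≠ 0 := by
  have h := Cfsg.Agent.S2308.det_ne_zero' b.1
  rw [borel_10 b] at h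
  intro h0; apply h; rw [h0]; ring

theorem borel_11_ne (b : borelGL F) : (b : GL (Fin 2) F).val 1 1 ≠ 0 := by
  have h := Cfsg.Agent.S2308.det_ne_zero' b.1
  rw [borel_10 b] at h
  intro h0; apply h; rw [h0]; ring

theorem borel_mul_00 (b b' : borelGL F) :
    ((b * b' : borelGL F) : GL (Fin 2) F).val 0 0 =
      (b : GL (Fin 2) F).val 0 0 * (b' : GL (Fin 2) F).val 0 0 := by
  rw [Subgroup.coe_mul, Units.val_mul, Matrix.mul_apply, Fin.sum_univ_two, borel_10 b']; ring

theorem borel_mul_11 (b b' : borelGL F) :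
    ((b * b' : borelGL F) : GL (Fin 2) F).val 1 1 =
      (b : GL (Fin 2) F).val 1 1 * (b' : GL (Fin 2) F).val 1 1 := by
  rw [Subgroup.coe_mul, Units.val_mul, Matrix.mul_apply, Fin.sum_univ_two, borel_10 b]; ring

/-- The linear character of the upper triangular group given by two multiplicative characters. -/
noncomputable def thetaHomG (α β : MulChar F ℂ) : borelGL F →* ℂˣ where
  toFun b := Units.mk0 (α ((b : GL (Fin 2) F).val 0 0) * β ((b : GL (Fin 2) F).val 1 1))
    (mul_ne_zero ((IsUnit.mk0 _ (borel_00_ne b)).map α).ne_zero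
      ((IsUnit.mk0 _ (borel_11_ne b)).map β).ne_zero)
  map_one' := by
    apply Units.ext
    simp
  map_mul' b b' := by
    apply Units.ext
    simp only [Units.val_mk0, Units.val_mul]
    rw [borel_mul_00, borel_mul_11, map_mul, map_mul]; ring

theorem thetaG_irr (α β : MulChar F ℂ) :
    Cfsg.IsIrrCharacter (borelGL F)
      (fun b => α ((b : GL (Fin 2) F).val 0 0) * β ((b : GL (Fin 2) F).val 1 1)) :=
  isIrrCharacter_of_hom (thetaHomG α β)

theorem borelS_10 (b : borelSL F) :
    ((b : Matrix.SpecialLinearGroup (Fin 2) F) : Matrix (Fin 2) (Fin 2) F) 1 0 = 0 :=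
  (mem_borelSL_iff b.1).mp b.2

theorem borelS_det (b : borelSL F) :
    ((b : Matrix.SpecialLinearGroup (Fin 2) F) : Matrix (Fin 2) (Fin 2) F) 0 0 *
      ((b : Matrix.SpecialLinearGroup (Fin 2) F) : Matrix (Fin 2) (Fin 2) F) 1 1 = 1 := by
  have h := Matrix.SpecialLinearGroup.det_coe (b : Matrix.SpecialLinearGroup (Fin 2) F)
  rw [Matrix.det_fin_two, borelS_10 b] at h
  linear_combination h

theorem borelS_00_ne (b : borelSL F) :
    ((b : Matrix.SpecialLinearGroup (Fin 2) F) : Matrix (Fin 2) (Fin 2) F) 0 0 ≠ 0 := by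
  intro h0
  have h := borelS_det b
  rw [h0] at h; simp at h

theorem borelS_mul_00 (b b' : borelSL F) :
    (((b * b' : borelSL F) : Matrix.SpecialLinearGroup (Fin 2) F) : Matrix (Fin 2) (Fin 2) F) 0 0 =
      ((b : Matrix.SpecialLinearGroup (Fin 2) F) : Matrix (Fin 2) (Fin 2) F) 0 0 *
        ((b' : Matrix.SpecialLinearGroup (Fin 2) F) : Matrix (Fin 2) (Fin 2) F) 0 0 := by
  rw [Subgroup.coe_mul, Matrix.SpecialLinearGroup.coe_mul, Matrix.mul_apply, Fin.sum_univ_two,
    borelS_10 b']; ring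

/-- The linear character of the upper triangular group of SL₂ given by a multiplicative character. -/
noncomputable def thetaHomS (α : MulChar F ℂ) : borelSL F →* ℂˣ where
  toFun b := Units.mk0
    (α (((b : Matrix.SpecialLinearGroup (Fin 2) F) : Matrix (Fin 2) (Fin 2) F) 0 0))
    ((IsUnit.mk0 _ (borelS_00_ne b)).map α).ne_zero
  map_one' := by
    apply Units.ext
    simp
  map_mul' b b' := by
    apply Units.ext
    simp only [Units.val_mk0, Units.val_mul]
    rw [borelS_mul_00, map_mul]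

theorem thetaS_irr (α : MulChar F ℂ) :
    Cfsg.IsIrrCharacter (borelSL F)
      (fun b => α (((b : Matrix.SpecialLinearGroup (Fin 2) F) : Matrix (Fin 2) (Fin 2) F) 0 0)) :=
  isIrrCharacter_of_hom (thetaHomS α)

/-- Upper triangular elements of GL₂. -/
noncomputable def borelG (a d : Fˣ) (x : F) : borelGL F :=
  ⟨GeneralLinearGroup.mkOfDetNeZero !![(a : F), x; 0, (d : F)] (by simp [Matrix.det_fin_two_of]),
    (Cfsg.Agent.S2308.mem_B_iff _).mpr rfl⟩

theorem borelG_val (a d : Fˣ) (x : F) :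
    ((borelG a d x : borelGL F) : GL (Fin 2) F).val = !![(a : F), x; 0, (d : F)] := rfl

theorem borelG_bijective : Function.Bijective (fun p : Fˣ × Fˣ × F => borelG p.1 p.2.1 p.2.2) := by
  constructor
  · rintro ⟨a, d, x⟩ ⟨a', d', x'⟩ h
    have h1 := congrArg (fun b : borelGL F => (b : GL (Fin 2) F).val) h
    simp only [borelG_val] at h1
    have h00 := congrFun (congrFun h1 0) 0
    have h01 := congrFun (congrFun h1 0) 1
    have h11 := congrFun (congrFun h1 1) 1
    simp at h00 h01 h11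
    rw [Units.ext h00, h01, Units.ext h11]
  · intro b
    refine ⟨(Units.mk0 _ (borel_00_ne b), Units.mk0 _ (borel_11_ne b), (b : GL (Fin 2) F).val 0 1), ?_⟩
    apply Subtype.ext
    apply Units.ext
    rw [borelG_val]
    ext i j
    fin_cases i <;> fin_cases j <;> simp [borel_10 b]

/-- Upper triangular elements of SL₂. -/
def borelS (a : Fˣ) (x : F) : borelSL F :=
  ⟨⟨!![(a : F), x; 0, ((a⁻¹ : Fˣ) : F)], by simp [Matrix.det_fin_two_of]⟩,
    (mem_borelSL_iff _).mpr rfl⟩

theorem borelS_val (a : Fˣ) (x : F) :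
    (((borelS a x : borelSL F) : Matrix.SpecialLinearGroup (Fin 2) F) : Matrix (Fin 2) (Fin 2) F) =
      !![(a : F), x; 0, ((a⁻¹ : Fˣ) : F)] := rfl

theorem borelS_bijective : Function.Bijective (fun p : Fˣ × F => borelS p.1 p.2) := by
  constructor
  · rintro ⟨a, x⟩ ⟨a', x'⟩ h
    have h1 := congrArg (fun b : borelSL F =>
      ((b : Matrix.SpecialLinearGroup (Fin 2) F) : Matrix (Fin 2) (Fin 2) F)) h
    simp only [borelS_val] at h1
    have h00 := congrFun (congrFun h1 0) 0
    have h01 := congrFun (congrFun h1 0) 1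
    simp at h00 h01
    rw [Units.ext h00, h01]
  · intro b
    refine ⟨(Units.mk0 _ (borelS_00_ne b),
      ((b : Matrix.SpecialLinearGroup (Fin 2) F) : Matrix (Fin 2) (Fin 2) F) 0 1), ?_⟩
    apply Subtype.ext
    apply Subtype.ext
    rw [borelS_val]
    have hd := borelS_det b
    have h0 := borelS_00_ne b
    ext i j
    fin_cases i <;> fin_cases j <;> simp [borelS_10 b]
    field_simp
    linear_combination (-1 : F) * hd

variable [Fintype F] [DecidableEq F]

theorem sum_borelG [Fintype (borelGL F)] (φ : borelGL F → ℂ) :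
    ∑ b : borelGL F, φ b = ∑ a : Fˣ, ∑ d : Fˣ, ∑ x : F, φ (borelG a d x) := by
  rw [← Fintype.sum_bijective _ borelG_bijective (fun p => φ (borelG p.1 p.2.1 p.2.2)) φ
    (fun _ => rfl)]
  rw [Fintype.sum_prod_type]
  apply Finset.sum_congr rfl; intro a _
  rw [Fintype.sum_prod_type]

theorem card_borelG :
    Nat.card (borelGL F) = (Fintype.card F - 1) * ((Fintype.card F - 1) * Fintype.card F) := by
  rw [← Nat.card_congr (Equiv.ofBijective _ borelG_bijective), Nat.card_prod, Nat.card_prod]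
  simp [Nat.card_eq_fintype_card, Fintype.card_units]

theorem sum_borelS [Fintype (borelSL F)] (φ : borelSL F → ℂ) :
    ∑ b : borelSL F, φ b = ∑ a : Fˣ, ∑ x : F, φ (borelS a x) := by
  rw [← Fintype.sum_bijective _ borelS_bijective (fun p => φ (borelS p.1 p.2)) φ
    (fun _ => rfl)]
  rw [Fintype.sum_prod_type]

theorem card_borelS :
    Nat.card (borelSL F) = (Fintype.card F - 1) * Fintype.card F := by
  rw [← Nat.card_congr (Equiv.ofBijective _ borelS_bijective), Nat.card_prod]
  simp [Nat.card_eq_fintype_card, Fintype.card_units]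

/-- Frobenius reciprocity for functions of the diagonal, GL₂. -/
theorem frob_diag_GL (f : F → F → ℂ) (χ : GL (Fin 2) F → ℂ)
    (hχ : Cfsg.IsClassFunction (GL (Fin 2) F) χ) :
    Cfsg.classInner (Cfsg.indFun (borelGL F)
        (fun b => f ((b : GL (Fin 2) F).val 0 0) ((b : GL (Fin 2) F).val 1 1))) χ =
      (((Fintype.card F : ℂ) - 1) * (((Fintype.card F : ℂ) - 1) * (Fintype.card F : ℂ)))⁻¹ *
        ∑ a : Fˣ, ∑ d : Fˣ, f a d * conj (∑ x : F, χ (borelG a d x)) := by
  classical
  have : Fintype (borelGL F) := Fintype.ofFinite _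
  rw [frobenius_reciprocity _ _ _ hχ, classInner_def, sum_borelG, card_borelG]
  congr 1
  · rw [Nat.cast_mul, Nat.cast_mul, Nat.cast_sub Fintype.card_pos, Nat.cast_one]
  · apply Finset.sum_congr rfl; intro a _; apply Finset.sum_congr rfl; intro d _
    rw [map_sum, Finset.mul_sum]
    apply Finset.sum_congr rfl; intro x _
    rfl

/-- Frobenius reciprocity for functions of the diagonal, SL₂. -/
theorem frob_diag_SL (f : F → F → ℂ) (χ : Matrix.SpecialLinearGroup (Fin 2) F → ℂ)
    (hχ : Cfsg.IsClassFunction (Matrix.SpecialLinearGroup (Fin 2) F) χ) :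
    Cfsg.classInner (Cfsg.indFun (borelSL F)
        (fun b => f (((b : Matrix.SpecialLinearGroup (Fin 2) F) : Matrix (Fin 2) (Fin 2) F) 0 0)
          (((b : Matrix.SpecialLinearGroup (Fin 2) F) : Matrix (Fin 2) (Fin 2) F) 1 1))) χ =
      ((((Fintype.card F : ℂ) - 1) * (Fintype.card F : ℂ)))⁻¹ *
        ∑ a : Fˣ, f a ((a⁻¹ : Fˣ) : F) * conj (∑ x : F, χ (borelS a x)) := by
  classical
  have : Fintype (borelSL F) := Fintype.ofFinite _
  rw [frobenius_reciprocity _ _ _ hχ, classInner_def, sum_borelS, card_borelS]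
  congr 1
  · rw [Nat.cast_mul, Nat.cast_sub Fintype.card_pos, Nat.cast_one]
  · apply Finset.sum_congr rfl; intro a _
    rw [map_sum, Finset.mul_sum]
    apply Finset.sum_congr rfl; intro x _
    rfl

end Borel

section MulCharSums

variable {F : Type*} [Field F] [Fintype F] [DecidableEq F]

theorem sum_units_eq (f : F → ℂ) (h0 : f 0 = 0) : ∑ a : Fˣ, f a = ∑ a : F, f a := by
  have h1 : ∑ a : Fˣ, f a = ∑ a : {a : F // a ≠ 0}, f a :=
    Fintype.sum_equiv unitsEquivNeZero _ _ (fun a => rfl)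
  rw [h1, ← Finset.sum_subtype (Finset.univ.filter (fun a : F => a ≠ 0)) (by simp) f]
  rw [Finset.sum_filter]
  apply Finset.sum_congr rfl
  intro a _
  by_cases ha : a = 0 <;> simp [ha, h0]

theorem sum_units_mulChar (α β : MulChar F ℂ) :
    ∑ a : Fˣ, α a * conj (β a) = if α = β then ((Fintype.card F : ℂ) - 1) else 0 := by
  have h1 : ∀ a : F, α a * conj (β a) = (α * β⁻¹) a := by
    intro a
    rw [MulChar.mul_apply, ← MulChar.star_apply' β a]; rfl
  rw [sum_units_eq (fun a => α a * conj (β a)) (by simp [MulChar.map_zero])]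
  simp only [h1]
  split_ifs with h
  · subst h
    rw [mul_inv_cancel, MulChar.sum_one_eq_card_units, Fintype.card_units,
      Nat.cast_sub Fintype.card_pos, Nat.cast_one]
  · apply MulChar.sum_eq_zero_of_ne_one
    intro hc; apply h; exact mul_inv_eq_one.mp hc

theorem card_mulChar : Nat.card (MulChar F ℂ) = Fintype.card F - 1 := by
  rw [MulChar.card_eq_card_units_of_hasEnoughRootsOfUnity F ℂ, Nat.card_eq_fintype_card,
    Fintype.card_units]

theorem sum_mulChar_units [Fintype (MulChar F ℂ)] (a b : Fˣ) :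
    ∑ α : MulChar F ℂ, α a * conj (α b) = if a = b then ((Fintype.card F : ℂ) - 1) else 0 := by
  have h1 : ∀ α : MulChar F ℂ, α a * conj (α b) = α ((a * b⁻¹ : Fˣ) : F) := by
    intro α
    have : conj (α (b : F)) = α⁻¹ (b : F) := MulChar.star_apply' α b
    rw [this, MulChar.inv_apply', Units.val_mul, map_mul, Units.val_inv_eq_inv_val]
  simp only [h1]
  split_ifs with h
  · subst h
    simp only [mul_inv_cancel, Units.val_one, map_one, Finset.sum_const, Finset.card_univ,
      nsmul_eq_mul, mul_one]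
    have := card_mulChar (F := F)
    rw [Nat.card_eq_fintype_card] at this
    rw [this, Nat.cast_sub Fintype.card_pos, Nat.cast_one]
  · have hc : ((a * b⁻¹ : Fˣ) : F) ≠ 1 := by
      intro hc; apply h
      have : a * b⁻¹ = 1 := Units.ext hc
      exact mul_inv_eq_one.mp this
    obtain ⟨χ, hχ⟩ := MulChar.exists_apply_ne_one_of_hasEnoughRootsOfUnity F ℂ hc
    refine eq_zero_of_mul_eq_self_left hχ ?_
    simp only [Finset.mul_sum, ← MulChar.mul_apply]
    exact Fintype.sum_bijective _ (Group.mulLeft_bijective χ) _ _ fun χ' ↦ rfl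

omit [DecidableEq F] in
theorem card_sub_one_ne_zero : ((Fintype.card F : ℂ) - 1) ≠ 0 := by
  have h := Fintype.one_lt_card (α := F)
  have h2 : ((Fintype.card F - 1 : ℕ) : ℂ) ≠ 0 := by
    rw [Nat.cast_ne_zero]; omega
  rwa [Nat.cast_sub Fintype.card_pos, Nat.cast_one] at h2

/-- A function on the units orthogonal to all multiplicative characters vanishes. -/
theorem mulChar_dual [Fintype (MulChar F ℂ)] (R : Fˣ → ℂ)
    (h : ∀ α : MulChar F ℂ, ∑ a : Fˣ, α a * R a = 0) (a₀ : Fˣ) : R a₀ = 0 := by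
  have h1 : ∑ α : MulChar F ℂ, conj (α a₀) * ∑ a : Fˣ, α a * R a = 0 := by simp [h]
  have h2 : ∑ α : MulChar F ℂ, conj (α a₀) * ∑ a : Fˣ, α a * R a =
      ∑ a : Fˣ, R a * ∑ α : MulChar F ℂ, α a * conj (α a₀) := by
    simp only [Finset.mul_sum]
    rw [Finset.sum_comm]
    apply Finset.sum_congr rfl; intro a _; apply Finset.sum_congr rfl; intro α _; ring
  rw [h2] at h1
  simp only [sum_mulChar_units] at h1
  simp only [mul_ite, mul_zero, Finset.sum_ite_eq', Finset.mem_univ, if_true] at h1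
  exact (mul_eq_zero.mp h1).resolve_right card_sub_one_ne_zero

/-- An algebraic integer solving `n + k z = 0` forces `k ∣ n`. -/
theorem dvd_of_isIntegral (n k : ℕ) (hk : 0 < k) (z : ℂ) (hz : IsIntegral ℤ z)
    (h : (n : ℂ) + k * z = 0) : k ∣ n := by
  have hk' : (k : ℂ) ≠ 0 := by exact_mod_cast hk.ne'
  have hz' : z = algebraMap ℚ ℂ (-(n : ℚ) / k) := by
    have : z = -(n : ℂ) / k := by field_simp; linear_combination h
    rw [this]; push_cast; rfl
  rw [hz'] at hz
  have hz2 : IsIntegral ℤ (-(n : ℚ) / k) :=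
    (isIntegral_algebraMap_iff (algebraMap ℚ ℂ).injective).mp hz
  obtain ⟨y, hy⟩ := IsIntegrallyClosed.isIntegral_iff.mp hz2
  have hkq : (k : ℚ) ≠ 0 := by exact_mod_cast hk.ne'
  have h3 : (n : ℚ) = -(y : ℚ) * k := by
    have : (y : ℚ) = -(n : ℚ) / k := hy
    rw [this]; field_simp
  have h4 : (n : ℤ) = -y * k := by exact_mod_cast h3
  have h5 : (k : ℤ) ∣ (n : ℤ) := ⟨-y, by rw [h4]; ring⟩
  exact Int.natCast_dvd_natCast.mp h5

end MulCharSums

end Cfsg.Agent.Lib.Helper15
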