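import Mathlib
import Cfsg.Agent.Lib.Helper15.GL2Borel
import Cfsg.Agent.Lib.Helper15.GL2Classes
import Cfsg.Agent.Lib.Helper2.CharOrtho

set_option autoImplicit false

namespace Cfsg.Agent.Lib.Helper15

open Cfsg.Agent.Lib.Helper2
open Matrix
open scoped ComplexConjugate

theorem classInner_sub_right' {G : Type*} [Group G] [Fintype G] (φ ψ₁ ψ₂ : G → ℂ) :
    Cfsg.classInner φ (ψ₁ - ψ₂) = Cfsg.classInner φ ψ₁ - Cfsg.classInner φ ψ₂ := by
  simp only [classInner_def, Pi.sub_apply, map_sub, mul_sub, Finset.sum_sub_distrib]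

theorem ite_and_mul (p q : Prop) [Decidable p] [Decidable q] :
    (if p ∧ q then (1 : ℂ) else 0) = (if p then 1 else 0) * (if q then 1 else 0) := by
  by_cases hp : p <;> by_cases hq : q <;> simp [hp, hq]

theorem ite_const_mul (p : Prop) [Decidable p] (c : ℂ) :
    (if p then c else 0) = c * (if p then 1 else 0) := by
  by_cases hp : p <;> simp [hp]

section GL2Chars

variable {F : Type*} [Field F] [Fintype F] [DecidableEq F]

/-- The principal series characters of GL₂. -/
noncomputable def piG (α β : MulChar F ℂ) : GL (Fin 2) F → ℂ :=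
  Cfsg.indFun (borelGL F)
    (fun b => α ((b : GL (Fin 2) F).val 0 0) * β ((b : GL (Fin 2) F).val 1 1))

/-- The linear characters of GL₂. -/
noncomputable def linG (α : MulChar F ℂ) : GL (Fin 2) F → ℂ := fun g => α g.val.det

/-- The twisted Steinberg characters of GL₂. -/
noncomputable def stG (α : MulChar F ℂ) : GL (Fin 2) F → ℂ := piG α α - linG α

theorem piG_apply (α β : MulChar F ℂ) (g : GL (Fin 2) F) :
    piG α β g = indVal (fun a d => α a * β d) g.val :=
  indFun_GL (fun a d => α a * β d) (isClassFunction_of_isIrrCharacter (thetaG_irr α β)) g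

theorem piG_isCharacter (α β : MulChar F ℂ) : Cfsg.IsCharacter (GL (Fin 2) F) (piG α β) :=
  Cfsg.Agent.S0148.result _ _ (isCharacter_of_isIrrCharacter (thetaG_irr α β))

theorem piG_isClassFunction (α β : MulChar F ℂ) :
    Cfsg.IsClassFunction (GL (Fin 2) F) (piG α β) := indFun_isClassFunction _ _

omit [Fintype F] [DecidableEq F] in
theorem linG_irr (α : MulChar F ℂ) : Cfsg.IsIrrCharacter (GL (Fin 2) F) (linG α) := by
  have h := isIrrCharacter_of_hom
    (α.toUnitHom.comp (GeneralLinearGroup.det : GL (Fin 2) F →* Fˣ))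
  convert h using 1
  funext g
  simp [linG]

theorem indVal_one (f : F → F → ℂ) :
    indVal f (1 : Matrix (Fin 2) (Fin 2) F) = ((Fintype.card F : ℂ) + 1) * f 1 1 := by
  rw [indVal_eq]; simp; ring

theorem piG_one (α β : MulChar F ℂ) : piG α β 1 = (Fintype.card F : ℂ) + 1 := by
  rw [piG_apply, Units.val_one, indVal_one]; simp

omit [Fintype F] [DecidableEq F] in
theorem linG_one (α : MulChar F ℂ) : linG α 1 = 1 := by
  simp [linG]

theorem stG_one (α : MulChar F ℂ) : stG α 1 = (Fintype.card F : ℂ) := by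
  unfold stG
  rw [Pi.sub_apply, piG_one, linG_one]; ring

omit [DecidableEq F] in
theorem card_ne_zero' : (Fintype.card F : ℂ) ≠ 0 := by
  exact_mod_cast Fintype.card_ne_zero

theorem classInner_piG_piG (α β α' β' : MulChar F ℂ) :
    Cfsg.classInner (piG α β) (piG α' β') =
      (if α = α' ∧ β = β' then 1 else 0) + (if α = β' ∧ β = α' then 1 else 0) := by
  unfold piG
  rw [frob_diag_GL (fun a d => α a * β d) _ (indFun_isClassFunction _ _)]
  have h1 : ∀ a d : Fˣ, ∑ x : F, Cfsg.indFun (borelGL F)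
      (fun b => α' ((b : GL (Fin 2) F).val 0 0) * β' ((b : GL (Fin 2) F).val 1 1)) (borelG a d x) =
      (Fintype.card F : ℂ) * (α' a * β' d + α' d * β' a) := by
    intro a d
    have : ∀ x : F, Cfsg.indFun (borelGL F)
        (fun b => α' ((b : GL (Fin 2) F).val 0 0) * β' ((b : GL (Fin 2) F).val 1 1)) (borelG a d x) =
        indVal (fun a d => α' a * β' d) !![(a : F), x; 0, (d : F)] := fun x => by
      rw [← borelG_val]; exact piG_apply α' β' _
    simp only [this]
    rw [sum_indVal_borel]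
  simp only [h1]
  have h2 : ∑ a : Fˣ, ∑ d : Fˣ, α a * β d *
      conj ((Fintype.card F : ℂ) * (α' a * β' d + α' d * β' a)) =
      (Fintype.card F : ℂ) * ((∑ a : Fˣ, α a * conj (α' a)) * (∑ d : Fˣ, β d * conj (β' d)) +
        (∑ a : Fˣ, α a * conj (β' a)) * (∑ d : Fˣ, β d * conj (α' d))) := by
    rw [Finset.sum_mul_sum, Finset.sum_mul_sum, ← Finset.sum_add_distrib, Finset.mul_sum]
    apply Finset.sum_congr rfl; intro a _
    rw [← Finset.sum_add_distrib, Finset.mul_sum]
    apply Finset.sum_congr rfl; intro d _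
    simp only [map_mul, map_add, Complex.conj_natCast]
    ring
  rw [h2]
  simp only [sum_units_mulChar]
  have hq := card_ne_zero' (F := F)
  have hq1 := card_sub_one_ne_zero (F := F)
  rw [ite_and_mul, ite_and_mul, ite_const_mul (α = α'), ite_const_mul (β = β'),
    ite_const_mul (α = β'), ite_const_mul (β = α')]
  generalize (if α = α' then (1 : ℂ) else 0) = x1
  generalize (if β = β' then (1 : ℂ) else 0) = x2
  generalize (if α = β' then (1 : ℂ) else 0) = x3
  generalize (if β = α' then (1 : ℂ) else 0) = x4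
  field_simp

theorem classInner_piG_linG (α β γ : MulChar F ℂ) :
    Cfsg.classInner (piG α β) (linG γ) = if α = γ ∧ β = γ then 1 else 0 := by
  unfold piG
  rw [frob_diag_GL (fun a d => α a * β d) _ (isClassFunction_of_isIrrCharacter (linG_irr γ))]
  have h1 : ∀ a d : Fˣ, ∑ x : F, linG γ (borelG a d x) = (Fintype.card F : ℂ) * (γ a * γ d) := by
    intro a d
    simp [linG, borelG_val, Matrix.det_fin_two_of]
  simp only [h1]
  have h2 : ∑ a : Fˣ, ∑ d : Fˣ, α a * β d * conj ((Fintype.card F : ℂ) * (γ a * γ d)) =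
      (Fintype.card F : ℂ) * ((∑ a : Fˣ, α a * conj (γ a)) * (∑ d : Fˣ, β d * conj (γ d))) := by
    rw [Finset.sum_mul_sum, Finset.mul_sum]
    apply Finset.sum_congr rfl; intro a _
    rw [Finset.mul_sum]
    apply Finset.sum_congr rfl; intro d _
    simp only [map_mul, Complex.conj_natCast]
    ring
  rw [h2]
  simp only [sum_units_mulChar]
  have hq := card_ne_zero' (F := F)
  have hq1 := card_sub_one_ne_zero (F := F)
  rw [ite_and_mul, ite_const_mul (α = γ), ite_const_mul (β = γ)]
  generalize (if α = γ then (1 : ℂ) else 0) = x1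
  generalize (if β = γ then (1 : ℂ) else 0) = x2
  field_simp

theorem classInner_linG_piG (γ α β : MulChar F ℂ) :
    Cfsg.classInner (linG γ) (piG α β) = if α = γ ∧ β = γ then 1 else 0 := by
  rw [← classInner_conj_symm, classInner_piG_linG]; split_ifs <;> simp

theorem piG_irr {α β : MulChar F ℂ} (h : α ≠ β) :
    Cfsg.IsIrrCharacter (GL (Fin 2) F) (piG α β) := by
  apply isIrrCharacter_of_norm_one (piG_isCharacter α β)
  rw [classInner_piG_piG]
  simp [h]

theorem stG_isCharacter (α : MulChar F ℂ) : Cfsg.IsCharacter (GL (Fin 2) F) (stG α) := by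
  apply isCharacter_of_nat_inner _
    (IsClassFunction.sub (piG_isClassFunction α α) (isClassFunction_of_isIrrCharacter (linG_irr α)))
  intro ψ hψ
  rw [classInner_sub_left]
  obtain ⟨n, hn⟩ := classInner_isCharacter_nat (piG_isCharacter α α)
    (isCharacter_of_isIrrCharacter hψ)
  rw [classInner_irr (linG_irr α) hψ]
  by_cases h : linG α = ψ
  · subst h
    rw [classInner_piG_linG]
    exact ⟨0, by simp⟩
  · rw [if_neg h, hn]; exact ⟨n, by simp⟩

theorem classInner_stG_stG (α : MulChar F ℂ) : Cfsg.classInner (stG α) (stG α) = 1 := by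
  unfold stG
  rw [classInner_sub_left, classInner_sub_right', classInner_sub_right', classInner_piG_piG,
    classInner_piG_linG, classInner_linG_piG, classInner_irr_self (linG_irr α)]
  simp

theorem stG_irr (α : MulChar F ℂ) : Cfsg.IsIrrCharacter (GL (Fin 2) F) (stG α) :=
  isIrrCharacter_of_norm_one (stG_isCharacter α) (classInner_stG_stG α)

/-- Every irreducible character of GL₂ is linear, a Steinberg twist, principal series or
cuspidal. -/
theorem GL2_irr_cases (χ : GL (Fin 2) F → ℂ) (hχ : Cfsg.IsIrrCharacter (GL (Fin 2) F) χ) :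
    (∃ α : MulChar F ℂ, χ = linG α) ∨ (∃ α : MulChar F ℂ, χ = stG α) ∨
      (∃ α β : MulChar F ℂ, α ≠ β ∧ χ = piG α β) ∨
      (∀ α β : MulChar F ℂ, Cfsg.classInner (piG α β) χ = 0) := by
  by_contra hcon
  push Not at hcon
  obtain ⟨h1, h2, h3, α, β, h4⟩ := hcon
  by_cases hαβ : α = β
  · subst hαβ
    have hsum : piG α α = linG α + stG α := by unfold stG; abel
    rw [hsum, classInner_add_left, classInner_irr (linG_irr α) hχ,
      classInner_irr (stG_irr α) hχ] at h4
    by_cases e1 : linG α = χ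
    · exact h1 α e1.symm
    · by_cases e2 : stG α = χ
      · exact h2 α e2.symm
      · simp [e1, e2] at h4
  · rw [classInner_irr (piG_irr hαβ) hχ] at h4
    by_cases e : piG α β = χ
    · exact h3 α β hαβ e.symm
    · simp [e] at h4

/-- A class function orthogonal to the principal series sums to zero over upper triangular
cosets. -/
theorem cusp_sum_borel (χ : GL (Fin 2) F → ℂ) (hχ : Cfsg.IsClassFunction (GL (Fin 2) F) χ)
    (h : ∀ α β : MulChar F ℂ, Cfsg.classInner (piG α β) χ = 0) (a d : Fˣ) :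
    ∑ x : F, χ (borelG a d x) = 0 := by
  classical
  have : Fintype (MulChar F ℂ) := Fintype.ofFinite _
  have hq := card_ne_zero' (F := F)
  have h1 : ∀ α β : MulChar F ℂ,
      ∑ a : Fˣ, ∑ d : Fˣ, α a * β d * conj (∑ x : F, χ (borelG a d x)) = 0 := by
    intro α β
    have := h α β
    unfold piG at this
    rw [frob_diag_GL (fun a d => α a * β d) χ hχ] at this
    exact (mul_eq_zero.mp this).resolve_left (inv_ne_zero (mul_ne_zero card_sub_one_ne_zero
      (mul_ne_zero card_sub_one_ne_zero hq)))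
  have h2 : ∀ (β : MulChar F ℂ) (a : Fˣ), ∑ d : Fˣ, β d * conj (∑ x : F, χ (borelG a d x)) = 0 := by
    intro β
    apply mulChar_dual
    intro α
    rw [← h1 α β]
    apply Finset.sum_congr rfl; intro a _
    rw [Finset.mul_sum]
    apply Finset.sum_congr rfl; intro d _; ring
  have h3 : conj (∑ x : F, χ (borelG a d x)) = 0 :=
    mulChar_dual (fun d => conj (∑ x : F, χ (borelG a d x))) (fun β => h2 β a) d
  exact (map_eq_zero _).mp h3

omit [Fintype F] [DecidableEq F] in
theorem classFun_borel_unip (χ : GL (Fin 2) F → ℂ) (hχ : Cfsg.IsClassFunction (GL (Fin 2) F) χ)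
    (x : F) (hx : x ≠ 0) : χ (borelG (1 : Fˣ) (1 : Fˣ) x : borelGL F) = χ (borelG (1 : Fˣ) (1 : Fˣ) (1 : F) : borelGL F) := by
  have key : ((borelG 1 1 x : borelGL F) : GL (Fin 2) F) =
      ((borelG (Units.mk0 x hx) 1 0 : borelGL F) : GL (Fin 2) F) * (borelG 1 1 1 : borelGL F) *
        ((borelG (Units.mk0 x hx) 1 0 : borelGL F) : GL (Fin 2) F)⁻¹ := by
    rw [eq_mul_inv_iff_mul_eq]
    apply Units.ext
    rw [Units.val_mul, Units.val_mul, borelG_val, borelG_val, borelG_val]
    ext i j; fin_cases i <;> fin_cases j <;> simp [Matrix.mul_apply, Fin.sum_univ_two]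
  rw [key]; exact hχ _ _

omit [Fintype F] [DecidableEq F] in
theorem classFun_borel_reg (χ : GL (Fin 2) F → ℂ) (hχ : Cfsg.IsClassFunction (GL (Fin 2) F) χ)
    (a d : Fˣ) (had : a ≠ d) (x : F) : χ (borelG a d x) = χ (borelG a d 0) := by
  have hne : (d : F) - a ≠ 0 := sub_ne_zero.mpr (fun h => had (Units.ext h.symm))
  have key : ((borelG a d x : borelGL F) : GL (Fin 2) F) =
      ((borelG 1 1 (x / ((d : F) - a)) : borelGL F) : GL (Fin 2) F) * (borelG a d 0 : borelGL F) *
        ((borelG 1 1 (x / ((d : F) - a)) : borelGL F) : GL (Fin 2) F)⁻¹ := by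
    rw [eq_mul_inv_iff_mul_eq]
    apply Units.ext
    rw [Units.val_mul, Units.val_mul, borelG_val, borelG_val, borelG_val]
    ext i j; fin_cases i <;> fin_cases j <;> simp [Matrix.mul_apply, Fin.sum_univ_two]
    field_simp; ring
  rw [key]; exact hχ _ _

omit [Fintype F] [DecidableEq F] in
theorem borelG_one : ((borelG 1 1 0 : borelGL F) : GL (Fin 2) F) = 1 := by
  apply Units.ext; rw [borelG_val]; ext i j; fin_cases i <;> fin_cases j <;> simp

theorem cusp_unip (χ : GL (Fin 2) F → ℂ) (hχ : Cfsg.IsClassFunction (GL (Fin 2) F) χ)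
    (h : ∀ α β : MulChar F ℂ, Cfsg.classInner (piG α β) χ = 0) :
    χ 1 + ((Fintype.card F : ℂ) - 1) * χ (borelG (1 : Fˣ) (1 : Fˣ) (1 : F) : borelGL F) = 0 := by
  have h1 := cusp_sum_borel χ hχ h 1 1
  rw [← Finset.add_sum_erase Finset.univ _ (Finset.mem_univ (0 : F))] at h1
  have h2 : ∑ x ∈ Finset.univ.erase (0 : F), χ (borelG 1 1 x) =
      ((Fintype.card F : ℂ) - 1) * χ (borelG (1 : Fˣ) (1 : Fˣ) (1 : F) : borelGL F) := by
    rw [Finset.sum_congr rfl (fun x hx => classFun_borel_unip χ hχ x (Finset.ne_of_mem_erase hx))]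
    rw [Finset.sum_const, Finset.card_erase_of_mem (Finset.mem_univ _), Finset.card_univ,
      nsmul_eq_mul, Nat.cast_sub Fintype.card_pos, Nat.cast_one]
  rw [h2, borelG_one] at h1; exact h1

theorem cusp_reg (χ : GL (Fin 2) F → ℂ) (hχ : Cfsg.IsClassFunction (GL (Fin 2) F) χ)
    (h : ∀ α β : MulChar F ℂ, Cfsg.classInner (piG α β) χ = 0) (a d : Fˣ) (had : a ≠ d) :
    χ (borelG a d 0) = 0 := by
  have h1 := cusp_sum_borel χ hχ h a d
  rw [Finset.sum_congr rfl (fun x _ => classFun_borel_reg χ hχ a d had x)] at h1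
  rw [Finset.sum_const, Finset.card_univ, nsmul_eq_mul] at h1
  exact (mul_eq_zero.mp h1).resolve_left card_ne_zero'

theorem cusp_degree_dvd (χ : GL (Fin 2) F → ℂ) (hχ : Cfsg.IsIrrCharacter (GL (Fin 2) F) χ)
    (h : ∀ α β : MulChar F ℂ, Cfsg.classInner (piG α β) χ = 0) (n : ℕ) (hn : χ 1 = n) :
    (Fintype.card F - 1) ∣ n := by
  have hcl := isClassFunction_of_isIrrCharacter hχ
  obtain ⟨m, ρ, hirr, rfl⟩ := hχ
  have hint : IsIntegral ℤ (ρ.character (borelG (1 : Fˣ) (1 : Fˣ) (1 : F) : borelGL F)) :=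
    char_isIntegral ρ _
  have h1 := cusp_unip ρ.character hcl h
  rw [hn] at h1
  apply dvd_of_isIntegral n (Fintype.card F - 1)
    (by have := Fintype.one_lt_card (α := F); omega) _ hint
  rw [Nat.cast_sub Fintype.card_pos, Nat.cast_one]; exact h1

end GL2Chars

end Cfsg.Agent.Lib.Helper15
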