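import Mathlib
import Cfsg.Agent.Lib.Helper15.GL2Chars

set_option autoImplicit false

namespace Cfsg.Agent.Lib.Helper15

open Cfsg.Agent.Lib.Helper2
open Matrix
open scoped ComplexConjugate

/-- Sum of the squares of the degrees of the irreducible characters. -/
theorem sum_deg_sq {G : Type*} [Group G] [Fintype G] [Fintype (Cfsg.IrrCharacter G)] :
    ∑ χ : Cfsg.IrrCharacter G, (χ : G → ℂ) 1 * conj ((χ : G → ℂ) 1) = (Nat.card G : ℂ) := by
  rw [column_orthogonality, colFun_of_isConj (IsConj.refl 1)]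
  congr 1
  have : Subgroup.centralizer ({1} : Set G) = ⊤ := by
    ext x; simp [Subgroup.mem_centralizer_iff]
  rw [this, Subgroup.card_top]

theorem gl2_arith (q a b c e X : ℕ) (hq : 2 ≤ q) (ha : a = q - 1) (hb : b = q - 1)
    (hc : c * 2 = (q - 1) * (q - 1) - (q - 1))
    (H1 : a + b + c + e = q ^ 2 - 1)
    (H2 : a * 1 + b * q ^ 2 + c * (q + 1) ^ 2 + X = (q ^ 2 - 1) * (q ^ 2 - q)) :
    X = e * (q - 1) ^ 2 ∧ 2 * e = q * (q - 1) ∧ 2 * c = (q - 1) * (q - 2) := by
  obtain ⟨k, rfl⟩ := Nat.exists_eq_add_of_le hq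
  have e1 : 2 + k - 1 = k + 1 := by omega
  have e2 : 2 + k - 2 = k := by omega
  have e3 : (2 + k) ^ 2 - 1 = k ^ 2 + 4 * k + 3 := by
    have : (2 + k) ^ 2 = k ^ 2 + 4 * k + 4 := by ring
    omega
  have e4 : (2 + k) ^ 2 - (2 + k) = k ^ 2 + 3 * k + 2 := by
    have : (2 + k) ^ 2 = k ^ 2 + 4 * k + 4 := by ring
    omega
  have e5 : (k + 1) * (k + 1) - (k + 1) = (k + 1) * k := by
    have : (k + 1) * (k + 1) = (k + 1) * k + (k + 1) := by ring
    omega
  rw [e1] at ha hb hc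
  rw [e5] at hc
  rw [e3] at H1
  rw [e3, e4] at H2
  rw [e1, e2]
  subst ha hb
  have H1' : ((k : ℤ) + 1) + (k + 1) + c + e = k ^ 2 + 4 * k + 3 := by exact_mod_cast H1
  have H2' : ((k : ℤ) + 1) * 1 + (k + 1) * (2 + k) ^ 2 + c * (2 + k + 1) ^ 2 + X =
      (k ^ 2 + 4 * k + 3) * (k ^ 2 + 3 * k + 2) := by exact_mod_cast H2
  have hc' : (c : ℤ) * 2 = (k + 1) * k := by exact_mod_cast hc
  refine ⟨?_, ?_, ?_⟩
  · have : (X : ℤ) = e * (k + 1) ^ 2 := by
      linear_combination H2' - (k + 1) ^ 2 * H1' - 2 * (k + 2) * hc'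
    exact_mod_cast this
  · have : (2 : ℤ) * e = (2 + k) * (k + 1) := by
      linear_combination 2 * H1' - hc'
    exact_mod_cast this
  · have : (2 : ℤ) * c = (k + 1) * k := by
      linear_combination hc'
    exact_mod_cast this

section GL2Count

variable {F : Type*} [Field F] [Fintype F] [DecidableEq F]

theorem indVal_diag (f : F → F → ℂ) (a d : F) (had : a ≠ d) :
    indVal f !![a, 0; 0, d] = f d a + f a d := by
  rw [indVal_eq]
  have hne : d - a ≠ 0 := sub_ne_zero.mpr (Ne.symm had)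
  have h1 : ∀ t : F, (if (!![a, 0; 0, d] : Matrix (Fin 2) (Fin 2) F) 1 0 +
      ((!![a, 0; 0, d] : Matrix (Fin 2) (Fin 2) F) 1 1 -
        (!![a, 0; 0, d] : Matrix (Fin 2) (Fin 2) F) 0 0) * t -
        (!![a, 0; 0, d] : Matrix (Fin 2) (Fin 2) F) 0 1 * t ^ 2 = 0
      then f ((!![a, 0; 0, d] : Matrix (Fin 2) (Fin 2) F) 0 0 +
        (!![a, 0; 0, d] : Matrix (Fin 2) (Fin 2) F) 0 1 * t)
        ((!![a, 0; 0, d] : Matrix (Fin 2) (Fin 2) F) 1 1 -
          (!![a, 0; 0, d] : Matrix (Fin 2) (Fin 2) F) 0 1 * t) else 0) =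
      if t = 0 then f a d else 0 := by
    intro t
    by_cases ht : t = 0
    · subst ht; simp
    · simp [ht, hne]
  simp only [h1]
  simp

theorem piG_eq_iff (α β α' β' : MulChar F ℂ) :
    piG α β = piG α' β' ↔ (α = α' ∧ β = β') ∨ (α = β' ∧ β = α') := by
  constructor
  · intro h
    have h1 := classInner_piG_piG α β α' β'
    rw [← h, classInner_piG_piG] at h1
    by_contra hcon
    push Not at hcon
    have c1 : ¬ (α = α' ∧ β = β') := fun hc => hcon.1 hc.1 hc.2
    have c2 : ¬ (α = β' ∧ β = α') := fun hc => hcon.2 hc.1 hc.2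
    rw [if_neg c1, if_neg c2] at h1
    simp at h1
    by_cases hc : β = α
    · simp [hc] at h1
    · simp [hc] at h1
  · rintro (⟨rfl, rfl⟩ | ⟨rfl, rfl⟩)
    · rfl
    · by_cases h : α = β
      · rw [h]
      · have h1 := classInner_irr (piG_irr h) (piG_irr (Ne.symm h))
        rw [classInner_piG_piG] at h1
        by_contra hne
        rw [if_neg hne] at h1
        simp [h] at h1

omit [Fintype F] [DecidableEq F] in
theorem linG_injective : Function.Injective (linG : MulChar F ℂ → GL (Fin 2) F → ℂ) := by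
  intro α β h
  ext a
  have h1 := congrFun h ((borelG a 1 0 : borelGL F) : GL (Fin 2) F)
  simpa [linG, borelG_val, Matrix.det_fin_two_of] using h1

theorem stG_diag (α : MulChar F ℂ) (a d : Fˣ) (had : a ≠ d) :
    stG α ((borelG a d 0 : borelGL F) : GL (Fin 2) F) = α a * α d := by
  unfold stG
  rw [Pi.sub_apply, piG_apply, borelG_val,
    indVal_diag _ _ _ (by intro h; exact had (Units.ext h))]
  simp [linG, borelG_val, Matrix.det_fin_two_of]; ring

theorem stG_injective : Function.Injective (stG : MulChar F ℂ → GL (Fin 2) F → ℂ) := by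
  intro α β h
  ext a
  by_cases ha : a = 1
  · subst ha; simp
  · have h1 := congrFun h ((borelG a 1 0 : borelGL F) : GL (Fin 2) F)
    rw [stG_diag α a 1 ha, stG_diag β a 1 ha] at h1
    simpa using h1

/-- The count of the irreducible characters of GL₂ by type, and the degree of the cuspidal
ones. -/
theorem GL2_count :
    (∀ χ : GL (Fin 2) F → ℂ, Cfsg.IsIrrCharacter (GL (Fin 2) F) χ →
      (∀ α β : MulChar F ℂ, Cfsg.classInner (piG α β) χ = 0) →
        χ 1 = (Fintype.card F : ℂ) - 1) ∧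
    Nat.card {χ : Cfsg.IrrCharacter (GL (Fin 2) F) //
      ∃ α : MulChar F ℂ, (χ : GL (Fin 2) F → ℂ) = linG α} = Fintype.card F - 1 ∧
    Nat.card {χ : Cfsg.IrrCharacter (GL (Fin 2) F) //
      ∃ α : MulChar F ℂ, (χ : GL (Fin 2) F → ℂ) = stG α} = Fintype.card F - 1 ∧
    2 * Nat.card {χ : Cfsg.IrrCharacter (GL (Fin 2) F) //
      ∃ α β : MulChar F ℂ, α ≠ β ∧ (χ : GL (Fin 2) F → ℂ) = piG α β} =
        (Fintype.card F - 1) * (Fintype.card F - 2) ∧
    2 * Nat.card {χ : Cfsg.IrrCharacter (GL (Fin 2) F) //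
      ∀ α β : MulChar F ℂ, Cfsg.classInner (piG α β) (χ : GL (Fin 2) F → ℂ) = 0} =
        Fintype.card F * (Fintype.card F - 1) := by
  classical
  have : Fintype (Cfsg.IrrCharacter (GL (Fin 2) F)) := Fintype.ofFinite _
  have : Fintype (MulChar F ℂ) := Fintype.ofFinite _
  have hq2 : 2 ≤ Fintype.card F := Fintype.one_lt_card
  have hcardM : Fintype.card (MulChar F ℂ) = Fintype.card F - 1 := by
    rw [← Nat.card_eq_fintype_card, card_mulChar]
  -- degree function
  have hdeg : ∀ ψ : Cfsg.IrrCharacter (GL (Fin 2) F), ∃ n : ℕ, 0 < n ∧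
      (ψ : GL (Fin 2) F → ℂ) 1 = n := fun ψ => irr_apply_one ψ.2
  choose deg hdeg_pos hdeg_eq using hdeg
  -- the four classes
  set Lf : Finset (Cfsg.IrrCharacter (GL (Fin 2) F)) :=
    Finset.univ.filter (fun ψ => ∃ α : MulChar F ℂ, (ψ : GL (Fin 2) F → ℂ) = linG α) with hLf
  set Sf : Finset (Cfsg.IrrCharacter (GL (Fin 2) F)) :=
    Finset.univ.filter (fun ψ => ∃ α : MulChar F ℂ, (ψ : GL (Fin 2) F → ℂ) = stG α) with hSf
  set Pf : Finset (Cfsg.IrrCharacter (GL (Fin 2) F)) :=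
    Finset.univ.filter (fun ψ => ∃ α β : MulChar F ℂ, α ≠ β ∧
      (ψ : GL (Fin 2) F → ℂ) = piG α β) with hPf
  set Cf : Finset (Cfsg.IrrCharacter (GL (Fin 2) F)) :=
    Finset.univ.filter (fun ψ => ∀ α β : MulChar F ℂ,
      Cfsg.classInner (piG α β) (ψ : GL (Fin 2) F → ℂ) = 0) with hCf
  have degL : ∀ ψ ∈ Lf, deg ψ = 1 := by
    intro ψ hψ
    obtain ⟨α, hα⟩ := (Finset.mem_filter.mp hψ).2
    have := hdeg_eq ψ
    rw [hα, linG_one] at this
    exact_mod_cast this.symm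
  have degS : ∀ ψ ∈ Sf, deg ψ = Fintype.card F := by
    intro ψ hψ
    obtain ⟨α, hα⟩ := (Finset.mem_filter.mp hψ).2
    have := hdeg_eq ψ
    rw [hα, stG_one] at this
    exact_mod_cast this.symm
  have degP : ∀ ψ ∈ Pf, deg ψ = Fintype.card F + 1 := by
    intro ψ hψ
    obtain ⟨α, β, hne, hα⟩ := (Finset.mem_filter.mp hψ).2
    have := hdeg_eq ψ
    rw [hα, piG_one] at this
    exact_mod_cast this.symm
  have cuspL : ∀ ψ ∈ Cf, ψ ∉ Lf := by
    intro ψ hψ hL
    obtain ⟨α, hα⟩ := (Finset.mem_filter.mp hL).2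
    have h0 := (Finset.mem_filter.mp hψ).2 α α
    rw [hα, classInner_piG_linG] at h0
    simp at h0
  have cuspS : ∀ ψ ∈ Cf, ψ ∉ Sf := by
    intro ψ hψ hS
    obtain ⟨α, hα⟩ := (Finset.mem_filter.mp hS).2
    have h0 := (Finset.mem_filter.mp hψ).2 α α
    rw [hα] at h0
    unfold stG at h0
    rw [classInner_sub_right', classInner_piG_piG, classInner_piG_linG] at h0
    norm_num at h0
  have cuspP : ∀ ψ ∈ Cf, ψ ∉ Pf := by
    intro ψ hψ hP
    obtain ⟨α, β, hne, hα⟩ := (Finset.mem_filter.mp hP).2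
    have h0 := (Finset.mem_filter.mp hψ).2 α β
    rw [hα, classInner_piG_piG] at h0
    simp [hne] at h0
  have hcover : ∀ ψ : Cfsg.IrrCharacter (GL (Fin 2) F), ψ ∈ Lf ∨ ψ ∈ Sf ∨ ψ ∈ Pf ∨ ψ ∈ Cf := by
    intro ψ
    rcases GL2_irr_cases ψ.1 ψ.2 with h | h | h | h
    · left; exact Finset.mem_filter.mpr ⟨Finset.mem_univ _, h⟩
    · right; left; exact Finset.mem_filter.mpr ⟨Finset.mem_univ _, h⟩
    · right; right; left; exact Finset.mem_filter.mpr ⟨Finset.mem_univ _, h⟩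
    · right; right; right; exact Finset.mem_filter.mpr ⟨Finset.mem_univ _, h⟩
  have dLS : Disjoint Lf Sf := Finset.disjoint_left.mpr (fun ψ h1 h2 => by
    have := degL ψ h1; have := degS ψ h2; omega)
  have dLP : Disjoint Lf Pf := Finset.disjoint_left.mpr (fun ψ h1 h2 => by
    have := degL ψ h1; have := degP ψ h2; omega)
  have dSP : Disjoint Sf Pf := Finset.disjoint_left.mpr (fun ψ h1 h2 => by
    have := degS ψ h1; have := degP ψ h2; omega)
  have dLC : Disjoint Lf Cf := Finset.disjoint_left.mpr (fun ψ h1 h2 => cuspL ψ h2 h1)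
  have dSC : Disjoint Sf Cf := Finset.disjoint_left.mpr (fun ψ h1 h2 => cuspS ψ h2 h1)
  have dPC : Disjoint Pf Cf := Finset.disjoint_left.mpr (fun ψ h1 h2 => cuspP ψ h2 h1)
  have huniv : (Finset.univ : Finset (Cfsg.IrrCharacter (GL (Fin 2) F))) = Lf ∪ Sf ∪ Pf ∪ Cf := by
    ext ψ
    simp only [Finset.mem_univ, Finset.mem_union, true_iff]
    rcases hcover ψ with h | h | h | h <;> tauto
  have d1 : Disjoint (Lf ∪ Sf) Pf := Finset.disjoint_union_left.mpr ⟨dLP, dSP⟩
  have d2 : Disjoint (Lf ∪ Sf ∪ Pf) Cf :=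
    Finset.disjoint_union_left.mpr ⟨Finset.disjoint_union_left.mpr ⟨dLC, dSC⟩, dPC⟩
  have hcardI : Fintype.card (Cfsg.IrrCharacter (GL (Fin 2) F)) = Fintype.card F ^ 2 - 1 := by
    rw [← Nat.card_eq_fintype_card, card_irr_eq_card_conjClasses, card_conjClasses_GL2]
  have H1 : Lf.card + Sf.card + Pf.card + Cf.card = Fintype.card F ^ 2 - 1 := by
    rw [← hcardI, ← Finset.card_univ, huniv, Finset.card_union_of_disjoint d2,
      Finset.card_union_of_disjoint d1, Finset.card_union_of_disjoint dLS]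
  -- sum of squares
  have hsq : ∑ ψ : Cfsg.IrrCharacter (GL (Fin 2) F), deg ψ ^ 2 =
      (Fintype.card F ^ 2 - 1) * (Fintype.card F ^ 2 - Fintype.card F) := by
    have h1 := sum_deg_sq (G := GL (Fin 2) F)
    have h2 : ∀ ψ : Cfsg.IrrCharacter (GL (Fin 2) F),
        (ψ : GL (Fin 2) F → ℂ) 1 * conj ((ψ : GL (Fin 2) F → ℂ) 1) = ((deg ψ ^ 2 : ℕ) : ℂ) := by
      intro ψ
      rw [hdeg_eq ψ, Complex.conj_natCast]; push_cast; ring
    simp only [h2] at h1
    rw [← Nat.cast_sum] at h1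
    have h3 := Nat.cast_injective h1
    rw [h3, Matrix.card_GL_field, Fin.prod_univ_two]
    simp
  have H2 : Lf.card * 1 + Sf.card * Fintype.card F ^ 2 + Pf.card * (Fintype.card F + 1) ^ 2 +
      ∑ ψ ∈ Cf, deg ψ ^ 2 = (Fintype.card F ^ 2 - 1) * (Fintype.card F ^ 2 - Fintype.card F) := by
    rw [← hsq, huniv, Finset.sum_union d2, Finset.sum_union d1, Finset.sum_union dLS]
    rw [Finset.sum_congr rfl (fun ψ hψ => by rw [degL ψ hψ] : ∀ ψ ∈ Lf, deg ψ ^ 2 = 1 ^ 2),
      Finset.sum_congr rfl (fun ψ hψ => by rw [degS ψ hψ] :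
        ∀ ψ ∈ Sf, deg ψ ^ 2 = Fintype.card F ^ 2),
      Finset.sum_congr rfl (fun ψ hψ => by rw [degP ψ hψ] :
        ∀ ψ ∈ Pf, deg ψ ^ 2 = (Fintype.card F + 1) ^ 2)]
    simp only [Finset.sum_const, smul_eq_mul, one_pow]
  -- cardinalities
  have hLcard : Lf.card = Fintype.card F - 1 := by
    have : Lf = Finset.univ.image (fun α : MulChar F ℂ =>
        (⟨linG α, linG_irr α⟩ : Cfsg.IrrCharacter (GL (Fin 2) F))) := by
      ext ψ
      simp only [hLf, Finset.mem_filter, Finset.mem_univ, true_and, Finset.mem_image]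
      constructor
      · rintro ⟨α, hα⟩; exact ⟨α, Subtype.ext hα.symm⟩
      · rintro ⟨α, hα⟩; exact ⟨α, by rw [← hα]⟩
    rw [this, Finset.card_image_of_injective _ (fun α β h => linG_injective (congrArg Subtype.val h)),
      Finset.card_univ, hcardM]
  have hScard : Sf.card = Fintype.card F - 1 := by
    have : Sf = Finset.univ.image (fun α : MulChar F ℂ =>
        (⟨stG α, stG_irr α⟩ : Cfsg.IrrCharacter (GL (Fin 2) F))) := by
      ext ψ
      simp only [hSf, Finset.mem_filter, Finset.mem_univ, true_and, Finset.mem_image]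
      constructor
      · rintro ⟨α, hα⟩; exact ⟨α, Subtype.ext hα.symm⟩
      · rintro ⟨α, hα⟩; exact ⟨α, by rw [← hα]⟩
    rw [this, Finset.card_image_of_injective _ (fun α β h => stG_injective (congrArg Subtype.val h)),
      Finset.card_univ, hcardM]
  have hPcard : Pf.card * 2 = (Fintype.card F - 1) * (Fintype.card F - 1) - (Fintype.card F - 1) := by
    set D : Finset (MulChar F ℂ × MulChar F ℂ) := (Finset.univ : Finset (MulChar F ℂ)).offDiag
      with hD
    set ιP : MulChar F ℂ × MulChar F ℂ → Cfsg.IrrCharacter (GL (Fin 2) F) := fun p =>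
      if h : p.1 ≠ p.2 then ⟨piG p.1 p.2, piG_irr h⟩ else ⟨linG 1, linG_irr 1⟩ with hιP
    have hι : ∀ p ∈ D, (ιP p : GL (Fin 2) F → ℂ) = piG p.1 p.2 := by
      intro p hp
      have hne : p.1 ≠ p.2 := (Finset.mem_offDiag.mp hp).2.2
      simp only [hιP, dif_pos hne]
    have hPim : Pf = D.image ιP := by
      ext ψ
      simp only [hPf, Finset.mem_filter, Finset.mem_univ, true_and, Finset.mem_image]
      constructor
      · rintro ⟨α, β, hne, hα⟩
        have hmem : (α, β) ∈ D := Finset.mem_offDiag.mpr ⟨Finset.mem_univ _, Finset.mem_univ _, hne⟩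
        exact ⟨(α, β), hmem, Subtype.ext (by rw [hι _ hmem, hα])⟩
      · rintro ⟨p, hp, hpψ⟩
        exact ⟨p.1, p.2, (Finset.mem_offDiag.mp hp).2.2, by rw [← hpψ, hι p hp]⟩
    have hfib : ∀ ψ ∈ D.image ιP, (D.filter (fun p => ιP p = ψ)).card = 2 := by
      intro ψ hψ
      obtain ⟨p, hp, rfl⟩ := Finset.mem_image.mp hψ
      have hne : p.1 ≠ p.2 := (Finset.mem_offDiag.mp hp).2.2
      have : D.filter (fun p' => ιP p' = ιP p) = {p, p.swap} := by
        ext p'
        simp only [Finset.mem_filter, Finset.mem_insert, Finset.mem_singleton]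
        constructor
        · rintro ⟨hp', heq⟩
          have h1 : piG p'.1 p'.2 = piG p.1 p.2 := by
            rw [← hι p' hp', ← hι p hp, heq]
          rcases (piG_eq_iff _ _ _ _).mp h1 with ⟨e1, e2⟩ | ⟨e1, e2⟩
          · left; exact Prod.ext e1 e2
          · right; exact Prod.ext e1 e2
        · rintro (rfl | rfl)
          · exact ⟨hp, rfl⟩
          · have hp' : p.swap ∈ D :=
              Finset.mem_offDiag.mpr ⟨Finset.mem_univ _, Finset.mem_univ _, Ne.symm hne⟩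
            refine ⟨hp', Subtype.ext ?_⟩
            rw [hι _ hp', hι _ hp]
            exact (piG_eq_iff _ _ _ _).mpr (Or.inr ⟨rfl, rfl⟩)
      rw [this, Finset.card_pair]
      intro h
      exact hne (congrArg Prod.fst h)
    have hcard := Finset.card_eq_sum_card_image ιP D
    rw [Finset.sum_congr rfl hfib, Finset.sum_const, smul_eq_mul, ← hPim, hD,
      Finset.offDiag_card, Finset.card_univ, hcardM] at hcard
    exact hcard.symm
  obtain ⟨hX, hC2, hP2⟩ := gl2_arith (Fintype.card F) Lf.card Sf.card Pf.card Cf.card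
    (∑ ψ ∈ Cf, deg ψ ^ 2) hq2 hLcard hScard hPcard H1 H2
  -- degrees of the cuspidal characters
  have hcuspdeg : ∀ ψ ∈ Cf, deg ψ = Fintype.card F - 1 := by
    have hle : ∀ ψ ∈ Cf, (Fintype.card F - 1) ^ 2 ≤ deg ψ ^ 2 := by
      intro ψ hψ
      have hdvd := cusp_degree_dvd ψ.1 ψ.2 (Finset.mem_filter.mp hψ).2 (deg ψ) (hdeg_eq ψ)
      exact Nat.pow_le_pow_left (Nat.le_of_dvd (hdeg_pos ψ) hdvd) 2
    have hsum : ∑ ψ ∈ Cf, (Fintype.card F - 1) ^ 2 = ∑ ψ ∈ Cf, deg ψ ^ 2 := by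
      rw [hX, Finset.sum_const, smul_eq_mul]
    intro ψ hψ
    have := (Finset.sum_eq_sum_iff_of_le hle).mp hsum ψ hψ
    exact (Nat.pow_left_injective (by norm_num : (2 : ℕ) ≠ 0) this).symm
  refine ⟨?_, ?_, ?_, ?_, ?_⟩
  · intro χ hχ hc
    have hmem : (⟨χ, hχ⟩ : Cfsg.IrrCharacter (GL (Fin 2) F)) ∈ Cf :=
      Finset.mem_filter.mpr ⟨Finset.mem_univ _, hc⟩
    have h1 : χ 1 = ((deg ⟨χ, hχ⟩ : ℕ) : ℂ) := hdeg_eq ⟨χ, hχ⟩
    rw [hcuspdeg _ hmem] at h1
    rw [h1, Nat.cast_sub Fintype.card_pos, Nat.cast_one]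
  · rw [Nat.card_eq_fintype_card, Fintype.card_subtype]; exact hLcard
  · rw [Nat.card_eq_fintype_card, Fintype.card_subtype]; exact hScard
  · rw [Nat.card_eq_fintype_card, Fintype.card_subtype]; exact hP2
  · rw [Nat.card_eq_fintype_card, Fintype.card_subtype]; exact hC2

end GL2Count

end Cfsg.Agent.Lib.Helper15
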