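import Mathlib
import Cfsg.Agent.Lib.Helper15.GL2Count

set_option autoImplicit false

namespace Cfsg.Agent.Lib.Helper15

open Cfsg.Agent.Lib.Helper2
open Matrix
open scoped ComplexConjugate

section GL2Values

variable {F : Type*} [Field F] [Fintype F] [DecidableEq F]

theorem indVal_elliptic (f : F → F → ℂ) (M : Matrix (Fin 2) (Fin 2) F)
    (hM : ∀ (c : F) (v : Fin 2 → F), v ≠ 0 → M.mulVec v ≠ c • v) : indVal f M = 0 := by
  rw [indVal_eq]
  have h1 : M 0 1 ≠ 0 := by
    intro h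
    apply hM (M 1 1) ![0, 1] (by intro hv; have := congrFun hv 1; simp at this)
    ext i
    fin_cases i <;> simp [Matrix.mulVec, dotProduct, Fin.sum_univ_two, h]
  rw [if_neg h1, zero_add]
  apply Finset.sum_eq_zero
  intro t _
  rw [if_neg]
  intro h
  apply hM (M 0 0 + M 0 1 * t) ![1, t] (by intro hv; have := congrFun hv 0; simp at this)
  ext i
  fin_cases i
  · simp [Matrix.mulVec, dotProduct, Fin.sum_univ_two]
  · simp [Matrix.mulVec, dotProduct, Fin.sum_univ_two]
    linear_combination h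

theorem indVal_unip (f : F → F → ℂ) (a x : F) (hx : x ≠ 0) :
    indVal f !![a, x; 0, a] = f a a := by
  rw [indVal_eq]
  have h1 : ∀ t : F, (if (!![a, x; 0, a] : Matrix (Fin 2) (Fin 2) F) 1 0 +
      ((!![a, x; 0, a] : Matrix (Fin 2) (Fin 2) F) 1 1 -
        (!![a, x; 0, a] : Matrix (Fin 2) (Fin 2) F) 0 0) * t -
        (!![a, x; 0, a] : Matrix (Fin 2) (Fin 2) F) 0 1 * t ^ 2 = 0
      then f ((!![a, x; 0, a] : Matrix (Fin 2) (Fin 2) F) 0 0 +
        (!![a, x; 0, a] : Matrix (Fin 2) (Fin 2) F) 0 1 * t)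
        ((!![a, x; 0, a] : Matrix (Fin 2) (Fin 2) F) 1 1 -
          (!![a, x; 0, a] : Matrix (Fin 2) (Fin 2) F) 0 1 * t) else 0) =
      if t = 0 then f a a else 0 := by
    intro t
    by_cases ht : t = 0
    · subst ht; simp
    · simp [ht, hx]
  simp only [h1]
  simp [hx]

omit [DecidableEq F] in
theorem mulChar_norm (α : MulChar F ℂ) (a : Fˣ) : ‖α (a : F)‖ = 1 := by
  apply Complex.norm_eq_one_of_pow_eq_one (n := Fintype.card F - 1)
  · rw [← map_pow, FiniteField.pow_card_sub_one_eq_one (a : F) a.ne_zero, map_one]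
  · have := Fintype.one_lt_card (α := F); omega

/-- Every irreducible character of GL₂ is linear, a Steinberg twist, principal series or
cuspidal of degree `q - 1`. -/
theorem GL2_irr_cases' (χ : GL (Fin 2) F → ℂ) (hχ : Cfsg.IsIrrCharacter (GL (Fin 2) F) χ) :
    (∃ α : MulChar F ℂ, χ = linG α) ∨ (∃ α : MulChar F ℂ, χ = stG α) ∨
      (∃ α β : MulChar F ℂ, α ≠ β ∧ χ = piG α β) ∨
      ((∀ α β : MulChar F ℂ, Cfsg.classInner (piG α β) χ = 0) ∧
        χ 1 = (Fintype.card F : ℂ) - 1) := by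
  rcases GL2_irr_cases χ hχ with h | h | h | h
  · exact Or.inl h
  · exact Or.inr (Or.inl h)
  · exact Or.inr (Or.inr (Or.inl h))
  · exact Or.inr (Or.inr (Or.inr ⟨h, GL2_count.1 χ hχ h⟩))

omit [Fintype F] [DecidableEq F] in
theorem GL_eq_borelG (g : GL (Fin 2) F) (h10 : g.val 1 0 = 0) :
    ∃ (a d : Fˣ), (a : F) = g.val 0 0 ∧ (d : F) = g.val 1 1 ∧
      g = ((borelG a d (g.val 0 1) : borelGL F) : GL (Fin 2) F) := by
  have hmem : g ∈ borelGL F := (Cfsg.Agent.S2308.mem_B_iff g).mpr h10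
  refine ⟨Units.mk0 _ (borel_00_ne ⟨g, hmem⟩), Units.mk0 _ (borel_11_ne ⟨g, hmem⟩), rfl, rfl, ?_⟩
  apply Units.ext
  rw [borelG_val]
  ext i j
  fin_cases i <;> fin_cases j <;> simp [h10]

theorem piG_elliptic (α β : MulChar F ℂ) (g : GL (Fin 2) F)
    (hg : ∀ (c : F) (v : Fin 2 → F), v ≠ 0 → g.val.mulVec v ≠ c • v) : piG α β g = 0 := by
  rw [piG_apply, indVal_elliptic _ _ hg]

theorem piG_unip (α β : MulChar F ℂ) (a : Fˣ) (x : F) (hx : x ≠ 0) :
    piG α β ((borelG a a x : borelGL F) : GL (Fin 2) F) = α a * β a := by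
  rw [piG_apply, borelG_val, indVal_unip _ _ _ hx]

theorem piG_diag (α β : MulChar F ℂ) (a d : Fˣ) (had : a ≠ d) :
    piG α β ((borelG a d 0 : borelGL F) : GL (Fin 2) F) = α d * β a + α a * β d := by
  rw [piG_apply, borelG_val, indVal_diag _ _ _ (by intro h; exact had (Units.ext h))]

omit [Field F] [DecidableEq F] in
theorem card_cast_facts (h3 : 3 ≤ Fintype.card F) :
    (1 : ℂ) ≠ (Fintype.card F : ℂ) ∧ (1 : ℂ) ≠ (Fintype.card F : ℂ) + 1 ∧
    (1 : ℂ) ≠ (Fintype.card F : ℂ) - 1 := by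
  refine ⟨?_, ?_, ?_⟩
  · intro h
    have : (Fintype.card F : ℂ) = ((1 : ℕ) : ℂ) := by rw [← h]; simp
    have := Nat.cast_injective this
    omega
  · intro h
    have : (Fintype.card F : ℂ) = ((0 : ℕ) : ℂ) := by push_cast; linear_combination -h
    have := Nat.cast_injective this
    omega
  · intro h
    have : (Fintype.card F : ℂ) = ((2 : ℕ) : ℂ) := by push_cast; linear_combination -h
    have := Nat.cast_injective this
    omega

end GL2Values

end Cfsg.Agent.Lib.Helper15
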