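import Mathlib
import Cfsg.Agent.Lib.Helper15.FreeRF

set_option autoImplicit false

namespace Cfsg.Agent.Lib.Helper15

open Polynomial

section LawPSL2

variable {F : Type*} [Field F]

/-- The rank one matrix `(1, a)ᵀ (b, -1)`. -/
def rk1 (a b : F) : Matrix (Fin 2) (Fin 2) F := !![b, -1; a * b, -a]

theorem rk1_mul (a b a' b' : F) : rk1 a b * rk1 a' b' = (b - a') • rk1 a b' := by
  ext i j
  fin_cases i <;> fin_cases j <;> simp [rk1, Matrix.mul_apply, Fin.sum_univ_two] <;> ring

/-- The projection onto the line of slope `a` along the line of slope `b`. -/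
noncomputable def projM (a b : F) : Matrix (Fin 2) (Fin 2) F := (b - a)⁻¹ • rk1 a b

/-- The matrix with eigenvalue `s` on the line of slope `a` and `s⁻¹` on the line of slope `b`. -/
noncomputable def hypM (a b s : F) : Matrix (Fin 2) (Fin 2) F :=
  s • projM a b + s⁻¹ • projM b a

theorem det_hypM {a b s : F} (hab : a ≠ b) (hs : s ≠ 0) : (hypM a b s).det = 1 := by
  have h1 : b - a ≠ 0 := sub_ne_zero.mpr hab.symm
  have h2 : a - b ≠ 0 := sub_ne_zero.mpr hab
  rw [Matrix.det_fin_two]
  simp only [hypM, projM, rk1, Matrix.add_apply, Matrix.smul_apply, Matrix.of_apply,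
    Matrix.cons_val', Matrix.cons_val_zero, Matrix.cons_val_one, Matrix.empty_val',
    Matrix.cons_val_fin_one, smul_eq_mul]
  field_simp
  ring

theorem hypM_mul_hypM {a b s : F} (hab : a ≠ b) (hs : s ≠ 0) : hypM a b s * hypM b a s = 1 := by
  have h1 : b - a ≠ 0 := sub_ne_zero.mpr hab.symm
  have h2 : a - b ≠ 0 := sub_ne_zero.mpr hab
  ext i j
  fin_cases i <;> fin_cases j <;>
    simp [hypM, projM, rk1, Matrix.mul_apply, Fin.sum_univ_two] <;> field_simp <;> ring

/-- The polynomial matrix `X² Π(a, b) + Π(b, a)`. -/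
noncomputable def polyM (a b : F) : Matrix (Fin 2) (Fin 2) F[X] :=
  (X ^ 2 : F[X]) • (projM a b).map C + (projM b a).map C

theorem polyM_natDegree (a b : F) (i j : Fin 2) : (polyM a b i j).natDegree ≤ 2 := by
  simp only [polyM, Matrix.add_apply, Matrix.smul_apply, Matrix.map_apply, smul_eq_mul]
  refine (natDegree_add_le _ _).trans (max_le ?_ ?_)
  · refine (natDegree_mul_le).trans ?_
    rw [natDegree_C, add_zero]
    exact natDegree_X_pow_le 2
  · rw [natDegree_C]; omega

theorem polyM_coeff (a b : F) (i j : Fin 2) : (polyM a b i j).coeff 2 = projM a b i j := by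
  simp only [polyM, Matrix.add_apply, Matrix.smul_apply, Matrix.map_apply, smul_eq_mul]
  rw [coeff_add, coeff_C, if_neg (by norm_num), add_zero, mul_comm, coeff_C_mul, coeff_X_pow,
    if_pos rfl, mul_one]

theorem polyM_eval (a b s : F) (i j : Fin 2) :
    (polyM a b i j).eval s = (s ^ 2 • projM a b + projM b a) i j := by
  simp only [polyM, Matrix.add_apply, Matrix.smul_apply, Matrix.map_apply, smul_eq_mul, eval_add,
    eval_mul, eval_pow, eval_X, eval_C]

theorem list_prod_polyM (L : List (F × F)) : ∀ (i j : Fin 2),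
    (((L.map (fun p => polyM p.1 p.2)).prod) i j).natDegree ≤ 2 * L.length ∧
    (((L.map (fun p => polyM p.1 p.2)).prod) i j).coeff (2 * L.length)
      = ((L.map (fun p => projM p.1 p.2)).prod) i j := by
  induction L with
  | nil =>
    intro i j
    simp only [List.map_nil, List.prod_nil, List.length_nil, mul_zero, Matrix.one_apply]
    by_cases h : i = j <;> simp [h]
  | cons p L ih =>
    intro i j
    have hlen : 2 * (p :: L).length = 2 + 2 * L.length := by
      rw [List.length_cons]; ring
    rw [hlen]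
    simp only [List.map_cons, List.prod_cons, Matrix.mul_apply]
    constructor
    · apply natDegree_sum_le_of_forall_le
      intro k _
      exact natDegree_mul_le_of_le (polyM_natDegree _ _ _ _) (ih k j).1
    · rw [finsetSum_coeff]
      apply Finset.sum_congr rfl
      intro k _
      rw [coeff_mul_add_eq_of_natDegree_le (polyM_natDegree _ _ _ _) (ih k j).1, polyM_coeff,
        (ih k j).2]

theorem list_prod_polyM_eval (L : List (F × F)) (s : F) : ∀ (i j : Fin 2),
    (((L.map (fun p => polyM p.1 p.2)).prod) i j).eval s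
      = ((L.map (fun p : F × F => s ^ 2 • projM p.1 p.2 + projM p.2 p.1)).prod) i j := by
  induction L with
  | nil =>
    intro i j
    simp only [List.map_nil, List.prod_nil, Matrix.one_apply]
    by_cases h : i = j <;> simp [h]
  | cons p L ih =>
    intro i j
    simp only [List.map_cons, List.prod_cons, Matrix.mul_apply]
    rw [eval_finsetSum]
    apply Finset.sum_congr rfl
    intro k _
    rw [eval_mul, polyM_eval, ih k j]

theorem sq_smul_projM {a b s : F} (hs : s ≠ 0) :
    s ^ 2 • projM a b + projM b a = s • hypM a b s := by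
  unfold hypM
  rw [smul_add, smul_smul, smul_smul, mul_inv_cancel₀ hs, one_smul, pow_two]

theorem list_prod_smul (L : List (F × F)) (s : F) :
    (L.map (fun p => s • hypM p.1 p.2 s)).prod
      = s ^ L.length • (L.map (fun p => hypM p.1 p.2 s)).prod := by
  induction L with
  | nil => simp
  | cons p L ih =>
    simp only [List.map_cons, List.prod_cons, List.length_cons]
    rw [ih, Matrix.smul_mul, Matrix.mul_smul, smul_smul, pow_succ, mul_comm]

theorem prod_projM_ne_zero (L : List (F × F)) : ∀ (p : F × F),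
    (∀ x ∈ p :: L, x.1 ≠ x.2) → (p :: L).IsChain (fun x y => x.2 ≠ y.1) →
    ∃ c : F, c ≠ 0 ∧ ∃ b' : F,
      ((p :: L).map (fun x => projM x.1 x.2)).prod = c • rk1 p.1 b' := by
  induction L with
  | nil =>
    intro p hp _
    refine ⟨(p.2 - p.1)⁻¹, ?_, p.2, ?_⟩
    · exact inv_ne_zero (sub_ne_zero.mpr (hp p List.mem_cons_self).symm)
    · simp [projM]
  | cons p' L ih =>
    intro p hp hch
    rw [List.isChain_cons_cons] at hch
    obtain ⟨c', hc', b', hprod⟩ := ih p' (fun x hx => hp x (List.mem_cons_of_mem _ hx)) hch.2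
    refine ⟨(p.2 - p.1)⁻¹ * c' * (p.2 - p'.1), ?_, b', ?_⟩
    · refine mul_ne_zero (mul_ne_zero ?_ hc') (sub_ne_zero.mpr hch.1)
      exact inv_ne_zero (sub_ne_zero.mpr (hp p List.mem_cons_self).symm)
    · rw [List.map_cons, List.prod_cons, hprod, projM, Matrix.smul_mul, Matrix.mul_smul, rk1_mul,
        smul_smul, smul_smul]

/-- The pair of slopes attached to a letter of a word. -/
def slp (sl : ℕ → F) (x : ℕ × Bool) : F × F :=
  if x.2 then (sl (2 * x.1), sl (2 * x.1 + 1)) else (sl (2 * x.1 + 1), sl (2 * x.1))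

omit [Field F] in
theorem slp_ne (sl : ℕ → F) (K : ℕ)
    (hsl : ∀ j j', j < 2 * K → j' < 2 * K → sl j = sl j' → j = j') (x : ℕ × Bool)
    (hx : x.1 < K) : (slp sl x).1 ≠ (slp sl x).2 := by
  unfold slp
  intro h
  by_cases hb : x.2 = true
  · rw [if_pos hb] at h
    have := hsl _ _ (by omega) (by omega) h
    omega
  · rw [if_neg hb] at h
    have := hsl _ _ (by omega) (by omega) h
    omega

omit [Field F] in
theorem slp_chain (sl : ℕ → F) (K : ℕ)
    (hsl : ∀ j j', j < 2 * K → j' < 2 * K → sl j = sl j' → j = j') :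
    ∀ (L : List (ℕ × Bool)), FreeGroup.IsReduced L → (∀ x ∈ L, x.1 < K) →
      (L.map (slp sl)).IsChain (fun x y => x.2 ≠ y.1) := by
  intro L
  induction L with
  | nil => intro _ _; simp
  | cons x L ih =>
    intro hred hK
    cases L with
    | nil => simp
    | cons y L =>
      rw [FreeGroup.isReduced_cons_cons] at hred
      rw [List.map_cons, List.map_cons, List.isChain_cons_cons]
      refine ⟨?_, ih hred.2 (fun z hz => hK z (List.mem_cons_of_mem _ hz))⟩
      have hx : x.1 < K := hK x List.mem_cons_self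
      have hy : y.1 < K := hK y (List.mem_cons_of_mem _ List.mem_cons_self)
      unfold slp
      intro h
      by_cases hb : x.2 = true <;> by_cases hb' : y.2 = true
      · rw [if_pos hb, if_pos hb'] at h
        have := hsl _ _ (by omega) (by omega) h
        omega
      · rw [if_pos hb, if_neg hb'] at h
        have h1 := hsl _ _ (by omega) (by omega) h
        have h2 := hred.1 (by omega)
        rw [hb] at h2
        exact hb' h2.symm
      · rw [if_neg hb, if_pos hb'] at h
        have h1 := hsl _ _ (by omega) (by omega) h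
        have h2 := hred.1 (by omega)
        rw [hb'] at h2
        exact hb h2
      · rw [if_neg hb, if_neg hb'] at h
        have := hsl _ _ (by omega) (by omega) h
        omega

open Classical in
/-- The hyperbolic elements of `SL₂` attached to the generators. -/
noncomputable def hypSL (sl : ℕ → F) (s : F) (hs : s ≠ 0) (i : ℕ) :
    Matrix.SpecialLinearGroup (Fin 2) F :=
  if h : sl (2 * i) ≠ sl (2 * i + 1) then
    ⟨hypM (sl (2 * i)) (sl (2 * i + 1)) s, det_hypM h hs⟩
  else 1

theorem hypSL_pos (sl : ℕ → F) (s : F) (hs : s ≠ 0) (i : ℕ)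
    (h : sl (2 * i) ≠ sl (2 * i + 1)) :
    hypSL sl s hs i = (⟨hypM (sl (2 * i)) (sl (2 * i + 1)) s, det_hypM h hs⟩ :
      Matrix.SpecialLinearGroup (Fin 2) F) := by
  unfold hypSL
  exact dif_pos h

theorem hypSL_letter (sl : ℕ → F) (s : F) (hs : s ≠ 0) (x : ℕ × Bool)
    (hx : sl (2 * x.1) ≠ sl (2 * x.1 + 1)) :
    ((cond x.2 (hypSL sl s hs x.1) (hypSL sl s hs x.1)⁻¹ : Matrix.SpecialLinearGroup (Fin 2) F)
      : Matrix (Fin 2) (Fin 2) F) = hypM (slp sl x).1 (slp sl x).2 s := by
  obtain ⟨i, b⟩ := x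
  have hx' : sl (2 * i) ≠ sl (2 * i + 1) := hx
  cases b with
  | true =>
    simp only [cond_true, slp, if_true]
    rw [hypSL_pos sl s hs i hx']
  | false =>
    simp only [cond_false, slp, Bool.false_eq_true, if_false]
    rw [hypSL_pos sl s hs i hx']
    let A : Matrix.SpecialLinearGroup (Fin 2) F :=
      ⟨hypM (sl (2 * i)) (sl (2 * i + 1)) s, det_hypM hx' hs⟩
    let B : Matrix.SpecialLinearGroup (Fin 2) F :=
      ⟨hypM (sl (2 * i + 1)) (sl (2 * i)) s, det_hypM (Ne.symm hx') hs⟩
    have hinv : A⁻¹ = B := by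
      apply inv_eq_of_mul_eq_one_right
      apply Subtype.ext
      exact hypM_mul_hypM hx' hs
    show ((A⁻¹ : Matrix.SpecialLinearGroup (Fin 2) F) : Matrix (Fin 2) (Fin 2) F) = _
    rw [hinv]

theorem coe_list_prod_SL {α : Type*} (g : α → Matrix.SpecialLinearGroup (Fin 2) F) (L : List α) :
    (((L.map g).prod : Matrix.SpecialLinearGroup (Fin 2) F) : Matrix (Fin 2) (Fin 2) F)
      = (L.map (fun x => ((g x : Matrix.SpecialLinearGroup (Fin 2) F)
        : Matrix (Fin 2) (Fin 2) F))).prod := by
  induction L with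
  | nil => simp
  | cons x L ih =>
    rw [List.map_cons, List.prod_cons, Matrix.SpecialLinearGroup.coe_mul, ih, List.map_cons,
      List.prod_cons]

end LawPSL2

/-- A non-trivial law fails in `PSL₂` over all large finite fields. -/
theorem law_fails_PSL2.{u} (w : FreeGroup ℕ) (hw : w ≠ 1) :
    ∃ N : ℕ, ∀ (F : Type u) [Field F] [Fintype F], N ≤ Fintype.card F →
      ∃ f : ℕ → Matrix.ProjectiveSpecialLinearGroup (Fin 2) F, FreeGroup.lift f w ≠ 1 := by
  classical
  obtain ⟨L, hL⟩ : ∃ L, L = w.toWord := ⟨_, rfl⟩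
  have hLne : L ≠ [] := fun h => hw (FreeGroup.toWord_eq_nil_iff.mp (hL ▸ h))
  have hLred : FreeGroup.IsReduced L := hL ▸ FreeGroup.isReduced_toWord
  have hwL : FreeGroup.mk L = w := hL ▸ FreeGroup.mk_toWord
  obtain ⟨K, hK⟩ : ∃ K, K = L.toFinset.sup Prod.fst + 1 := ⟨_, rfl⟩
  have hLK : ∀ x ∈ L, x.1 < K := fun x hx => by
    rw [hK]
    exact Nat.lt_succ_of_le (Finset.le_sup (f := Prod.fst) (List.mem_toFinset.mpr hx))
  refine ⟨2 * K + 2 * L.length + 2, ?_⟩
  intro F _ _ hcard
  obtain ⟨emb⟩ : Nonempty (Fin (2 * K) ↪ F) :=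
    Function.Embedding.nonempty_of_card_le (by rw [Fintype.card_fin]; omega)
  let sl : ℕ → F := fun j => if h : j < 2 * K then emb ⟨j, h⟩ else 0
  have hsl : ∀ j j', j < 2 * K → j' < 2 * K → sl j = sl j' → j = j' := by
    intro j j' hj hj' h
    simp only [sl, dif_pos hj, dif_pos hj'] at h
    have := emb.injective h
    exact Fin.mk.inj_iff.mp this
  obtain ⟨Ls, hLs⟩ : ∃ Ls, Ls = L.map (slp sl) := ⟨_, rfl⟩
  have hLslen : Ls.length = L.length := by rw [hLs, List.length_map]
  have hLs_ne : ∀ x ∈ Ls, x.1 ≠ x.2 := by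
    intro x hx
    rw [hLs, List.mem_map] at hx
    obtain ⟨y, hy, rfl⟩ := hx
    exact slp_ne sl K hsl y (hLK y hy)
  have hLs_chain : Ls.IsChain (fun x y => x.2 ≠ y.1) := by
    rw [hLs]; exact slp_chain sl K hsl L hLred hLK
  obtain ⟨P, hP⟩ : ∃ P, P = (Ls.map (fun p => polyM p.1 p.2)).prod := ⟨_, rfl⟩
  have hdeg : (P 0 1).natDegree ≤ 2 * L.length := by
    rw [hP, ← hLslen]; exact (list_prod_polyM Ls 0 1).1
  have hcoeff : (P 0 1).coeff (2 * L.length) ≠ 0 := by
    rw [hP, ← hLslen, (list_prod_polyM Ls 0 1).2]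
    obtain ⟨p, Ls', rfl⟩ := List.exists_cons_of_ne_nil
      (show Ls ≠ [] by rw [hLs]; simpa using hLne)
    obtain ⟨c, hc, b', hprod⟩ := prod_projM_ne_zero Ls' p hLs_ne hLs_chain
    rw [hprod]
    simp [rk1, hc]
  have hp_ne : P 0 1 ≠ 0 := by
    intro h
    rw [h, coeff_zero] at hcoeff
    exact hcoeff rfl
  have hroots : (insert 0 (P 0 1).roots.toFinset).card < (Finset.univ : Finset F).card := by
    rw [Finset.card_univ]
    have h1 := Finset.card_insert_le (0 : F) (P 0 1).roots.toFinset
    have h2 := Multiset.toFinset_card_le (P 0 1).roots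
    have h3 := card_roots' (P 0 1)
    omega
  obtain ⟨s, -, hs⟩ := Finset.exists_mem_notMem_of_card_lt_card hroots
  have hs0 : s ≠ 0 := by
    intro h
    apply hs
    rw [h]; exact Finset.mem_insert_self _ _
  have hsroot : (P 0 1).eval s ≠ 0 := by
    intro h
    apply hs
    apply Finset.mem_insert_of_mem
    rw [Multiset.mem_toFinset, mem_roots hp_ne]
    exact h
  let f' : ℕ → Matrix.SpecialLinearGroup (Fin 2) F := hypSL sl s hs0
  refine ⟨fun i => QuotientGroup.mk' (Subgroup.center (Matrix.SpecialLinearGroup (Fin 2) F)) (f' i),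
    ?_⟩
  rw [lift_comp_hom]
  intro h1
  have hcen : FreeGroup.lift f' w ∈ Subgroup.center (Matrix.SpecialLinearGroup (Fin 2) F) :=
    (QuotientGroup.eq_one_iff _).mp h1
  obtain ⟨r, -, hr⟩ := Matrix.SpecialLinearGroup.mem_center_iff.mp hcen
  have h01 : (FreeGroup.lift f' w : Matrix (Fin 2) (Fin 2) F) 0 1 = 0 := by
    rw [← hr]; simp
  have hmat : (FreeGroup.lift f' w : Matrix (Fin 2) (Fin 2) F)
      = (Ls.map (fun p => hypM p.1 p.2 s)).prod := by
    rw [← hwL, FreeGroup.lift_mk, coe_list_prod_SL, hLs, List.map_map]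
    congr 1
    apply List.map_congr_left
    intro x hx
    have := slp_ne sl K hsl x (hLK x hx)
    have hx' : sl (2 * x.1) ≠ sl (2 * x.1 + 1) := by
      intro h
      apply this
      unfold slp
      split_ifs
      · exact h
      · exact h.symm
    exact hypSL_letter sl s hs0 x hx'
  apply hsroot
  rw [hP, list_prod_polyM_eval]
  have hcongr : (Ls.map (fun p : F × F => s ^ 2 • projM p.1 p.2 + projM p.2 p.1))
      = Ls.map (fun p : F × F => s • hypM p.1 p.2 s) := by
    apply List.map_congr_left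
    intro p _
    exact sq_smul_projM hs0
  rw [hcongr, list_prod_smul, ← hmat, Matrix.smul_apply, h01, smul_zero]

end Cfsg.Agent.Lib.Helper15
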