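import Mathlib
import Cfsg.Agent.Lib.Helper15.LawPSL2

set_option autoImplicit false

namespace Cfsg.Agent.Lib.Helper15

open Polynomial

/-- `w` is a law of `G` modulo the centre. -/
def CLaw (w : FreeGroup ℕ) (G : Type*) [Group G] : Prop :=
  ∀ f : ℕ → G, FreeGroup.lift f w ∈ Subgroup.center G

theorem claw_of_law_quotient (w : FreeGroup ℕ) {G : Type*} [Group G]
    (h : ∀ f : ℕ → G ⧸ Subgroup.center G, FreeGroup.lift f w = 1) : CLaw w G := by
  intro f
  have h1 := h (fun i => (QuotientGroup.mk' (Subgroup.center G)) (f i))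
  rw [lift_comp_hom] at h1
  exact (QuotientGroup.eq_one_iff _).mp h1

theorem CLaw.of_injective {w : FreeGroup ℕ} {H S : Type*} [Group H] [Group S] (φ : H →* S)
    (hφ : Function.Injective φ) (h : CLaw w S) : CLaw w H := by
  intro f
  have h1 := h (fun i => φ (f i))
  rw [lift_comp_hom] at h1
  rw [Subgroup.mem_center_iff] at h1 ⊢
  intro g
  apply hφ
  rw [map_mul, map_mul]
  exact h1 (φ g)

theorem law_of_mulEquiv (w : FreeGroup ℕ) {G G' : Type*} [Group G] [Group G'] (e : G ≃* G')
    (h : ∀ f : ℕ → G, FreeGroup.lift f w = 1) : ∀ f : ℕ → G', FreeGroup.lift f w = 1 := by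
  intro f
  have h1 := h (fun i => e.symm (f i))
  have h2 := lift_comp_hom (e : G →* G') (fun i => e.symm (f i)) w
  simp only [MonoidHom.coe_coe, MulEquiv.apply_symm_apply] at h2
  rw [h2, h1, map_one]

theorem not_claw_alternating (w : FreeGroup ℕ) (hw : w ≠ 1) :
    ∃ N : ℕ, ∀ m : ℕ, N ≤ m → ¬ CLaw w (alternatingGroup (Fin m)) := by
  obtain ⟨N, hN⟩ := law_fails_alternating w hw
  refine ⟨max N 5, fun m hm hcl => ?_⟩
  obtain ⟨f, hf⟩ := hN m (le_trans (le_max_left _ _) hm)
  have h1 := hcl f
  have h5 : 5 ≤ m := le_trans (le_max_right _ _) hm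
  rw [alternatingGroup.center_eq_bot (by rw [Nat.card_eq_fintype_card, Fintype.card_fin]; omega),
    Subgroup.mem_bot] at h1
  exact hf h1

theorem not_claw_SL2.{u} (w : FreeGroup ℕ) (hw : w ≠ 1) :
    ∃ N : ℕ, ∀ (F : Type u) [Field F] [Fintype F], N ≤ Fintype.card F →
      ¬ CLaw w (Matrix.SpecialLinearGroup (Fin 2) F) := by
  obtain ⟨N, hN⟩ := law_fails_PSL2.{u} w hw
  refine ⟨N, fun F _ _ hF hcl => ?_⟩
  obtain ⟨f, hf⟩ := hN F hF
  choose f' hf' using fun i => QuotientGroup.mk_surjective (f i)
  apply hf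
  have h1 : f = fun i => (QuotientGroup.mk' (Subgroup.center
      (Matrix.SpecialLinearGroup (Fin 2) F))) (f' i) := by
    funext i
    exact (hf' i).symm
  rw [h1, lift_comp_hom]
  exact (QuotientGroup.eq_one_iff _).mpr (hcl f')

/-- The core computation: for slopes injective on the letters of the word and a large enough
parameter set, some parameter gives a word value with non-zero upper right entry. -/
theorem word_core.{u} (w : FreeGroup ℕ) (hw : w ≠ 1) :
    ∃ K D : ℕ, ∀ (F : Type u) [Field F] (sl : ℕ → F),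
      (∀ j j', j < 2 * K → j' < 2 * K → sl j = sl j' → j = j') →
      ∀ T : Finset F, 2 * D < T.card → (0 : F) ∉ T →
      ∃ (s : F) (hs : s ≠ 0), s ∈ T ∧
        (FreeGroup.lift (hypSL sl s hs) w : Matrix (Fin 2) (Fin 2) F) 0 1 ≠ 0 := by
  classical
  obtain ⟨L, hL⟩ : ∃ L, L = w.toWord := ⟨_, rfl⟩
  have hLne : L ≠ [] := fun h => hw (FreeGroup.toWord_eq_nil_iff.mp (hL ▸ h))
  have hLred : FreeGroup.IsReduced L := hL ▸ FreeGroup.isReduced_toWord
  have hwL : FreeGroup.mk L = w := hL ▸ FreeGroup.mk_toWord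
  obtain ⟨K, hK⟩ : ∃ K, K = L.toFinset.sup Prod.fst + 1 := ⟨_, rfl⟩
  have hLK : ∀ x ∈ L, x.1 < K := fun x hx => by
    rw [hK]
    exact Nat.lt_succ_of_le (Finset.le_sup (f := Prod.fst) (List.mem_toFinset.mpr hx))
  refine ⟨K, L.length, ?_⟩
  intro F _ sl hsl T hT h0T
  obtain ⟨Ls, hLs⟩ : ∃ Ls, Ls = L.map (slp sl) := ⟨_, rfl⟩
  have hLslen : Ls.length = L.length := by rw [hLs, List.length_map]
  have hLs_ne : ∀ x ∈ Ls, x.1 ≠ x.2 := by
    intro x hx
    rw [hLs, List.mem_map] at hx
    obtain ⟨y, hy, rfl⟩ := hx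
    exact slp_ne sl K hsl y (hLK y hy)
  have hLs_chain : Ls.IsChain (fun x y => x.2 ≠ y.1) := by
    rw [hLs]; exact slp_chain sl K hsl L hLred hLK
  obtain ⟨P, hP⟩ : ∃ P, P = (Ls.map (fun p => polyM p.1 p.2)).prod := ⟨_, rfl⟩
  have hdeg : (P 0 1).natDegree ≤ 2 * L.length := by
    rw [hP, ← hLslen]; exact (list_prod_polyM Ls 0 1).1
  have hcoeff : (P 0 1).coeff (2 * L.length) ≠ 0 := by
    rw [hP, ← hLslen, (list_prod_polyM Ls 0 1).2]
    obtain ⟨p, Ls', rfl⟩ := List.exists_cons_of_ne_nil
      (show Ls ≠ [] by rw [hLs]; simpa using hLne)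
    obtain ⟨c, hc, b', hprod⟩ := prod_projM_ne_zero Ls' p hLs_ne hLs_chain
    rw [hprod]
    simp [rk1, hc]
  have hp_ne : P 0 1 ≠ 0 := by
    intro h
    rw [h, coeff_zero] at hcoeff
    exact hcoeff rfl
  have hroots : (P 0 1).roots.toFinset.card < T.card := by
    have h2 := Multiset.toFinset_card_le (P 0 1).roots
    have h3 := card_roots' (P 0 1)
    omega
  obtain ⟨s, hsT, hs⟩ := Finset.exists_mem_notMem_of_card_lt_card hroots
  have hs0 : s ≠ 0 := fun h => h0T (h ▸ hsT)
  have hsroot : (P 0 1).eval s ≠ 0 := by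
    intro h
    apply hs
    rw [Multiset.mem_toFinset, mem_roots hp_ne]
    exact h
  refine ⟨s, hs0, hsT, ?_⟩
  intro h01
  have hmat : (FreeGroup.lift (hypSL sl s hs0) w : Matrix (Fin 2) (Fin 2) F)
      = (Ls.map (fun p => hypM p.1 p.2 s)).prod := by
    rw [← hwL, FreeGroup.lift_mk, coe_list_prod_SL, hLs, List.map_map]
    congr 1
    apply List.map_congr_left
    intro x hx
    have := slp_ne sl K hsl x (hLK x hx)
    have hx' : sl (2 * x.1) ≠ sl (2 * x.1 + 1) := by
      intro h
      apply this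
      unfold slp
      split_ifs
      · exact h
      · exact h.symm
    exact hypSL_letter sl s hs0 x hx'
  apply hsroot
  rw [hP, list_prod_polyM_eval]
  have hcongr : (Ls.map (fun p : F × F => s ^ 2 • projM p.1 p.2 + projM p.2 p.1))
      = Ls.map (fun p : F × F => s • hypM p.1 p.2 s) := by
    apply List.map_congr_left
    intro p _
    exact sq_smul_projM hs0
  rw [hcongr, list_prod_smul, ← hmat, Matrix.smul_apply, h01, smul_zero]

/-- A homomorphism maps the commutator subgroup into the commutator subgroup. -/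
theorem map_mem_commutator {G G' : Type*} [Group G] [Group G'] (f : G →* G') {x : G}
    (hx : x ∈ commutator G) : f x ∈ commutator G' := by
  have h1 : f x ∈ Subgroup.map f (commutator G) := Subgroup.mem_map_of_mem f hx
  rw [commutator_def, Subgroup.map_commutator] at h1
  exact Subgroup.commutator_mono le_top le_top h1

/-- The induced homomorphism on commutator subgroups. -/
def commMap {G G' : Type*} [Group G] [Group G'] (f : G →* G') :
    commutator G →* commutator G' :=
  (f.comp (commutator G).subtype).codRestrict (commutator G')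
    (fun x => map_mem_commutator f x.2)

theorem commMap_injective {G G' : Type*} [Group G] [Group G'] (f : G →* G')
    (hf : Function.Injective f) : Function.Injective (commMap f) := by
  intro x y h
  apply Subtype.ext
  apply hf
  exact congrArg Subtype.val h

/-- A homomorphism from a perfect group lands in the commutator subgroup. -/
def perfectMap {H G' : Type*} [Group H] [Group G'] (hH : commutator H = ⊤) (f : H →* G') :
    H →* commutator G' :=
  f.codRestrict (commutator G')
    (fun x => map_mem_commutator f (hH ▸ Subgroup.mem_top x))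

theorem perfectMap_injective {H G' : Type*} [Group H] [Group G'] (hH : commutator H = ⊤)
    (f : H →* G') (hf : Function.Injective f) : Function.Injective (perfectMap hH f) := by
  intro x y h
  apply hf
  exact congrArg Subtype.val h

end Cfsg.Agent.Lib.Helper15
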