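import Mathlib
import Cfsg.Prelude.Def_Classical
import Cfsg.Agent.Lib.Helper15.LawCore

set_option autoImplicit false

namespace Cfsg.Agent.Lib.Helper15

open Matrix

section Emb

variable {F : Type*} [Field F]

/-! ### Permutation matrices -/

/-- Permutation matrices as a homomorphism into the general linear group. -/
noncomputable def permGL (F : Type*) [Field F] (ι : Type*) [Fintype ι] [DecidableEq ι] :
    Equiv.Perm ι →* GL ι F :=
  (Matrix.permMatrixHom (R := F) (n := ι)).toHomUnits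

theorem permGL_val {ι : Type*} [Fintype ι] [DecidableEq ι] (σ : Equiv.Perm ι) :
    ((permGL F ι σ : GL ι F) : Matrix ι ι F) = (σ⁻¹).permMatrix F := rfl

theorem permGL_mulVec {ι : Type*} [Fintype ι] [DecidableEq ι] (σ : Equiv.Perm ι) (v : ι → F) :
    ((permGL F ι σ : GL ι F) : Matrix ι ι F) *ᵥ v = v ∘ (σ⁻¹ : Equiv.Perm ι) := by
  rw [permGL_val, Matrix.permMatrix_mulVec]

theorem permGL_injective {ι : Type*} [Fintype ι] [DecidableEq ι] :
    Function.Injective (permGL F ι) := by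
  intro σ τ h
  have h1 : ∀ v : ι → F, v ∘ (σ⁻¹ : Equiv.Perm ι) = v ∘ (τ⁻¹ : Equiv.Perm ι) := by
    intro v
    rw [← permGL_mulVec, ← permGL_mulVec, h]
  have h2 : (σ⁻¹ : Equiv.Perm ι) = τ⁻¹ := by
    ext i
    have := congrFun (h1 (Pi.single (σ⁻¹ i) 1)) i
    simp only [Function.comp_apply, Pi.single_eq_same] at this
    by_contra hne
    rw [Pi.single_eq_of_ne (fun h => hne h.symm)] at this
    exact one_ne_zero this
  exact inv_injective h2

/-! ### Block embeddings -/

/-- `M ↦ fromBlocks M 0 0 1` as a monoid homomorphism. -/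
def blockL (F : Type*) [Field F] (κ κ' : Type*) [Fintype κ] [DecidableEq κ] [Fintype κ']
    [DecidableEq κ'] : Matrix κ κ F →* Matrix (κ ⊕ κ') (κ ⊕ κ') F where
  toFun M := Matrix.fromBlocks M 0 0 1
  map_one' := Matrix.fromBlocks_one
  map_mul' M N := by
    rw [Matrix.fromBlocks_multiply]
    simp

/-- `M ↦ fromBlocks 1 0 0 M` as a monoid homomorphism. -/
def blockR (F : Type*) [Field F] (κ κ' : Type*) [Fintype κ] [DecidableEq κ] [Fintype κ']
    [DecidableEq κ'] : Matrix κ κ F →* Matrix (κ' ⊕ κ) (κ' ⊕ κ) F where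
  toFun M := Matrix.fromBlocks 1 0 0 M
  map_one' := Matrix.fromBlocks_one
  map_mul' M N := by
    rw [Matrix.fromBlocks_multiply]
    simp

theorem blockL_injective {κ κ' : Type*} [Fintype κ] [DecidableEq κ] [Fintype κ']
    [DecidableEq κ'] : Function.Injective (blockL F κ κ') := by
  intro M N h
  exact (Matrix.fromBlocks_inj.mp h).1

theorem blockR_injective {κ κ' : Type*} [Fintype κ] [DecidableEq κ] [Fintype κ']
    [DecidableEq κ'] : Function.Injective (blockR F κ κ') := by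
  intro M N h
  exact (Matrix.fromBlocks_inj.mp h).2.2.2

/-- The block embedding of `2 × 2` matrices into `(2 + r) × (2 + r)` matrices. -/
def blockMat (F : Type*) [Field F] (r : ℕ) :
    Matrix (Fin 2) (Fin 2) F →* Matrix (Fin (2 + r)) (Fin (2 + r)) F :=
  ((Matrix.reindexAlgEquiv F F (finSumFinEquiv (m := 2) (n := r))) :
      Matrix (Fin 2 ⊕ Fin r) (Fin 2 ⊕ Fin r) F →* Matrix (Fin (2 + r)) (Fin (2 + r)) F).comp
    (blockL F (Fin 2) (Fin r))

theorem blockMat_apply (r : ℕ) (M : Matrix (Fin 2) (Fin 2) F) :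
    blockMat F r M = Matrix.reindex finSumFinEquiv finSumFinEquiv (Matrix.fromBlocks M 0 0 1) := by
  simp [blockMat, blockL]

theorem blockMat_injective (r : ℕ) : Function.Injective (blockMat F r) := by
  intro M N h
  rw [blockMat_apply, blockMat_apply] at h
  exact (Matrix.fromBlocks_inj.mp ((Matrix.reindex _ _).injective h)).1

theorem det_blockMat (r : ℕ) (M : Matrix (Fin 2) (Fin 2) F) : (blockMat F r M).det = M.det := by
  rw [blockMat_apply, Matrix.det_reindex_self, Matrix.det_fromBlocks_zero₂₁, Matrix.det_one,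
    mul_one]

/-- The block embedding `SL₂ → SL_{2+r}`. -/
def blockSL (F : Type*) [Field F] (r : ℕ) :
    Matrix.SpecialLinearGroup (Fin 2) F →* Matrix.SpecialLinearGroup (Fin (2 + r)) F where
  toFun M := ⟨blockMat F r M.1, by rw [det_blockMat]; exact M.2⟩
  map_one' := by
    apply Subtype.ext
    show blockMat F r (1 : Matrix (Fin 2) (Fin 2) F) = 1
    exact map_one _
  map_mul' M N := by
    apply Subtype.ext
    show blockMat F r (M.1 * N.1) = blockMat F r M.1 * blockMat F r N.1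
    exact map_mul _ _ _

theorem blockSL_injective (r : ℕ) : Function.Injective (blockSL F r) := by
  intro M N h
  apply Subtype.ext
  apply blockMat_injective r
  exact congrArg Subtype.val h

/-- The block embedding `GL₂ → GL_{2+r}`. -/
def blockGL (F : Type*) [Field F] (r : ℕ) : GL (Fin 2) F →* GL (Fin (2 + r)) F :=
  Units.map (blockMat F r)

theorem blockGL_injective (r : ℕ) : Function.Injective (blockGL F r) := by
  intro M N h
  apply Units.ext
  apply blockMat_injective r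
  exact congrArg Units.val h

/-! ### The hyperbolic embedding `A ↦ diag(A, A⁻ᵀ)` -/

/-- `A ↦ fromBlocks A 0 0 (A⁻¹)ᵀ` as a monoid homomorphism on the general linear group. -/
def hypMat (F : Type*) [Field F] (m : ℕ) :
    GL (Fin m) F →* Matrix (Fin m ⊕ Fin m) (Fin m ⊕ Fin m) F where
  toFun A := Matrix.fromBlocks (A : Matrix (Fin m) (Fin m) F) 0 0
    ((A⁻¹ : GL (Fin m) F) : Matrix (Fin m) (Fin m) F)ᵀ
  map_one' := by
    simp [Matrix.fromBlocks_one]
  map_mul' A B := by
    rw [Matrix.fromBlocks_multiply]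
    simp [Matrix.transpose_mul]

theorem hypMat_injective (m : ℕ) : Function.Injective (hypMat F m) := by
  intro A B h
  apply Units.ext
  exact (Matrix.fromBlocks_inj.mp h).1

theorem hypMat_transpose_mul (m : ℕ) (A : GL (Fin m) F) :
    (A : Matrix (Fin m) (Fin m) F)ᵀ * ((A⁻¹ : GL (Fin m) F) : Matrix (Fin m) (Fin m) F)ᵀ = 1 := by
  rw [← Matrix.transpose_mul, ← Units.val_mul, inv_mul_cancel, Units.val_one,
    Matrix.transpose_one]

theorem hypMat_mul_transpose (m : ℕ) (A : GL (Fin m) F) :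
    (A : Matrix (Fin m) (Fin m) F) * (((A⁻¹ : GL (Fin m) F) : Matrix (Fin m) (Fin m) F)ᵀ)ᵀ = 1 := by
  rw [Matrix.transpose_transpose, ← Units.val_mul, mul_inv_cancel, Units.val_one]

/-- The embedding of `GL_m` into the symplectic group. -/
def hypSp (F : Type*) [Field F] (m : ℕ) : GL (Fin m) F →* Matrix.symplecticGroup (Fin m) F :=
  (hypMat F m).codRestrict (Matrix.symplecticGroup (Fin m) F) (fun A => by
    rw [SymplecticGroup.mem_iff]
    show Matrix.fromBlocks (A : Matrix (Fin m) (Fin m) F) 0 0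
        ((A⁻¹ : GL (Fin m) F) : Matrix (Fin m) (Fin m) F)ᵀ * Matrix.J (Fin m) F
        * (Matrix.fromBlocks (A : Matrix (Fin m) (Fin m) F) 0 0
          ((A⁻¹ : GL (Fin m) F) : Matrix (Fin m) (Fin m) F)ᵀ)ᵀ = Matrix.J (Fin m) F
    rw [Matrix.J, Matrix.fromBlocks_transpose, Matrix.fromBlocks_multiply,
      Matrix.fromBlocks_multiply]
    have h1 := hypMat_mul_transpose m A
    have h2 := hypMat_transpose_mul m A
    have h3 : ((A⁻¹ : GL (Fin m) F) : Matrix (Fin m) (Fin m) F)ᵀ
        * (A : Matrix (Fin m) (Fin m) F)ᵀ = 1 := by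
      rw [← Matrix.transpose_mul, ← Units.val_mul, mul_inv_cancel, Units.val_one,
        Matrix.transpose_one]
    simp only [Matrix.zero_mul, Matrix.mul_zero, Matrix.mul_one, Matrix.mul_neg, Matrix.neg_mul,
      zero_add, add_zero, Matrix.transpose_zero, h1, h3, neg_zero])

theorem hypSp_injective (m : ℕ) : Function.Injective (hypSp F m) := by
  intro A B h
  apply hypMat_injective m
  exact congrArg Subtype.val h

end Emb

section Orth

variable {F : Type*} [Field F]

/-- `GL_m` inside the general linear group of the hyperbolic space. -/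
def hypGL (F : Type*) [Field F] (m : ℕ) : GL (Fin m) F →* GL (Fin m ⊕ Fin m) F :=
  (hypMat F m).toHomUnits

theorem hypGL_val (m : ℕ) (A : GL (Fin m) F) :
    ((hypGL F m A : GL (Fin m ⊕ Fin m) F) : Matrix (Fin m ⊕ Fin m) (Fin m ⊕ Fin m) F)
      = hypMat F m A := rfl

theorem hypGL_injective (m : ℕ) : Function.Injective (hypGL F m) := by
  intro A B h
  apply hypMat_injective m
  rw [← hypGL_val, ← hypGL_val, h]

theorem hypGL_mem_isometry (m : ℕ) (A : GL (Fin m) F) :
    hypGL F m A ∈ Cfsg.isometryGroup F (Cfsg.quadFormPlus m F) := by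
  intro u v
  show Cfsg.quadFormPlus m F ((hypMat F m A) *ᵥ u) = Cfsg.quadFormPlus m F u
  unfold Cfsg.quadFormPlus
  have h1 : (hypMat F m A) *ᵥ u = Sum.elim ((A : Matrix (Fin m) (Fin m) F) *ᵥ (u ∘ Sum.inl))
      (((A⁻¹ : GL (Fin m) F) : Matrix (Fin m) (Fin m) F)ᵀ *ᵥ (u ∘ Sum.inr)) := by
    show Matrix.fromBlocks _ _ _ _ *ᵥ u = _
    rw [Matrix.fromBlocks_mulVec]
    simp
  rw [h1]
  simp only [Sum.elim_inl, Sum.elim_inr]
  have h2 : ∑ i : Fin m, ((A : Matrix (Fin m) (Fin m) F) *ᵥ (u ∘ Sum.inl)) i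
      * (((A⁻¹ : GL (Fin m) F) : Matrix (Fin m) (Fin m) F)ᵀ *ᵥ (u ∘ Sum.inr)) i
      = ((A : Matrix (Fin m) (Fin m) F) *ᵥ (u ∘ Sum.inl))
        ⬝ᵥ (((A⁻¹ : GL (Fin m) F) : Matrix (Fin m) (Fin m) F)ᵀ *ᵥ (u ∘ Sum.inr)) := rfl
  rw [h2, ← Matrix.vecMul_transpose, ← Matrix.dotProduct_mulVec, Matrix.mulVec_mulVec,
    hypMat_transpose_mul, Matrix.one_mulVec]
  rfl

/-- `GL_m` inside the isometry group of the hyperbolic quadratic form. -/
def orthPlus (F : Type*) [Field F] (m : ℕ) :
    GL (Fin m) F →* Cfsg.isometryGroup F (Cfsg.quadFormPlus m F) :=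
  (hypGL F m).codRestrict _ (hypGL_mem_isometry m)

theorem orthPlus_injective (m : ℕ) : Function.Injective (orthPlus F m) := by
  intro A B h
  apply hypGL_injective m
  exact congrArg Subtype.val h

/-- Extension of isometries by the identity on a second orthogonal summand. -/
def isoExtL {κ κ' : Type} [Fintype κ] [DecidableEq κ] [Fintype κ'] [DecidableEq κ']
    (P : (κ → F) → F) (Q : (κ ⊕ κ' → F) → F) (R : (κ' → F) → F)
    (hQ : ∀ v, Q v = P (v ∘ Sum.inl) + R (v ∘ Sum.inr)) :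
    Cfsg.isometryGroup F P →* Cfsg.isometryGroup F Q :=
  ((Units.map (blockL F κ κ')).comp (Cfsg.isometryGroup F P).subtype).codRestrict _ (fun X => by
    intro u v
    show Q ((Matrix.fromBlocks ((X : GL κ F) : Matrix κ κ F) 0 0 1) *ᵥ u) = Q u
    rw [hQ, hQ, Matrix.fromBlocks_mulVec]
    have h1 : (Sum.elim (((X : GL κ F) : Matrix κ κ F) *ᵥ (u ∘ Sum.inl)
        + (0 : Matrix κ κ' F) *ᵥ (u ∘ Sum.inr))
        ((0 : Matrix κ' κ F) *ᵥ (u ∘ Sum.inl) + (1 : Matrix κ' κ' F) *ᵥ (u ∘ Sum.inr)))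
        ∘ Sum.inl = ((X : GL κ F) : Matrix κ κ F) *ᵥ (u ∘ Sum.inl) := by
      funext i; simp
    have h2 : (Sum.elim (((X : GL κ F) : Matrix κ κ F) *ᵥ (u ∘ Sum.inl)
        + (0 : Matrix κ κ' F) *ᵥ (u ∘ Sum.inr))
        ((0 : Matrix κ' κ F) *ᵥ (u ∘ Sum.inl) + (1 : Matrix κ' κ' F) *ᵥ (u ∘ Sum.inr)))
        ∘ Sum.inr = u ∘ Sum.inr := by
      funext i; simp
    rw [h1, h2]
    congr 1
    exact X.2 (u ∘ Sum.inl) (u ∘ Sum.inl))

theorem isoExtL_injective {κ κ' : Type} [Fintype κ] [DecidableEq κ] [Fintype κ'] [DecidableEq κ']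
    (P : (κ → F) → F) (Q : (κ ⊕ κ' → F) → F) (R : (κ' → F) → F)
    (hQ : ∀ v, Q v = P (v ∘ Sum.inl) + R (v ∘ Sum.inr)) :
    Function.Injective (isoExtL P Q R hQ) := by
  intro X Y h
  apply Subtype.ext
  apply Units.ext
  apply blockL_injective (F := F) (κ := κ) (κ' := κ')
  exact congrArg (fun Z : Cfsg.isometryGroup F Q =>
    ((Z : GL (κ ⊕ κ') F) : Matrix (κ ⊕ κ') (κ ⊕ κ') F)) h

/-- Extension of isometries by the identity on a first orthogonal summand. -/
def isoExtR {κ κ' : Type} [Fintype κ] [DecidableEq κ] [Fintype κ'] [DecidableEq κ']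
    (P : (κ → F) → F) (Q : (κ' ⊕ κ → F) → F) (R : (κ' → F) → F)
    (hQ : ∀ v, Q v = R (v ∘ Sum.inl) + P (v ∘ Sum.inr)) :
    Cfsg.isometryGroup F P →* Cfsg.isometryGroup F Q :=
  ((Units.map (blockR F κ κ')).comp (Cfsg.isometryGroup F P).subtype).codRestrict _ (fun X => by
    intro u v
    show Q ((Matrix.fromBlocks 1 0 0 ((X : GL κ F) : Matrix κ κ F)) *ᵥ u) = Q u
    rw [hQ, hQ, Matrix.fromBlocks_mulVec]
    have h1 : (Sum.elim ((1 : Matrix κ' κ' F) *ᵥ (u ∘ Sum.inl)
        + (0 : Matrix κ' κ F) *ᵥ (u ∘ Sum.inr))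
        ((0 : Matrix κ κ' F) *ᵥ (u ∘ Sum.inl) + ((X : GL κ F) : Matrix κ κ F) *ᵥ (u ∘ Sum.inr)))
        ∘ Sum.inl = u ∘ Sum.inl := by
      funext i; simp
    have h2 : (Sum.elim ((1 : Matrix κ' κ' F) *ᵥ (u ∘ Sum.inl)
        + (0 : Matrix κ' κ F) *ᵥ (u ∘ Sum.inr))
        ((0 : Matrix κ κ' F) *ᵥ (u ∘ Sum.inl) + ((X : GL κ F) : Matrix κ κ F) *ᵥ (u ∘ Sum.inr)))
        ∘ Sum.inr = ((X : GL κ F) : Matrix κ κ F) *ᵥ (u ∘ Sum.inr) := by
      funext i; simp
    rw [h1, h2]
    congr 1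
    exact X.2 (u ∘ Sum.inr) (u ∘ Sum.inr))

theorem isoExtR_injective {κ κ' : Type} [Fintype κ] [DecidableEq κ] [Fintype κ'] [DecidableEq κ']
    (P : (κ → F) → F) (Q : (κ' ⊕ κ → F) → F) (R : (κ' → F) → F)
    (hQ : ∀ v, Q v = R (v ∘ Sum.inl) + P (v ∘ Sum.inr)) :
    Function.Injective (isoExtR P Q R hQ) := by
  intro X Y h
  apply Subtype.ext
  apply Units.ext
  apply blockR_injective (F := F) (κ := κ) (κ' := κ')
  exact congrArg (fun Z : Cfsg.isometryGroup F Q =>
    ((Z : GL (κ' ⊕ κ) F) : Matrix (κ' ⊕ κ) (κ' ⊕ κ) F)) h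

end Orth

section SL2Comm

open scoped commutatorElement

variable {F : Type*} [Field F]

/-- An invertible `2 × 2` matrix from its entries. -/
noncomputable def gl2 (a b c d : F) (h : a * d - b * c ≠ 0) : GL (Fin 2) F :=
  Matrix.GeneralLinearGroup.mkOfDetNeZero !![a, b; c, d] (by rwa [Matrix.det_fin_two_of])

theorem gl2_val (a b c d : F) (h : a * d - b * c ≠ 0) :
    ((gl2 a b c d h : GL (Fin 2) F) : Matrix (Fin 2) (Fin 2) F) = !![a, b; c, d] := rfl

theorem mem_commutator_of_eq {G : Type*} [Group G] {g h k : G} (e : g * h = k * h * g) :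
    k ∈ commutator G := by
  have hk : k = ⁅g, h⁆ := by
    rw [commutatorElement_def, e]
    group
  rw [hk, commutator_def]
  exact Subgroup.commutator_mem_commutator (Subgroup.mem_top g) (Subgroup.mem_top h)

theorem SL2_mem_commutator [Fintype F] (hF : 3 ≤ Fintype.card F)
    (x : Matrix.SpecialLinearGroup (Fin 2) F) :
    Matrix.SpecialLinearGroup.toGL x ∈ commutator (GL (Fin 2) F) := by
  classical
  obtain ⟨t, ht0, ht1⟩ : ∃ t : F, t ≠ 0 ∧ t ≠ 1 := by
    have hlt : (({0, 1} : Finset F)).card < (Finset.univ : Finset F).card := by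
      rw [Finset.card_univ]
      have := Finset.card_le_two (a := (0 : F)) (b := 1)
      omega
    obtain ⟨t, -, ht⟩ := Finset.exists_mem_notMem_of_card_lt_card hlt
    exact ⟨t, fun h => ht (by simp [h]), fun h => ht (by simp [h])⟩
  have ht1' : t - 1 ≠ 0 := sub_ne_zero.mpr ht1
  have ht1'' : 1 - t ≠ 0 := sub_ne_zero.mpr (Ne.symm ht1)
  have hU : ∀ u : F, gl2 1 u 0 1 (by simp) ∈ commutator (GL (Fin 2) F) := by
    intro u
    apply mem_commutator_of_eq (g := gl2 t 0 0 1 (by simpa using ht0))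
      (h := gl2 1 (u / (t - 1)) 0 1 (by simp))
    apply Units.ext
    simp only [Units.val_mul, gl2_val]
    ext i j
    fin_cases i <;> fin_cases j <;> simp [Matrix.mul_apply, Fin.sum_univ_two]
    field_simp
    ring
  have hL : ∀ u : F, gl2 1 0 u 1 (by simp) ∈ commutator (GL (Fin 2) F) := by
    intro u
    apply mem_commutator_of_eq (g := gl2 t 0 0 1 (by simpa using ht0))
      (h := gl2 1 0 (u * t / (1 - t)) 1 (by simp))
    apply Units.ext
    simp only [Units.val_mul, gl2_val]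
    ext i j
    fin_cases i <;> fin_cases j <;> simp [Matrix.mul_apply, Fin.sum_univ_two]
    field_simp
    ring
  have hD : ∀ (a : F) (ha : a ≠ 0), gl2 a 0 0 a⁻¹ (by simp [ha]) ∈ commutator (GL (Fin 2) F) := by
    intro a ha
    apply mem_commutator_of_eq (g := gl2 a 0 0 1 (by simpa using ha))
      (h := gl2 0 1 1 0 (by simp))
    apply Units.ext
    simp only [Units.val_mul, gl2_val]
    ext i j
    fin_cases i <;> fin_cases j <;> simp [Matrix.mul_apply, Fin.sum_univ_two, ha]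
  have hdet : x.1 0 0 * x.1 1 1 - x.1 0 1 * x.1 1 0 = 1 := by
    have := x.2
    rwa [Matrix.det_fin_two] at this
  by_cases hc : x.1 1 0 = 0
  · have ha : x.1 0 0 ≠ 0 := by
      intro h
      rw [h, hc] at hdet
      simp at hdet
    have hd : x.1 1 1 = (x.1 0 0)⁻¹ := by
      rw [hc, mul_zero, sub_zero] at hdet
      exact eq_inv_of_mul_eq_one_right hdet
    have hx : Matrix.SpecialLinearGroup.toGL x
        = gl2 (x.1 0 0) 0 0 (x.1 0 0)⁻¹ (by simp [ha]) * gl2 1 (x.1 0 1 / x.1 0 0) 0 1 (by simp) := by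
      apply Units.ext
      simp only [Units.val_mul, gl2_val]
      ext i j
      fin_cases i <;> fin_cases j <;> simp [Matrix.mul_apply, Fin.sum_univ_two, hc, hd]
      field_simp
    rw [hx]
    exact mul_mem (hD _ ha) (hU _)
  · have hx : Matrix.SpecialLinearGroup.toGL x
        = gl2 1 ((x.1 0 0 - 1) / x.1 1 0) 0 1 (by simp) * gl2 1 0 (x.1 1 0) 1 (by simp)
          * gl2 1 ((x.1 1 1 - 1) / x.1 1 0) 0 1 (by simp) := by
      apply Units.ext
      simp only [Units.val_mul, gl2_val]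
      ext i j
      fin_cases i <;> fin_cases j <;> simp [Matrix.mul_apply, Fin.sum_univ_two]
      · field_simp
        ring
      · field_simp
        linear_combination (-1 : F) * hdet
      · field_simp
        ring
    rw [hx]
    exact mul_mem (mul_mem (hU _) (hL _)) (hU _)

/-- `SL₂` inside the commutator subgroup of `GL₂`. -/
noncomputable def slComm (F : Type*) [Field F] [Fintype F] (hF : 3 ≤ Fintype.card F) :
    Matrix.SpecialLinearGroup (Fin 2) F →* commutator (GL (Fin 2) F) :=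
  (Matrix.SpecialLinearGroup.toGL).codRestrict _ (SL2_mem_commutator hF)

theorem slComm_injective [Fintype F] (hF : 3 ≤ Fintype.card F) :
    Function.Injective (slComm F hF) := by
  intro x y h
  apply Matrix.SpecialLinearGroup.toGL_injective
  exact congrArg Subtype.val h

end SL2Comm

end Cfsg.Agent.Lib.Helper15
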