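import Mathlib
import Cfsg.Agent.Lib.Helper15.GL2
import Cfsg.Prelude.Def_LocalEven
import Cfsg.Prelude.Def_PLocal

set_option autoImplicit false

namespace Cfsg.Agent.Lib.Helper15

/-- All `p`-subgroups of `G` are commutative. -/
def PSubAb (p : ℕ) (G : Type*) [Group G] : Prop :=
  ∀ P : Subgroup G, IsPGroup p P → ∀ x ∈ P, ∀ y ∈ P, x * y = y * x

theorem PSubAb.subgroup {p : ℕ} {G : Type*} [Group G] (h : PSubAb p G) (K : Subgroup G) :
    PSubAb p K := by
  intro P hP x hx y hy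
  have hP' : IsPGroup p (P.map K.subtype) := hP.map K.subtype
  have := h (P.map K.subtype) hP' x (Subgroup.mem_map_of_mem _ hx) y
    (Subgroup.mem_map_of_mem _ hy)
  exact Subtype.ext this

theorem PSubAb.of_surjective {p : ℕ} [Fact p.Prime] {G H : Type*} [Group G] [Finite G] [Group H]
    (h : PSubAb p G) (f : G →* H) (hf : Function.Surjective f) : PSubAb p H := by
  intro P hP x hx y hy
  let φ : P.comap f →* P := f.subgroupComap P
  have hφ : Function.Surjective φ := f.subgroupComap_surjective_of_surjective P hf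
  obtain ⟨S⟩ : Nonempty (Sylow p (P.comap f)) := inferInstance
  have hS' : ((S.mapSurjective hφ : Sylow p P) : Subgroup P) = ⊤ :=
    ((S.mapSurjective hφ).is_maximal' (hP.to_subgroup ⊤) le_top).symm
  rw [Sylow.coe_mapSurjective] at hS'
  have hx' : (⟨x, hx⟩ : P) ∈ (S : Subgroup (P.comap f)).map φ := by rw [hS']; trivial
  have hy' : (⟨y, hy⟩ : P) ∈ (S : Subgroup (P.comap f)).map φ := by rw [hS']; trivial
  obtain ⟨s, hs, hsx⟩ := hx'
  obtain ⟨t, ht, hty⟩ := hy'
  have hst := (h.subgroup (P.comap f)) S S.isPGroup' s hs t ht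
  have h2 : φ (s * t) = φ (t * s) := by rw [hst]
  rw [map_mul, map_mul, hsx, hty] at h2
  exact congrArg Subtype.val h2

theorem PSubAb.of_involves {p : ℕ} [Fact p.Prime] {G : Type*} [Group G] [Finite G]
    {H : Type*} [Group H] (h : PSubAb p G) (hinv : Cfsg.Involves H G) : PSubAb p H := by
  obtain ⟨K, R, hn, ⟨e⟩⟩ := hinv
  have := hn
  have h1 : PSubAb p K := h.subgroup K
  have h2 : PSubAb p (K ⧸ R.subgroupOf K) :=
    h1.of_surjective (QuotientGroup.mk' _) (QuotientGroup.mk'_surjective _)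
  exact h2.of_surjective e.toMonoidHom e.surjective

/-- Two elements of `SL₂` over a field with traces of `g`, `h`, `g * h` all equal to `2`
commute. -/
theorem SL2_comm_of_trace {K : Type*} [Field K] (g h : Matrix.SpecialLinearGroup (Fin 2) K)
    (hg : (g : Matrix (Fin 2) (Fin 2) K).trace = 2)
    (hh : (h : Matrix (Fin 2) (Fin 2) K).trace = 2)
    (hgh : ((g * h : Matrix.SpecialLinearGroup (Fin 2) K) : Matrix (Fin 2) (Fin 2) K).trace = 2) :
    g * h = h * g := by
  have dg := g.det_coe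
  have dh := h.det_coe
  rw [Matrix.det_fin_two] at dg dh
  rw [Matrix.trace_fin_two] at hg hh
  rw [Matrix.SpecialLinearGroup.coe_mul, Matrix.trace_fin_two, Matrix.mul_apply, Matrix.mul_apply,
    Fin.sum_univ_two, Fin.sum_univ_two] at hgh
  set a := (g : Matrix (Fin 2) (Fin 2) K) 0 0 with ha
  set b := (g : Matrix (Fin 2) (Fin 2) K) 0 1 with hb
  set c := (g : Matrix (Fin 2) (Fin 2) K) 1 0 with hc
  set d := (g : Matrix (Fin 2) (Fin 2) K) 1 1 with hd
  set e := (h : Matrix (Fin 2) (Fin 2) K) 0 0 with he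
  set f := (h : Matrix (Fin 2) (Fin 2) K) 0 1 with hf
  set k := (h : Matrix (Fin 2) (Fin 2) K) 1 0 with hk
  set l := (h : Matrix (Fin 2) (Fin 2) K) 1 1 with hl
  have hα : (a - 1) ^ 2 = -(b * c) := by linear_combination (-1 : K) * dg + a * hg
  have hε : (e - 1) ^ 2 = -(f * k) := by linear_combination (-1 : K) * dh + e * hh
  have hm : 2 * (a - 1) * (e - 1) = -(b * k + c * f) := by
    linear_combination hgh - (2 - a) * hh - l * hg
  have h1 : b * k = c * f := by
    linear_combination (exp := 2) (b * k + c * f - 2 * (a - 1) * (e - 1)) * hm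
      + 4 * (e - 1) ^ 2 * hα - 4 * b * c * hε
  have h2 : f * (a - 1) = b * (e - 1) := by
    linear_combination (exp := 2) f ^ 2 * hα + b ^ 2 * hε - f * b * hm
  have h3 : c * (e - 1) = k * (a - 1) := by
    linear_combination (exp := 2) c ^ 2 * hε + k ^ 2 * hα - c * k * hm
  apply Subtype.ext
  rw [Matrix.SpecialLinearGroup.coe_mul, Matrix.SpecialLinearGroup.coe_mul]
  ext i j
  fin_cases i <;> fin_cases j
  · rw [Matrix.mul_apply, Matrix.mul_apply, Fin.sum_univ_two, Fin.sum_univ_two]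
    show a * e + b * k = e * a + f * c
    linear_combination h1
  · rw [Matrix.mul_apply, Matrix.mul_apply, Fin.sum_univ_two, Fin.sum_univ_two]
    show a * f + b * l = e * b + f * d
    linear_combination 2 * h2 + b * hh - f * hg
  · rw [Matrix.mul_apply, Matrix.mul_apply, Fin.sum_univ_two, Fin.sum_univ_two]
    show c * e + d * k = k * a + l * c
    linear_combination 2 * h3 + k * hg - c * hh
  · rw [Matrix.mul_apply, Matrix.mul_apply, Fin.sum_univ_two, Fin.sum_univ_two]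
    show c * f + d * l = k * b + l * d
    linear_combination (-1 : K) * h1

/-- In characteristic `p`, all `p`-subgroups of `SL₂(K)` are commutative. -/
theorem SL2_pSubAb (p : ℕ) [Fact p.Prime] {K : Type*} [Field K] [CharP K p] :
    PSubAb p (Matrix.SpecialLinearGroup (Fin 2) K) := by
  intro P hP x hx y hy
  have htr : ∀ z ∈ P, (z : Matrix (Fin 2) (Fin 2) K).trace = 2 := by
    intro z hz
    obtain ⟨k, hk⟩ := hP ⟨z, hz⟩
    have hk' : z ^ p ^ k = 1 := congrArg Subtype.val hk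
    have hk2 : (z : Matrix (Fin 2) (Fin 2) K) ^ p ^ k = 1 := by
      rw [← Matrix.SpecialLinearGroup.coe_pow, hk']; rfl
    have h1 := sub_one_pow_char_pow p (z : Matrix (Fin 2) (Fin 2) K) k
    rw [hk2, sub_self] at h1
    have h3 := nilpotent_pow_card_eq_zero _ ⟨_, h1⟩
    rw [Fintype.card_fin, pow_two] at h3
    exact (trace_det_of_sub_one_sq _ h3).1
  exact SL2_comm_of_trace x y (htr x hx) (htr y hy) (htr _ (P.mul_mem hx hy))

/-- The upper unitriangular subgroup of `SL₃`. -/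
def heis (R : Type*) [CommRing R] : Subgroup (Matrix.SpecialLinearGroup (Fin 3) R) where
  carrier := {M | (M : Matrix (Fin 3) (Fin 3) R) 1 0 = 0 ∧ (M : Matrix (Fin 3) (Fin 3) R) 2 0 = 0 ∧
    (M : Matrix (Fin 3) (Fin 3) R) 2 1 = 0 ∧ (M : Matrix (Fin 3) (Fin 3) R) 0 0 = 1 ∧
    (M : Matrix (Fin 3) (Fin 3) R) 1 1 = 1 ∧ (M : Matrix (Fin 3) (Fin 3) R) 2 2 = 1}
  one_mem' := by simp
  mul_mem' := by
    rintro A B ⟨a1, a2, a3, a4, a5, a6⟩ ⟨b1, b2, b3, b4, b5, b6⟩
    refine ⟨?_, ?_, ?_, ?_, ?_, ?_⟩ <;>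
      simp [Matrix.SpecialLinearGroup.coe_mul, Matrix.mul_apply,
        Fin.sum_univ_three, a1, a2, a3, a4, a5, a6, b1, b2, b3, b4, b5, b6]
  inv_mem' := by
    rintro A ⟨a1, a2, a3, a4, a5, a6⟩
    refine ⟨?_, ?_, ?_, ?_, ?_, ?_⟩ <;>
      simp [Matrix.SpecialLinearGroup.coe_inv, Matrix.adjugate_fin_three, a1, a2, a3, a4, a5, a6]

theorem heis_sub_one_cube {R : Type*} [CommRing R] (M : Matrix.SpecialLinearGroup (Fin 3) R)
    (hM : M ∈ heis R) : ((M : Matrix (Fin 3) (Fin 3) R) - 1) ^ 3 = 0 := by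
  obtain ⟨a1, a2, a3, a4, a5, a6⟩ := hM
  ext i j
  fin_cases i <;> fin_cases j <;>
    simp [pow_succ, Matrix.mul_apply, Fin.sum_univ_three, Matrix.sub_apply, Matrix.one_apply,
      a1, a2, a3, a4, a5, a6]

theorem heis_isPGroup (p : ℕ) [Fact p.Prime] : IsPGroup p (heis (ZMod p)) := by
  have hp : p.Prime := Fact.out
  rintro ⟨M, hM⟩
  refine ⟨2, ?_⟩
  apply Subtype.ext
  apply Subtype.ext
  show ((M ^ p ^ 2 : Matrix.SpecialLinearGroup (Fin 3) (ZMod p)) : Matrix (Fin 3) (Fin 3) (ZMod p)) = 1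
  rw [Matrix.SpecialLinearGroup.coe_pow]
  have h1 := sub_one_pow_char_pow p (M : Matrix (Fin 3) (Fin 3) (ZMod p)) 2
  have h2 : 3 ≤ p ^ 2 := by nlinarith [hp.two_le]
  obtain ⟨c, hc⟩ := Nat.exists_eq_add_of_le h2
  rw [hc, pow_add, heis_sub_one_cube M hM, zero_mul] at h1
  rw [hc]
  exact (sub_eq_zero.mp h1.symm)

theorem heis_le_qd (p : ℕ) : heis (ZMod p) ≤ Cfsg.qd p := by
  intro M hM
  obtain ⟨a1, a2, a3, a4, a5, a6⟩ := hM
  exact Subgroup.subset_closure ⟨a2, a3, a6⟩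

theorem not_involves_qd {p : ℕ} [Fact p.Prime] {K : Type*} [Field K] [Fintype K] [CharP K p] :
    ¬ Cfsg.Involves ↥(Cfsg.qd p) (Matrix.ProjectiveSpecialLinearGroup (Fin 2) K) := by
  classical
  intro hinv
  have h0 : PSubAb p (Matrix.SpecialLinearGroup (Fin 2) K) := SL2_pSubAb p
  have h1 : PSubAb p (Matrix.ProjectiveSpecialLinearGroup (Fin 2) K) :=
    h0.of_surjective (QuotientGroup.mk' _) (QuotientGroup.mk'_surjective _)
  have h2 : PSubAb p (Cfsg.qd p) := h1.of_involves hinv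
  have hT : IsPGroup p ((heis (ZMod p)).subgroupOf (Cfsg.qd p)) :=
    (heis_isPGroup p).comap_subtype
  let u : Matrix.SpecialLinearGroup (Fin 3) (ZMod p) :=
    ⟨!![1, 1, 0; 0, 1, 0; 0, 0, 1], by simp [Matrix.det_fin_three]⟩
  let t : Matrix.SpecialLinearGroup (Fin 3) (ZMod p) :=
    ⟨!![1, 0, 0; 0, 1, 1; 0, 0, 1], by simp [Matrix.det_fin_three]⟩
  have hu : u ∈ heis (ZMod p) := by
    refine ⟨?_, ?_, ?_, ?_, ?_, ?_⟩ <;> simp [u]
  have ht : t ∈ heis (ZMod p) := by
    refine ⟨?_, ?_, ?_, ?_, ?_, ?_⟩ <;> simp [t]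
  have hcomm := h2 _ hT ⟨u, heis_le_qd p hu⟩ (by exact hu) ⟨t, heis_le_qd p ht⟩ (by exact ht)
  have h3 : u * t = t * u := congrArg Subtype.val hcomm
  have h4 := congrArg (fun M : Matrix.SpecialLinearGroup (Fin 3) (ZMod p) =>
    (M : Matrix (Fin 3) (Fin 3) (ZMod p)) 0 2) h3
  simp only [Matrix.SpecialLinearGroup.coe_mul] at h4
  simp [u, t, Matrix.mul_apply, Fin.sum_univ_three] at h4

end Cfsg.Agent.Lib.Helper15
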