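import Mathlib
import Cfsg.Agent.Lib.Helper15.GL2Values

set_option autoImplicit false

namespace Cfsg.Agent.Lib.Helper15

open Cfsg.Agent.Lib.Helper2
open Matrix
open scoped ComplexConjugate

section SL2Chars

variable {F : Type*} [Field F] [Fintype F] [DecidableEq F]

/-- The principal series characters of SL₂. -/
noncomputable def piS (α : MulChar F ℂ) : Matrix.SpecialLinearGroup (Fin 2) F → ℂ :=
  Cfsg.indFun (borelSL F)
    (fun b => α (((b : Matrix.SpecialLinearGroup (Fin 2) F) : Matrix (Fin 2) (Fin 2) F) 0 0))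

/-- The Steinberg character of SL₂. -/
noncomputable def stS : Matrix.SpecialLinearGroup (Fin 2) F → ℂ :=
  piS (1 : MulChar F ℂ) - (fun _ => 1)

theorem piS_apply (α : MulChar F ℂ) (g : Matrix.SpecialLinearGroup (Fin 2) F) :
    piS α g = indVal (fun a _ => α a) (g : Matrix (Fin 2) (Fin 2) F) :=
  indFun_SL (fun a _ => α a) (isClassFunction_of_isIrrCharacter (thetaS_irr α)) g

theorem piS_isCharacter (α : MulChar F ℂ) :
    Cfsg.IsCharacter (Matrix.SpecialLinearGroup (Fin 2) F) (piS α) :=
  Cfsg.Agent.S0148.result _ _ (isCharacter_of_isIrrCharacter (thetaS_irr α))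

theorem piS_isClassFunction (α : MulChar F ℂ) :
    Cfsg.IsClassFunction (Matrix.SpecialLinearGroup (Fin 2) F) (piS α) :=
  indFun_isClassFunction _ _

theorem piS_one (α : MulChar F ℂ) : piS α 1 = (Fintype.card F : ℂ) + 1 := by
  rw [piS_apply, Matrix.SpecialLinearGroup.coe_one, indVal_one]; simp

theorem classInner_piS_piS (α β : MulChar F ℂ) :
    Cfsg.classInner (piS α) (piS β) =
      (if α = β then 1 else 0) + (if α = β⁻¹ then 1 else 0) := by
  unfold piS
  rw [frob_diag_SL (fun a _ => α a) _ (indFun_isClassFunction _ _)]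
  have h1 : ∀ a : Fˣ, ∑ x : F, Cfsg.indFun (borelSL F)
      (fun b => β (((b : Matrix.SpecialLinearGroup (Fin 2) F) : Matrix (Fin 2) (Fin 2) F) 0 0))
        (borelS a x) = (Fintype.card F : ℂ) * (β a + β⁻¹ a) := by
    intro a
    have : ∀ x : F, Cfsg.indFun (borelSL F)
        (fun b => β (((b : Matrix.SpecialLinearGroup (Fin 2) F) : Matrix (Fin 2) (Fin 2) F) 0 0))
          (borelS a x) = indVal (fun a _ => β a) !![(a : F), x; 0, ((a⁻¹ : Fˣ) : F)] := fun x => by
      rw [← borelS_val]; exact piS_apply β _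
    simp only [this]
    rw [sum_indVal_borel, MulChar.inv_apply', Units.val_inv_eq_inv_val]
  simp only [h1]
  have h2 : ∑ a : Fˣ, α a * conj ((Fintype.card F : ℂ) * (β a + β⁻¹ a)) =
      (Fintype.card F : ℂ) * ((∑ a : Fˣ, α a * conj (β a)) + (∑ a : Fˣ, α a * conj (β⁻¹ a))) := by
    rw [← Finset.sum_add_distrib, Finset.mul_sum]
    apply Finset.sum_congr rfl; intro a _
    simp only [map_mul, map_add, Complex.conj_natCast]
    ring
  rw [h2]
  simp only [sum_units_mulChar]
  have hq := card_ne_zero' (F := F)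
  have hq1 := card_sub_one_ne_zero (F := F)
  rw [ite_const_mul (α = β), ite_const_mul (α = β⁻¹)]
  generalize (if α = β then (1 : ℂ) else 0) = x1
  generalize (if α = β⁻¹ then (1 : ℂ) else 0) = x2
  field_simp

theorem classInner_piS_const (α : MulChar F ℂ) :
    Cfsg.classInner (piS α) (fun _ => (1 : ℂ)) = if α = 1 then 1 else 0 := by
  unfold piS
  rw [frob_diag_SL (fun a _ => α a) _ (isClassFunction_of_isIrrCharacter isIrrCharacter_one)]
  have h2 : ∑ a : Fˣ, α a * conj (∑ _x : F, (1 : ℂ)) =
      (Fintype.card F : ℂ) * (∑ a : Fˣ, α a * conj ((1 : MulChar F ℂ) a)) := by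
    rw [Finset.mul_sum]
    apply Finset.sum_congr rfl; intro a _
    simp
    ring
  rw [h2]
  simp only [sum_units_mulChar]
  have hq := card_ne_zero' (F := F)
  have hq1 := card_sub_one_ne_zero (F := F)
  rw [ite_const_mul (α = 1)]
  generalize (if α = 1 then (1 : ℂ) else 0) = x1
  field_simp

theorem classInner_const_piS (α : MulChar F ℂ) :
    Cfsg.classInner (fun _ => (1 : ℂ)) (piS α) = if α = 1 then 1 else 0 := by
  rw [← classInner_conj_symm, classInner_piS_const]; split_ifs <;> simp

theorem piS_irr {α : MulChar F ℂ} (h : α ^ 2 ≠ 1) :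
    Cfsg.IsIrrCharacter (Matrix.SpecialLinearGroup (Fin 2) F) (piS α) := by
  apply isIrrCharacter_of_norm_one (piS_isCharacter α)
  rw [classInner_piS_piS]
  have : α ≠ α⁻¹ := by
    intro hc; apply h
    rw [pow_two]; nth_rewrite 2 [hc]; exact mul_inv_cancel α
  simp [this]

theorem piS_irr_iff (α : MulChar F ℂ) :
    Cfsg.IsIrrCharacter (Matrix.SpecialLinearGroup (Fin 2) F) (piS α) ↔ α ^ 2 ≠ 1 := by
  constructor
  · intro h hc
    have h1 := classInner_irr_self h
    rw [classInner_piS_piS] at h1
    have : α = α⁻¹ := by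
      rw [eq_inv_iff_mul_eq_one, ← pow_two]; exact hc
    simp [← this] at h1
  · exact piS_irr

theorem stS_isCharacter : Cfsg.IsCharacter (Matrix.SpecialLinearGroup (Fin 2) F) (stS (F := F)) := by
  apply isCharacter_of_nat_inner _
    (IsClassFunction.sub (piS_isClassFunction 1) (isClassFunction_of_isIrrCharacter isIrrCharacter_one))
  intro ψ hψ
  change ∃ n : ℕ, Cfsg.classInner (piS (1 : MulChar F ℂ) - fun _ => 1) ψ = n
  rw [classInner_sub_left]
  obtain ⟨n, hn⟩ := classInner_isCharacter_nat (piS_isCharacter (1 : MulChar F ℂ))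
    (isCharacter_of_isIrrCharacter hψ)
  rw [classInner_irr isIrrCharacter_one hψ]
  by_cases h : (fun _ => (1 : ℂ)) = ψ
  · subst h
    rw [classInner_piS_const]
    exact ⟨0, by simp⟩
  · rw [if_neg h, hn]; exact ⟨n, by simp⟩

theorem classInner_stS_stS : Cfsg.classInner (stS (F := F)) (stS (F := F)) = 1 := by
  unfold stS
  rw [classInner_sub_left, classInner_sub_right', classInner_sub_right', classInner_piS_piS,
    classInner_piS_const, classInner_const_piS, classInner_irr_self isIrrCharacter_one]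
  simp

theorem stS_irr : Cfsg.IsIrrCharacter (Matrix.SpecialLinearGroup (Fin 2) F) (stS (F := F)) :=
  isIrrCharacter_of_norm_one stS_isCharacter classInner_stS_stS

theorem stS_one : stS (F := F) 1 = (Fintype.card F : ℂ) := by
  unfold stS
  rw [Pi.sub_apply, piS_one]; ring

/-- A class function orthogonal to the principal series sums to zero over upper triangular
cosets. -/
theorem cuspS_sum_borel (χ : Matrix.SpecialLinearGroup (Fin 2) F → ℂ)
    (hχ : Cfsg.IsClassFunction (Matrix.SpecialLinearGroup (Fin 2) F) χ)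
    (h : ∀ α : MulChar F ℂ, Cfsg.classInner (piS α) χ = 0) (a : Fˣ) :
    ∑ x : F, χ (borelS a x) = 0 := by
  classical
  have : Fintype (MulChar F ℂ) := Fintype.ofFinite _
  have hq := card_ne_zero' (F := F)
  have h1 : ∀ α : MulChar F ℂ, ∑ a : Fˣ, α a * conj (∑ x : F, χ (borelS a x)) = 0 := by
    intro α
    have := h α
    unfold piS at this
    rw [frob_diag_SL (fun a _ => α a) χ hχ] at this
    exact (mul_eq_zero.mp this).resolve_left (inv_ne_zero (mul_ne_zero card_sub_one_ne_zero hq))
  have h3 : conj (∑ x : F, χ (borelS a x)) = 0 :=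
    mulChar_dual (fun a => conj (∑ x : F, χ (borelS a x))) h1 a
  exact (map_eq_zero _).mp h3

omit [DecidableEq F] in
theorem indVal_congr_det [DecidableEq F] (f f' : F → F → ℂ) (M : Matrix (Fin 2) (Fin 2) F)
    (hdet : M.det = 1) (h : ∀ a d : F, a * d = 1 → f a d = f' a d) : indVal f M = indVal f' M := by
  rw [Matrix.det_fin_two] at hdet
  rw [indVal_eq, indVal_eq]
  congr 1
  · split_ifs with h01
    · apply h; rw [h01] at hdet; linear_combination hdet
    · rfl
  · apply Finset.sum_congr rfl
    intro t _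
    split_ifs with hc
    · apply h; linear_combination hdet + M 0 1 * hc
    · rfl

theorem piG_res (α β : MulChar F ℂ) (n : Matrix.SpecialLinearGroup (Fin 2) F) :
    piG α β (Matrix.SpecialLinearGroup.toGL n) = piS (α * β⁻¹) n := by
  rw [piG_apply, piS_apply]
  have hv : (Matrix.SpecialLinearGroup.toGL n).val = (n : Matrix (Fin 2) (Fin 2) F) := rfl
  rw [hv]
  apply indVal_congr_det _ _ _ n.det_coe
  intro a d had
  have hd : d = a⁻¹ := eq_inv_of_mul_eq_one_right had
  rw [MulChar.mul_apply, MulChar.inv_apply', hd]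

end SL2Chars

end Cfsg.Agent.Lib.Helper15
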