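import Mathlib
import Cfsg.Agent.Lib.Helper15.GL2
import Cfsg.Agent.Lib.Helper15.GL2Classes
import Cfsg.Agent.Lib.Helper15.ConjCount

set_option autoImplicit false

namespace Cfsg.Agent.Lib.Helper15

open Matrix Polynomial

variable {F : Type*} [Field F]

/-- The norm form `x² + t x y + y²` is universal over a finite field when `t² ≠ 4` or in
characteristic two. -/
theorem norm_universal [Fintype F] (t : F) (hF : ringChar F = 2 ∨ t ^ 2 ≠ 4) (δ : F) :
    ∃ x y : F, x ^ 2 + t * x * y + y ^ 2 = δ := by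
  by_cases hc : ringChar F = 2
  · obtain ⟨s, hs⟩ := FiniteField.isSquare_of_char_two hc δ
    exact ⟨s, 0, by rw [hs]; ring⟩
  · have ht : t ^ 2 ≠ 4 := hF.resolve_left hc
    have h2 : (2 : F) ≠ 0 := Ring.two_ne_zero hc
    have h4 : (4 : F) ≠ 0 := by
      have : (4 : F) = 2 * 2 := by norm_num
      rw [this]; exact mul_ne_zero h2 h2
    have hodd : Fintype.card F % 2 = 1 := FiniteField.odd_card_of_char_ne_two hc
    set e : F := 1 - t ^ 2 / 4 with he
    have he0 : e ≠ 0 := by
      intro h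
      apply ht
      rw [he] at h
      have h5 : t ^ 2 = 4 * (1 - (1 - t ^ 2 / 4)) := by field_simp; ring
      rw [h5, h]; ring
    have hf : degree (X ^ 2 : F[X]) = 2 := degree_X_pow 2
    have hg : degree (C e * X ^ 2 - C δ : F[X]) = 2 := by
      rw [degree_sub_C (by rw [degree_C_mul_X_pow 2 he0]; norm_num)]
      exact degree_C_mul_X_pow 2 he0
    obtain ⟨a, b, hab⟩ := FiniteField.exists_root_sum_quadratic hf hg hodd
    simp only [eval_pow, eval_X, eval_sub, eval_mul, eval_C] at hab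
    refine ⟨a - t * b / 2, b, ?_⟩
    have : (a - t * b / 2) ^ 2 + t * (a - t * b / 2) * b + b ^ 2 = a ^ 2 + e * b ^ 2 := by
      rw [he]; field_simp; ring
    rw [this]
    linear_combination hab

/-- Scaling the values of `qf` by norms. -/
theorem qf_scale (A : Matrix (Fin 2) (Fin 2) F) (hA : A.det = 1) (x₀ y₀ x y : F) :
    ∃ x' y' : F, qf A x' y' = (x₀ ^ 2 + A.trace * x₀ * y₀ + y₀ ^ 2) * qf A x y := by
  set M : Matrix (Fin 2) (Fin 2) F := x₀ • (1 : Matrix (Fin 2) (Fin 2) F) + y₀ • A with hM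
  have hcomm : A * M = M * A := by
    rw [hM]
    simp [Matrix.mul_add, Matrix.add_mul]
  have hdet : M.det = x₀ ^ 2 + A.trace * x₀ * y₀ + y₀ ^ 2 := by
    rw [Matrix.det_fin_two] at hA
    rw [hM, Matrix.det_fin_two, Matrix.trace_fin_two]
    simp only [Matrix.add_apply, Matrix.smul_apply, Matrix.one_apply_eq, smul_eq_mul, mul_one,
      ne_eq, not_false_eq_true, Matrix.one_apply_ne, mul_zero, zero_add,
      show (0 : Fin 2) ≠ 1 from by decide, show (1 : Fin 2) ≠ 0 from by decide]
    linear_combination (y₀ ^ 2) * hA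
  have := qf_mulVec A A M hcomm x y
  rw [hdet] at this
  exact ⟨_, _, this⟩

/-- Non-scalar elements of `SL₂` over a finite field with equal trace `t` are conjugate,
if `t² ≠ 4` or the characteristic is two. -/
theorem SL2_isConj_of_trace [Fintype F] (g h : Matrix.SpecialLinearGroup (Fin 2) F)
    (hF : ringChar F = 2 ∨ (g : Matrix (Fin 2) (Fin 2) F).trace ^ 2 ≠ 4)
    (hg : ¬ IsScalar2 (g : Matrix (Fin 2) (Fin 2) F)) (hh : ¬ IsScalar2 (h : Matrix (Fin 2) (Fin 2) F))
    (ht : (g : Matrix (Fin 2) (Fin 2) F).trace = (h : Matrix (Fin 2) (Fin 2) F).trace) : IsConj g h := by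
  obtain ⟨x, y, hxy⟩ := exists_qf_ne_zero _ hg
  obtain ⟨x', y', hxy'⟩ := exists_qf_ne_zero _ hh
  obtain ⟨x₀, y₀, h0⟩ := norm_universal _ hF
    (qf (h : Matrix (Fin 2) (Fin 2) F) x' y' / qf (g : Matrix (Fin 2) (Fin 2) F) x y)
  obtain ⟨x₁, y₁, h1⟩ := qf_scale (g : Matrix (Fin 2) (Fin 2) F) g.det_coe x₀ y₀ x y
  rw [h0, div_mul_cancel₀ _ hxy] at h1
  exact SL2_isConj_of_qf g h ht x₁ y₁ x' y' h1 (by rw [h1]; exact hxy')

theorem SL2_conj_of_isScalar2 (g c : Matrix.SpecialLinearGroup (Fin 2) F)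
    (hg : IsScalar2 (g : Matrix (Fin 2) (Fin 2) F)) : c * g * c⁻¹ = g := by
  have h1 : c * g = g * c := by
    apply Subtype.ext
    rw [Matrix.SpecialLinearGroup.coe_mul, Matrix.SpecialLinearGroup.coe_mul]
    exact (isScalar2_commute _ _ hg).symm
  rw [h1, mul_inv_cancel_right]

theorem SL2_isScalar2_iff_of_isConj (g h : Matrix.SpecialLinearGroup (Fin 2) F) (hc : IsConj g h) :
    IsScalar2 (g : Matrix (Fin 2) (Fin 2) F) ↔ IsScalar2 (h : Matrix (Fin 2) (Fin 2) F) := by
  constructor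
  · intro hg
    obtain ⟨c, hc⟩ := isConj_iff.mp hc
    rw [SL2_conj_of_isScalar2 g c hg] at hc
    rw [← hc]; exact hg
  · intro hh
    obtain ⟨c, hc⟩ := isConj_iff.mp hc.symm
    rw [SL2_conj_of_isScalar2 h c hh] at hc
    rw [← hc]; exact hh

theorem SL2_trace_of_isConj (g h : Matrix.SpecialLinearGroup (Fin 2) F) (hc : IsConj g h) :
    (g : Matrix (Fin 2) (Fin 2) F).trace = (h : Matrix (Fin 2) (Fin 2) F).trace := by
  obtain ⟨c, hc⟩ := isConj_iff.mp hc
  rw [← hc, Matrix.SpecialLinearGroup.coe_mul, Matrix.SpecialLinearGroup.coe_mul,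
    Matrix.trace_mul_cycle, ← Matrix.SpecialLinearGroup.coe_mul, inv_mul_cancel,
    Matrix.SpecialLinearGroup.coe_one, Matrix.one_mul]

/-- The companion matrix as an element of `SL₂`. -/
def sl2Companion (t : F) : Matrix.SpecialLinearGroup (Fin 2) F :=
  ⟨companion 1 t 1, det_companion 1 t 1 one_ne_zero⟩

theorem sl2Companion_trace (t : F) : ((sl2Companion t : Matrix.SpecialLinearGroup (Fin 2) F) : Matrix (Fin 2) (Fin 2) F).trace = t :=
  trace_companion 1 t 1

theorem sl2Companion_not_scalar (t : F) :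
    ¬ IsScalar2 ((sl2Companion t : Matrix.SpecialLinearGroup (Fin 2) F) : Matrix (Fin 2) (Fin 2) F) := by
  simp [IsScalar2, sl2Companion, companion]

end Cfsg.Agent.Lib.Helper15

namespace Cfsg.Agent.Lib.Helper15

open Matrix Polynomial

variable {F : Type*} [Field F]

theorem SL2_scalar_sq (g : Matrix.SpecialLinearGroup (Fin 2) F)
    (hg : IsScalar2 (g : Matrix (Fin 2) (Fin 2) F)) :
    (g : Matrix (Fin 2) (Fin 2) F) 0 0 ^ 2 = 1 := by
  obtain ⟨h1, h2, h3⟩ := hg
  have hd := g.det_coe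
  rw [Matrix.det_fin_two, h1, ← h3] at hd
  linear_combination hd

theorem SL2_eq_of_scalar (g h : Matrix.SpecialLinearGroup (Fin 2) F)
    (hg : IsScalar2 (g : Matrix (Fin 2) (Fin 2) F)) (hh : IsScalar2 (h : Matrix (Fin 2) (Fin 2) F))
    (h00 : (g : Matrix (Fin 2) (Fin 2) F) 0 0 = (h : Matrix (Fin 2) (Fin 2) F) 0 0) : g = h := by
  apply Subtype.ext
  obtain ⟨a1, a2, a3⟩ := hg
  obtain ⟨b1, b2, b3⟩ := hh
  ext i j
  fin_cases i <;> fin_cases j <;> simp [a1, a2, b1, b2, h00, ← a3, ← b3]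

open Classical in
/-- A complete conjugacy invariant on `SL₂` in characteristic two. -/
noncomputable def sl2InvEven (g : Matrix.SpecialLinearGroup (Fin 2) F) : Option F :=
  if IsScalar2 (g : Matrix (Fin 2) (Fin 2) F) then none else some (g : Matrix (Fin 2) (Fin 2) F).trace

theorem sl2InvEven_eq_iff [Fintype F] [CharP F 2] (g h : Matrix.SpecialLinearGroup (Fin 2) F) :
    sl2InvEven g = sl2InvEven h ↔ IsConj g h := by
  have hchar : ringChar F = 2 := ringChar.eq_iff.mpr inferInstance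
  have h2 : (2 : F) = 0 := CharTwo.two_eq_zero
  constructor
  · intro hgh
    unfold sl2InvEven at hgh
    by_cases hg : IsScalar2 (g : Matrix (Fin 2) (Fin 2) F)
    · by_cases hh : IsScalar2 (h : Matrix (Fin 2) (Fin 2) F)
      · have e1 := SL2_scalar_sq g hg
        have e2 := SL2_scalar_sq h hh
        have f1 : (g : Matrix (Fin 2) (Fin 2) F) 0 0 = 1 := by
          have : ((g : Matrix (Fin 2) (Fin 2) F) 0 0 - 1) ^ 2 = 0 := by
            linear_combination e1 - ((g : Matrix (Fin 2) (Fin 2) F) 0 0) * h2 + h2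
          have := pow_eq_zero_iff (two_ne_zero) |>.mp this
          linear_combination this
        have f2 : (h : Matrix (Fin 2) (Fin 2) F) 0 0 = 1 := by
          have : ((h : Matrix (Fin 2) (Fin 2) F) 0 0 - 1) ^ 2 = 0 := by
            linear_combination e2 - ((h : Matrix (Fin 2) (Fin 2) F) 0 0) * h2 + h2
          have := pow_eq_zero_iff (two_ne_zero) |>.mp this
          linear_combination this
        rw [SL2_eq_of_scalar g h hg hh (f1.trans f2.symm)]
      · rw [if_pos hg, if_neg hh] at hgh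
        exact absurd hgh (by simp)
    · by_cases hh : IsScalar2 (h : Matrix (Fin 2) (Fin 2) F)
      · rw [if_neg hg, if_pos hh] at hgh
        exact absurd hgh (by simp)
      · rw [if_neg hg, if_neg hh] at hgh
        exact SL2_isConj_of_trace g h (Or.inl hchar) hg hh (Option.some.inj hgh)
  · intro hc
    have hs := SL2_isScalar2_iff_of_isConj g h hc
    have ht := SL2_trace_of_isConj g h hc
    unfold sl2InvEven
    by_cases hg : IsScalar2 (g : Matrix (Fin 2) (Fin 2) F)
    · rw [if_pos hg, if_pos (hs.mp hg)]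
    · rw [if_neg hg, if_neg (fun hh => hg (hs.mpr hh)), ht]

theorem sl2InvEven_surjective : Function.Surjective (sl2InvEven (F := F)) := by
  intro o
  cases o with
  | none =>
    refine ⟨1, ?_⟩
    unfold sl2InvEven
    rw [if_pos (by simp [IsScalar2])]
  | some t =>
    refine ⟨sl2Companion t, ?_⟩
    unfold sl2InvEven
    rw [if_neg (sl2Companion_not_scalar t), sl2Companion_trace]

theorem card_conjClasses_SL2_even [Fintype F] [CharP F 2] :
    Nat.card (ConjClasses (Matrix.SpecialLinearGroup (Fin 2) F)) = Fintype.card F + 1 := by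
  classical
  rw [card_conjClasses_of_invariant sl2InvEven sl2InvEven_eq_iff sl2InvEven_surjective]
  rw [Nat.card_eq_fintype_card, Fintype.card_option]

end Cfsg.Agent.Lib.Helper15

namespace Cfsg.Agent.Lib.Helper15

open Matrix Polynomial

variable {F : Type*} [Field F]

theorem qf_smul (A : Matrix (Fin 2) (Fin 2) F) (k x y : F) :
    qf A (k * x) (k * y) = k ^ 2 * qf A x y := by
  simp only [qf]; ring

/-- When the discriminant vanishes, all values of `qf` lie in one square class. -/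
theorem qf_mul_qf_isSquare (A : Matrix (Fin 2) (Fin 2) F) (h2 : (2 : F) ≠ 0)
    (hdisc : (A 1 1 - A 0 0) ^ 2 + 4 * A 0 1 * A 1 0 = 0) (x y x' y' : F) :
    IsSquare (qf A x y * qf A x' y') := by
  by_cases hc : A 1 0 = 0
  · have he : A 1 1 - A 0 0 = 0 := by
      rw [hc] at hdisc
      have : (A 1 1 - A 0 0) ^ 2 = 0 := by linear_combination hdisc
      exact pow_eq_zero_iff (two_ne_zero) |>.mp this
    refine ⟨A 0 1 * y * y', ?_⟩
    simp only [qf, hc, he]
    ring
  · refine ⟨A 1 0 * (x + (A 1 1 - A 0 0) * y / (2 * A 1 0)) * (x' + (A 1 1 - A 0 0) * y' / (2 * A 1 0)), ?_⟩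
    have key : ∀ u v : F, qf A u v = A 1 0 * (u + (A 1 1 - A 0 0) * v / (2 * A 1 0)) ^ 2 := by
      intro u v
      simp only [qf]
      field_simp
      linear_combination (-v ^ 2) * hdisc
    rw [key x y, key x' y']
    ring

theorem SL2_disc (g : Matrix.SpecialLinearGroup (Fin 2) F) :
    ((g : Matrix (Fin 2) (Fin 2) F) 1 1 - (g : Matrix (Fin 2) (Fin 2) F) 0 0) ^ 2 +
      4 * (g : Matrix (Fin 2) (Fin 2) F) 0 1 * (g : Matrix (Fin 2) (Fin 2) F) 1 0 =
      (g : Matrix (Fin 2) (Fin 2) F).trace ^ 2 - 4 := by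
  have hd := g.det_coe
  rw [Matrix.det_fin_two] at hd
  rw [Matrix.trace_fin_two]
  linear_combination (-4 : F) * hd

theorem isSquare_mul_of_not_isSquare [Fintype F] (hF : ringChar F ≠ 2) {a b : F}
    (ha : ¬ IsSquare a) (hb : ¬ IsSquare b) : IsSquare (a * b) := by
  have ha0 : a ≠ 0 := fun h => ha (by rw [h]; exact IsSquare.zero)
  have hb0 : b ≠ 0 := fun h => hb (by rw [h]; exact IsSquare.zero)
  rw [FiniteField.isSquare_iff hF (mul_ne_zero ha0 hb0), mul_pow]
  have h1 := (FiniteField.pow_dichotomy hF ha0).resolve_left (fun h => ha ((FiniteField.isSquare_iff hF ha0).mpr h))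
  have h2 := (FiniteField.pow_dichotomy hF hb0).resolve_left (fun h => hb ((FiniteField.isSquare_iff hF hb0).mpr h))
  rw [h1, h2]; ring

theorem isSquare_of_mul_isSquare {a b : F} (ha0 : a ≠ 0) (ha : IsSquare a) (hab : IsSquare (a * b)) :
    IsSquare b := by
  obtain ⟨r, hr⟩ := ha
  obtain ⟨s, hs⟩ := hab
  have hr0 : r ≠ 0 := fun h => ha0 (by rw [hr, h]; ring)
  refine ⟨s / r, ?_⟩
  field_simp
  rw [hr] at hs
  linear_combination hs

/-- The "square value" flag of an element of `SL₂`. -/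
def SqFlag (g : Matrix.SpecialLinearGroup (Fin 2) F) : Prop :=
  ∃ x y : F, qf (g : Matrix (Fin 2) (Fin 2) F) x y ≠ 0 ∧ IsSquare (qf (g : Matrix (Fin 2) (Fin 2) F) x y)

theorem sqFlag_iff_of_isConj (g h : Matrix.SpecialLinearGroup (Fin 2) F) (hc : IsConj g h) :
    SqFlag g ↔ SqFlag h := by
  constructor
  · rintro ⟨x, y, h1, h2⟩
    obtain ⟨x', y', h3⟩ := SL2_qf_of_isConj g h hc x y
    exact ⟨x', y', by rw [h3]; exact h1, by rw [h3]; exact h2⟩
  · rintro ⟨x, y, h1, h2⟩
    obtain ⟨x', y', h3⟩ := SL2_qf_of_isConj h g hc.symm x y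
    exact ⟨x', y', by rw [h3]; exact h1, by rw [h3]; exact h2⟩

theorem sqFlag_of_trace [Fintype F] (g : Matrix.SpecialLinearGroup (Fin 2) F)
    (hg : ¬ IsScalar2 (g : Matrix (Fin 2) (Fin 2) F))
    (hF : ringChar F = 2 ∨ (g : Matrix (Fin 2) (Fin 2) F).trace ^ 2 ≠ 4) : SqFlag g := by
  obtain ⟨x, y, hxy⟩ := exists_qf_ne_zero _ hg
  obtain ⟨x₀, y₀, h0⟩ := norm_universal _ hF (1 / qf (g : Matrix (Fin 2) (Fin 2) F) x y)
  obtain ⟨x₁, y₁, h1⟩ := qf_scale (g : Matrix (Fin 2) (Fin 2) F) g.det_coe x₀ y₀ x y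
  rw [h0, div_mul_cancel₀ _ hxy] at h1
  exact ⟨x₁, y₁, by rw [h1]; exact one_ne_zero, by rw [h1]; exact IsSquare.one⟩

/-- Non-scalar elements of `SL₂` over a finite field of odd characteristic with the same trace
and the same flag are conjugate. -/
theorem SL2_isConj_of_flag [Fintype F] (hF : ringChar F ≠ 2) (g h : Matrix.SpecialLinearGroup (Fin 2) F)
    (hg : ¬ IsScalar2 (g : Matrix (Fin 2) (Fin 2) F)) (hh : ¬ IsScalar2 (h : Matrix (Fin 2) (Fin 2) F))
    (ht : (g : Matrix (Fin 2) (Fin 2) F).trace = (h : Matrix (Fin 2) (Fin 2) F).trace)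
    (hfl : SqFlag g ↔ SqFlag h) : IsConj g h := by
  by_cases ht4 : (g : Matrix (Fin 2) (Fin 2) F).trace ^ 2 = 4
  · have h2 : (2 : F) ≠ 0 := Ring.two_ne_zero hF
    have hdg := SL2_disc g
    have hdh := SL2_disc h
    rw [ht4, sub_self] at hdg
    rw [← ht, ht4, sub_self] at hdh
    obtain ⟨x, y, hxy⟩ := exists_qf_ne_zero _ hg
    obtain ⟨x', y', hxy'⟩ := exists_qf_ne_zero _ hh
    have hsq : IsSquare (qf (g : Matrix (Fin 2) (Fin 2) F) x y * qf (h : Matrix (Fin 2) (Fin 2) F) x' y') := by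
      by_cases hfg : SqFlag g
      · obtain ⟨u, v, h1, h3⟩ := hfg
        obtain ⟨u', v', h1', h3'⟩ := hfl.mp ⟨u, v, h1, h3⟩
        have e1 := isSquare_of_mul_isSquare h1 h3 (qf_mul_qf_isSquare _ h2 hdg u v x y)
        have e2 := isSquare_of_mul_isSquare h1' h3' (qf_mul_qf_isSquare _ h2 hdh u' v' x' y')
        exact e1.mul e2
      · have e1 : ¬ IsSquare (qf (g : Matrix (Fin 2) (Fin 2) F) x y) := fun hs => hfg ⟨x, y, hxy, hs⟩
        have e2 : ¬ IsSquare (qf (h : Matrix (Fin 2) (Fin 2) F) x' y') :=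
          fun hs => hfg (hfl.mpr ⟨x', y', hxy', hs⟩)
        exact isSquare_mul_of_not_isSquare hF e1 e2
    obtain ⟨s, hs⟩ := hsq
    have h5 : qf (g : Matrix (Fin 2) (Fin 2) F) (s / qf (g : Matrix (Fin 2) (Fin 2) F) x y * x)
        (s / qf (g : Matrix (Fin 2) (Fin 2) F) x y * y) = qf (h : Matrix (Fin 2) (Fin 2) F) x' y' := by
      rw [qf_smul]
      field_simp
      linear_combination (-1 : F) * hs
    exact SL2_isConj_of_qf g h ht _ _ x' y' h5 (by rw [h5]; exact hxy')
  · exact SL2_isConj_of_trace g h (Or.inr ht4) hg hh ht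

end Cfsg.Agent.Lib.Helper15

namespace Cfsg.Agent.Lib.Helper15

open Matrix Polynomial

variable {F : Type*} [Field F]

/-- Upper triangular element `[[ε, n], [0, ε]]` of `SL₂`, `ε² = 1`. -/
def sl2Upper (ε n : F) (hε : ε ^ 2 = 1) : Matrix.SpecialLinearGroup (Fin 2) F :=
  ⟨!![ε, n; 0, ε], by rw [Matrix.det_fin_two_of]; linear_combination hε⟩

theorem sl2Upper_trace (ε n : F) (hε : ε ^ 2 = 1) :
    ((sl2Upper ε n hε : Matrix.SpecialLinearGroup (Fin 2) F) : Matrix (Fin 2) (Fin 2) F).trace = 2 * ε := by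
  simp [sl2Upper, Matrix.trace_fin_two]; ring

theorem sl2Upper_isScalar2 (ε n : F) (hε : ε ^ 2 = 1) :
    IsScalar2 ((sl2Upper ε n hε : Matrix.SpecialLinearGroup (Fin 2) F) : Matrix (Fin 2) (Fin 2) F) ↔ n = 0 := by
  simp [sl2Upper, IsScalar2]

theorem sl2Upper_qf (ε n : F) (hε : ε ^ 2 = 1) (x y : F) :
    qf ((sl2Upper ε n hε : Matrix.SpecialLinearGroup (Fin 2) F) : Matrix (Fin 2) (Fin 2) F) x y = -n * y ^ 2 := by
  simp [sl2Upper, qf]

theorem sl2Upper_not_sqFlag (ε n : F) (hε : ε ^ 2 = 1) (hn : ¬ IsSquare (-n)) :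
    ¬ SqFlag (sl2Upper ε n hε) := by
  rintro ⟨x, y, h1, h2⟩
  rw [sl2Upper_qf] at h1 h2
  have hy : y ≠ 0 := by
    rintro rfl
    apply h1; ring
  apply hn
  obtain ⟨s, hs⟩ := h2
  refine ⟨s / y, ?_⟩
  field_simp
  linear_combination hs

theorem sl2Companion_sqFlag (t : F) : SqFlag (sl2Companion t) := by
  refine ⟨1, 0, ?_, ?_⟩ <;> simp [sl2Companion, companion, qf]

open Classical in
/-- A complete conjugacy invariant on `SL₂` in odd characteristic. -/
noncomputable def sl2InvOdd (g : Matrix.SpecialLinearGroup (Fin 2) F) : F × Option Bool :=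
  ((g : Matrix (Fin 2) (Fin 2) F).trace,
    if IsScalar2 (g : Matrix (Fin 2) (Fin 2) F) then none else some (decide (SqFlag g)))

theorem sl2InvOdd_eq_iff [Fintype F] (hF : ringChar F ≠ 2) (g h : Matrix.SpecialLinearGroup (Fin 2) F) :
    sl2InvOdd g = sl2InvOdd h ↔ IsConj g h := by
  have h2 : (2 : F) ≠ 0 := Ring.two_ne_zero hF
  constructor
  · intro hgh
    unfold sl2InvOdd at hgh
    obtain ⟨ht, hsnd⟩ := Prod.ext_iff.mp hgh
    simp only at ht hsnd
    by_cases hg : IsScalar2 (g : Matrix (Fin 2) (Fin 2) F)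
    · by_cases hh : IsScalar2 (h : Matrix (Fin 2) (Fin 2) F)
      · have h00 : (g : Matrix (Fin 2) (Fin 2) F) 0 0 = (h : Matrix (Fin 2) (Fin 2) F) 0 0 := by
          rw [Matrix.trace_fin_two, Matrix.trace_fin_two, ← hg.2.2, ← hh.2.2] at ht
          have : 2 * ((g : Matrix (Fin 2) (Fin 2) F) 0 0 - (h : Matrix (Fin 2) (Fin 2) F) 0 0) = 0 := by
            linear_combination ht
          rcases mul_eq_zero.mp this with h | h
          · exact absurd h h2
          · exact sub_eq_zero.mp h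
        rw [SL2_eq_of_scalar g h hg hh h00]
      · rw [if_pos hg, if_neg hh] at hsnd
        exact absurd hsnd (by simp)
    · by_cases hh : IsScalar2 (h : Matrix (Fin 2) (Fin 2) F)
      · rw [if_neg hg, if_pos hh] at hsnd
        exact absurd hsnd (by simp)
      · rw [if_neg hg, if_neg hh] at hsnd
        have hfl : SqFlag g ↔ SqFlag h := by
          have := Option.some.inj hsnd
          exact decide_eq_decide.mp this
        exact SL2_isConj_of_flag hF g h hg hh ht hfl
  · intro hc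
    have hs := SL2_isScalar2_iff_of_isConj g h hc
    have ht := SL2_trace_of_isConj g h hc
    have hfl := sqFlag_iff_of_isConj g h hc
    unfold sl2InvOdd
    refine Prod.ext ht ?_
    simp only
    by_cases hg : IsScalar2 (g : Matrix (Fin 2) (Fin 2) F)
    · rw [if_pos hg, if_pos (hs.mp hg)]
    · rw [if_neg hg, if_neg (fun hh => hg (hs.mpr hh))]
      congr 1
      exact decide_eq_decide.mpr hfl

theorem sl2InvOdd_range [Fintype F] (hF : ringChar F ≠ 2) :
    Set.range (sl2InvOdd (F := F)) =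
      (Set.range fun t : F => (t, some true)) ∪
        {((2 : F), some false), ((-2 : F), some false), ((2 : F), none), ((-2 : F), none)} := by
  have h2 : (2 : F) ≠ 0 := Ring.two_ne_zero hF
  apply Set.eq_of_subset_of_subset
  · rintro _ ⟨g, rfl⟩
    unfold sl2InvOdd
    by_cases hg : IsScalar2 (g : Matrix (Fin 2) (Fin 2) F)
    · rw [if_pos hg]
      right
      have h1 := SL2_scalar_sq g hg
      have h3 : (g : Matrix (Fin 2) (Fin 2) F).trace = 2 * (g : Matrix (Fin 2) (Fin 2) F) 0 0 := by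
        rw [Matrix.trace_fin_two, ← hg.2.2]; ring
      rw [h3]
      have h4 : ((g : Matrix (Fin 2) (Fin 2) F) 0 0 - 1) * ((g : Matrix (Fin 2) (Fin 2) F) 0 0 + 1) = 0 := by
        linear_combination h1
      rcases mul_eq_zero.mp h4 with h | h
      · have : (g : Matrix (Fin 2) (Fin 2) F) 0 0 = 1 := by linear_combination h
        rw [this]; simp
      · have : (g : Matrix (Fin 2) (Fin 2) F) 0 0 = -1 := by linear_combination h
        rw [this]; simp
    · rw [if_neg hg]
      by_cases hfl : SqFlag g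
      · left
        exact ⟨(g : Matrix (Fin 2) (Fin 2) F).trace, by simp [hfl]⟩
      · right
        have ht4 : (g : Matrix (Fin 2) (Fin 2) F).trace ^ 2 = 4 := by
          by_contra hne
          exact hfl (sqFlag_of_trace g hg (Or.inr hne))
        have h4 : ((g : Matrix (Fin 2) (Fin 2) F).trace - 2) * ((g : Matrix (Fin 2) (Fin 2) F).trace + 2) = 0 := by
          linear_combination ht4
        rcases mul_eq_zero.mp h4 with h | h
        · have : (g : Matrix (Fin 2) (Fin 2) F).trace = 2 := by linear_combination h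
          rw [this]; simp [hfl]
        · have : (g : Matrix (Fin 2) (Fin 2) F).trace = -2 := by linear_combination h
          rw [this]; simp [hfl]
  · obtain ⟨n, hn⟩ := FiniteField.exists_nonsquare hF
    have hn' : ¬ IsSquare (-(-n)) := by rwa [neg_neg]
    have hn0 : -n ≠ 0 := by
      intro h
      apply hn
      have : n = 0 := by linear_combination (-1 : F) * h
      rw [this]; exact IsSquare.zero
    have e1 : (1 : F) ^ 2 = 1 := by ring
    have e2 : (-1 : F) ^ 2 = 1 := by ring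
    rintro p (⟨t, rfl⟩ | hp)
    · refine ⟨sl2Companion t, ?_⟩
      unfold sl2InvOdd
      rw [if_neg (sl2Companion_not_scalar t), sl2Companion_trace]
      simp [sl2Companion_sqFlag]
    · simp only [Set.mem_insert_iff, Set.mem_singleton_iff] at hp
      rcases hp with rfl | rfl | rfl | rfl
      · refine ⟨sl2Upper 1 (-n) e1, ?_⟩
        unfold sl2InvOdd
        rw [if_neg (by rw [sl2Upper_isScalar2]; exact hn0), sl2Upper_trace]
        simp [sl2Upper_not_sqFlag 1 (-n) e1 hn']
      · refine ⟨sl2Upper (-1) (-n) e2, ?_⟩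
        unfold sl2InvOdd
        rw [if_neg (by rw [sl2Upper_isScalar2]; exact hn0), sl2Upper_trace]
        simp [sl2Upper_not_sqFlag (-1) (-n) e2 hn']
      · refine ⟨sl2Upper 1 0 e1, ?_⟩
        unfold sl2InvOdd
        rw [if_pos (by rw [sl2Upper_isScalar2]), sl2Upper_trace]
        simp
      · refine ⟨sl2Upper (-1) 0 e2, ?_⟩
        unfold sl2InvOdd
        rw [if_pos (by rw [sl2Upper_isScalar2]), sl2Upper_trace]
        simp

theorem card_conjClasses_SL2_odd [Fintype F] (hodd : Odd (Fintype.card F)) :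
    Nat.card (ConjClasses (Matrix.SpecialLinearGroup (Fin 2) F)) = Fintype.card F + 4 := by
  classical
  have hF : ringChar F ≠ 2 := by
    intro h
    have := FiniteField.even_card_of_char_two h
    rcases hodd with ⟨k, hk⟩
    omega
  have h2 : (2 : F) ≠ 0 := Ring.two_ne_zero hF
  have h22 : (2 : F) ≠ -2 := by
    intro h
    have : (2 : F) * 2 = 0 := by linear_combination h
    rcases mul_eq_zero.mp this with h | h <;> exact h2 h
  rw [card_conjClasses_eq_card_range sl2InvOdd (sl2InvOdd_eq_iff hF), sl2InvOdd_range hF]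
  rw [Nat.card_coe_set_eq, Set.ncard_union_eq]
  · have e1 : (Set.range fun t : F => (t, some true)).ncard = Fintype.card F := by
      rw [← Set.image_univ, Set.ncard_image_of_injective _ (fun a b h => (Prod.ext_iff.mp h).1),
        Set.ncard_univ, Nat.card_eq_fintype_card]
    have e2 : ({((2 : F), some false), ((-2 : F), some false), ((2 : F), none), ((-2 : F), none)} :
        Set (F × Option Bool)).ncard = 4 := by
      rw [Set.ncard_insert_of_notMem (by simp [h22]), Set.ncard_insert_of_notMem (by simp),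
        Set.ncard_pair (by simp [h22])]
    rw [e1, e2]
  · rw [Set.disjoint_left]
    rintro p ⟨t, rfl⟩ hp
    simp at hp

end Cfsg.Agent.Lib.Helper15
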