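import Mathlib
import Cfsg.Agent.Lib.Helper15.SL2Chars

set_option autoImplicit false

namespace Cfsg.Agent.Lib.Helper15

open Cfsg.Agent.Lib.Helper2
open Matrix
open scoped ComplexConjugate

/-- A character of norm two is the sum of two different irreducible characters. -/
theorem char_norm_two {G : Type*} [Group G] [Fintype G] {Θ : G → ℂ} (hΘ : Cfsg.IsCharacter G Θ)
    (h2 : Cfsg.classInner Θ Θ = 2) :
    ∃ χ₁ χ₂ : G → ℂ, Cfsg.IsIrrCharacter G χ₁ ∧ Cfsg.IsIrrCharacter G χ₂ ∧ χ₁ ≠ χ₂ ∧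
      Θ = χ₁ + χ₂ := by
  classical
  have : Fintype (Cfsg.IrrCharacter G) := Fintype.ofFinite _
  have hnat : ∀ ψ : Cfsg.IrrCharacter G, ∃ n : ℕ, Cfsg.classInner Θ (ψ : G → ℂ) = n :=
    fun ψ => classInner_isCharacter_nat hΘ (isCharacter_of_isIrrCharacter ψ.2)
  choose m hm using hnat
  have hcl := isClassFunction_of_isCharacter hΘ
  have hsum : ∑ ψ : Cfsg.IrrCharacter G, m ψ ^ 2 = 2 := by
    have h1 := classInner_eq_sum Θ Θ hcl
    rw [h2] at h1
    have h3 : ∀ ψ : Cfsg.IrrCharacter G, Cfsg.classInner Θ (ψ : G → ℂ) *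
        conj (Cfsg.classInner Θ (ψ : G → ℂ)) = ((m ψ ^ 2 : ℕ) : ℂ) := by
      intro ψ; rw [hm ψ, Complex.conj_natCast]; push_cast; ring
    simp only [h3] at h1
    rw [← Nat.cast_sum] at h1
    exact_mod_cast h1.symm
  have hexp : Θ = ∑ ψ : Cfsg.IrrCharacter G, (m ψ : ℂ) • (ψ : G → ℂ) := by
    have := class_fun_expand Θ hcl
    simp only [hm] at this
    exact this
  -- first constituent
  have hex1 : ∃ ψ₁ : Cfsg.IrrCharacter G, m ψ₁ ≠ 0 := by
    by_contra hcon
    push Not at hcon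
    simp [hcon] at hsum
  obtain ⟨ψ₁, hψ₁⟩ := hex1
  have hle1 : m ψ₁ ^ 2 ≤ 2 := by
    calc m ψ₁ ^ 2 ≤ ∑ ψ : Cfsg.IrrCharacter G, m ψ ^ 2 :=
          Finset.single_le_sum (f := fun ψ => m ψ ^ 2) (fun _ _ => Nat.zero_le _) (Finset.mem_univ ψ₁)
      _ = 2 := hsum
  have hm1 : m ψ₁ = 1 := by
    have : m ψ₁ < 2 := by nlinarith
    omega
  have hsum2 : ∑ ψ ∈ Finset.univ.erase ψ₁, m ψ ^ 2 = 1 := by
    have := Finset.add_sum_erase Finset.univ (fun ψ => m ψ ^ 2) (Finset.mem_univ ψ₁)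
    rw [hsum, hm1, one_pow] at this
    omega
  have hex2 : ∃ ψ₂ ∈ Finset.univ.erase ψ₁, m ψ₂ ≠ 0 := by
    by_contra hcon
    push Not at hcon
    rw [Finset.sum_eq_zero (fun ψ hψ => by rw [hcon ψ hψ]; rfl)] at hsum2
    exact absurd hsum2 (by norm_num)
  obtain ⟨ψ₂, hψ₂mem, hψ₂⟩ := hex2
  have hle2 : m ψ₂ ^ 2 ≤ 1 := by
    calc m ψ₂ ^ 2 ≤ ∑ ψ ∈ Finset.univ.erase ψ₁, m ψ ^ 2 :=
          Finset.single_le_sum (f := fun ψ => m ψ ^ 2) (fun _ _ => Nat.zero_le _) hψ₂mem
      _ = 1 := hsum2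
  have hm2 : m ψ₂ = 1 := by
    have : m ψ₂ < 2 := by nlinarith
    omega
  have hzero : ∀ ψ ∈ (Finset.univ.erase ψ₁).erase ψ₂, m ψ = 0 := by
    have := Finset.add_sum_erase (Finset.univ.erase ψ₁) (fun ψ => m ψ ^ 2) hψ₂mem
    rw [hsum2, hm2, one_pow] at this
    have h0 : ∑ ψ ∈ (Finset.univ.erase ψ₁).erase ψ₂, m ψ ^ 2 = 0 := by omega
    intro ψ hψ
    have := (Finset.sum_eq_zero_iff.mp h0) ψ hψ
    exact (pow_eq_zero_iff (by norm_num)).mp this
  refine ⟨ψ₁.1, ψ₂.1, ψ₁.2, ψ₂.2, ?_, ?_⟩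
  · intro h
    exact (Finset.ne_of_mem_erase hψ₂mem) (Subtype.ext h.symm)
  · rw [hexp, ← Finset.add_sum_erase Finset.univ _ (Finset.mem_univ ψ₁),
      ← Finset.add_sum_erase (Finset.univ.erase ψ₁) _ hψ₂mem, hm1, hm2]
    rw [Finset.sum_eq_zero (fun ψ hψ => by rw [hzero ψ hψ]; simp)]
    simp

section Twist

variable {F : Type*} [Field F]

/-- Conjugation by `diag(t, 1)` on SL₂. -/
def twistS (t : Fˣ) (m : Matrix.SpecialLinearGroup (Fin 2) F) :
    Matrix.SpecialLinearGroup (Fin 2) F :=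
  ⟨!![(m : Matrix (Fin 2) (Fin 2) F) 0 0, (t : F) * (m : Matrix (Fin 2) (Fin 2) F) 0 1;
      ((t⁻¹ : Fˣ) : F) * (m : Matrix (Fin 2) (Fin 2) F) 1 0, (m : Matrix (Fin 2) (Fin 2) F) 1 1], by
    have h := m.det_coe
    rw [Matrix.det_fin_two] at h
    rw [Matrix.det_fin_two_of]
    have ht : (t : F) * ((t⁻¹ : Fˣ) : F) = 1 := by
      rw [← Units.val_mul, mul_inv_cancel, Units.val_one]
    linear_combination h - ((m : Matrix (Fin 2) (Fin 2) F) 0 1 * (m : Matrix (Fin 2) (Fin 2) F) 1 0) * ht⟩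

theorem twistS_val (t : Fˣ) (m : Matrix.SpecialLinearGroup (Fin 2) F) :
    (twistS t m : Matrix (Fin 2) (Fin 2) F) =
      !![(m : Matrix (Fin 2) (Fin 2) F) 0 0, (t : F) * (m : Matrix (Fin 2) (Fin 2) F) 0 1;
        ((t⁻¹ : Fˣ) : F) * (m : Matrix (Fin 2) (Fin 2) F) 1 0, (m : Matrix (Fin 2) (Fin 2) F) 1 1] :=
  rfl

theorem twistS_mul (t : Fˣ) (m m' : Matrix.SpecialLinearGroup (Fin 2) F) :
    twistS t (m * m') = twistS t m * twistS t m' := by
  apply Subtype.ext
  rw [Matrix.SpecialLinearGroup.coe_mul, twistS_val, twistS_val, twistS_val,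
    Matrix.SpecialLinearGroup.coe_mul]
  have ht : (t : F) ≠ 0 := t.ne_zero
  ext i j
  fin_cases i <;> fin_cases j <;>
    simp [Matrix.mul_apply, Fin.sum_univ_two, Units.val_inv_eq_inv_val] <;> field_simp

/-- The twist as a group homomorphism. -/
def twistHom (t : Fˣ) :
    Matrix.SpecialLinearGroup (Fin 2) F →* Matrix.SpecialLinearGroup (Fin 2) F :=
  MonoidHom.mk' (twistS t) (twistS_mul t)

theorem twistS_twistS (t s : Fˣ) (m : Matrix.SpecialLinearGroup (Fin 2) F) :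
    twistS t (twistS s m) = twistS (t * s) m := by
  apply Subtype.ext
  rw [twistS_val, twistS_val, twistS_val]
  ext i j
  fin_cases i <;> fin_cases j <;> simp [mul_assoc, mul_comm]

theorem twistS_one (m : Matrix.SpecialLinearGroup (Fin 2) F) : twistS 1 m = m := by
  apply Subtype.ext
  rw [twistS_val]
  ext i j
  fin_cases i <;> fin_cases j <;> simp

theorem twistS_bijective (t : Fˣ) :
    Function.Bijective (twistS t : Matrix.SpecialLinearGroup (Fin 2) F → _) := by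
  refine Function.bijective_iff_has_inverse.mpr ⟨twistS t⁻¹, ?_, ?_⟩
  · intro m; rw [twistS_twistS, inv_mul_cancel, twistS_one]
  · intro m; rw [twistS_twistS, mul_inv_cancel, twistS_one]

theorem twistS_toGL (t : Fˣ) (m : Matrix.SpecialLinearGroup (Fin 2) F) :
    Matrix.SpecialLinearGroup.toGL (twistS t m) =
      ((borelG t 1 0 : borelGL F) : GL (Fin 2) F) * Matrix.SpecialLinearGroup.toGL m *
        ((borelG t 1 0 : borelGL F) : GL (Fin 2) F)⁻¹ := by
  rw [eq_mul_inv_iff_mul_eq]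
  apply Units.ext
  rw [Units.val_mul, Units.val_mul, borelG_val]
  have h1 : (Matrix.SpecialLinearGroup.toGL (twistS t m)).val = (twistS t m : Matrix (Fin 2) (Fin 2) F) := rfl
  have h2 : (Matrix.SpecialLinearGroup.toGL m).val = (m : Matrix (Fin 2) (Fin 2) F) := rfl
  rw [h1, h2, twistS_val]
  have ht : (t : F) ≠ 0 := t.ne_zero
  ext i j
  fin_cases i <;> fin_cases j <;>
    simp [Matrix.mul_apply, Fin.sum_univ_two, Units.val_inv_eq_inv_val] <;> field_simp

theorem twistS_sq (s : Fˣ) (m : Matrix.SpecialLinearGroup (Fin 2) F) :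
    twistS (s ^ 2) m = ((borelS s 0 : borelSL F) : Matrix.SpecialLinearGroup (Fin 2) F) * m *
      ((borelS s 0 : borelSL F) : Matrix.SpecialLinearGroup (Fin 2) F)⁻¹ := by
  rw [eq_mul_inv_iff_mul_eq]
  apply Subtype.ext
  rw [Matrix.SpecialLinearGroup.coe_mul, Matrix.SpecialLinearGroup.coe_mul, borelS_val, twistS_val]
  have hs : (s : F) ≠ 0 := s.ne_zero
  ext i j
  fin_cases i <;> fin_cases j <;>
    simp [Matrix.mul_apply, Fin.sum_univ_two, Units.val_inv_eq_inv_val] <;> field_simp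

theorem twistS_borelS (t a : Fˣ) (x : F) :
    twistS t ((borelS a x : borelSL F) : Matrix.SpecialLinearGroup (Fin 2) F) =
      ((borelS a (t * x) : borelSL F) : Matrix.SpecialLinearGroup (Fin 2) F) := by
  apply Subtype.ext
  rw [twistS_val, borelS_val, borelS_val]
  ext i j
  fin_cases i <;> fin_cases j <;> simp

variable [Fintype F] [DecidableEq F]

omit [Fintype F] [DecidableEq F] in
theorem twist_isCharacter (χ : Matrix.SpecialLinearGroup (Fin 2) F → ℂ)
    (h : Cfsg.IsCharacter (Matrix.SpecialLinearGroup (Fin 2) F) χ) (t : Fˣ) :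
    Cfsg.IsCharacter (Matrix.SpecialLinearGroup (Fin 2) F) (fun m => χ (twistS t m)) := by
  obtain ⟨n, ρ, rfl⟩ := h
  exact ⟨n, MonoidHom.comp ρ (twistHom t), rfl⟩

theorem classInner_twist (φ ψ : Matrix.SpecialLinearGroup (Fin 2) F → ℂ) (t : Fˣ) :
    Cfsg.classInner (fun m => φ (twistS t m)) (fun m => ψ (twistS t m)) = Cfsg.classInner φ ψ := by
  unfold Cfsg.classInner
  congr 1
  exact Fintype.sum_bijective (twistS t) (twistS_bijective t) _ _ (fun _ => rfl)

theorem twist_irr (χ : Matrix.SpecialLinearGroup (Fin 2) F → ℂ)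
    (h : Cfsg.IsIrrCharacter (Matrix.SpecialLinearGroup (Fin 2) F) χ) (t : Fˣ) :
    Cfsg.IsIrrCharacter (Matrix.SpecialLinearGroup (Fin 2) F) (fun m => χ (twistS t m)) :=
  isIrrCharacter_of_norm_one (twist_isCharacter χ (isCharacter_of_isIrrCharacter h) t)
    (by rw [classInner_twist]; exact classInner_irr_self h)

theorem piS_twist (α : MulChar F ℂ) (t : Fˣ) (m : Matrix.SpecialLinearGroup (Fin 2) F) :
    piS α (twistS t m) = piS α m := by
  have h1 := piG_res α 1 (twistS t m)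
  have h2 := piG_res α 1 m
  rw [inv_one, mul_one] at h1 h2
  rw [← h1, ← h2, twistS_toGL]
  exact piG_isClassFunction α 1 _ _

theorem classInner_piS_twist (α : MulChar F ℂ) (χ : Matrix.SpecialLinearGroup (Fin 2) F → ℂ)
    (t : Fˣ) :
    Cfsg.classInner (piS α) (fun m => χ (twistS t m)) = Cfsg.classInner (piS α) χ := by
  have h1 : piS α = fun m => piS α (twistS t m) := funext (fun m => (piS_twist α t m).symm)
  calc Cfsg.classInner (piS α) (fun m => χ (twistS t m))
      = Cfsg.classInner (fun m => piS α (twistS t m)) (fun m => χ (twistS t m)) := by rw [← h1]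
    _ = Cfsg.classInner (piS α) χ := classInner_twist _ _ t

omit [Fintype F] [DecidableEq F] in
theorem classFun_twist_sq (χ : Matrix.SpecialLinearGroup (Fin 2) F → ℂ)
    (hχ : Cfsg.IsClassFunction (Matrix.SpecialLinearGroup (Fin 2) F) χ) (s : Fˣ)
    (m : Matrix.SpecialLinearGroup (Fin 2) F) : χ (twistS (s ^ 2) m) = χ m := by
  rw [twistS_sq]; exact hχ _ _

omit [Fintype F] [DecidableEq F] in
/-- The restriction to SL₂ of a character of GL₂ is a character. -/
theorem res_isCharacter (χ : GL (Fin 2) F → ℂ) (h : Cfsg.IsCharacter (GL (Fin 2) F) χ) :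
    Cfsg.IsCharacter (Matrix.SpecialLinearGroup (Fin 2) F)
      (fun n => χ (Matrix.SpecialLinearGroup.toGL n)) := by
  obtain ⟨n, ρ, rfl⟩ := h
  exact ⟨n, MonoidHom.comp ρ Matrix.SpecialLinearGroup.toGL, rfl⟩

/-- Every irreducible character of SL₂ lies under an irreducible character of GL₂. -/
theorem exists_GL_over (χ : Matrix.SpecialLinearGroup (Fin 2) F → ℂ)
    (hχ : Cfsg.IsIrrCharacter (Matrix.SpecialLinearGroup (Fin 2) F) χ) :
    ∃ χ' : GL (Fin 2) F → ℂ, Cfsg.IsIrrCharacter (GL (Fin 2) F) χ' ∧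
      Cfsg.classInner (fun n => χ' (Matrix.SpecialLinearGroup.toGL n)) χ ≠ 0 := by
  classical
  have : Fintype (Cfsg.IrrCharacter (GL (Fin 2) F)) := Fintype.ofFinite _
  by_contra hcon
  push Not at hcon
  have key : ∑ χ' : Cfsg.IrrCharacter (GL (Fin 2) F), conj ((χ' : GL (Fin 2) F → ℂ) 1) *
      Cfsg.classInner (fun n => (χ' : GL (Fin 2) F → ℂ) (Matrix.SpecialLinearGroup.toGL n)) χ =
      (Nat.card (Matrix.SpecialLinearGroup (Fin 2) F) : ℂ)⁻¹ *
        ((Nat.card (GL (Fin 2) F) : ℂ) * conj (χ 1)) := by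
    simp only [classInner_def, Finset.mul_sum]
    rw [Finset.sum_comm]
    have h1 : ∀ n : Matrix.SpecialLinearGroup (Fin 2) F,
        ∑ χ' : Cfsg.IrrCharacter (GL (Fin 2) F), conj ((χ' : GL (Fin 2) F → ℂ) 1) *
          ((Nat.card (Matrix.SpecialLinearGroup (Fin 2) F) : ℂ)⁻¹ *
            ((χ' : GL (Fin 2) F → ℂ) (Matrix.SpecialLinearGroup.toGL n) * conj (χ n))) =
        (Nat.card (Matrix.SpecialLinearGroup (Fin 2) F) : ℂ)⁻¹ *
          (colFun (1 : GL (Fin 2) F) (Matrix.SpecialLinearGroup.toGL n) * conj (χ n)) := by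
      intro n
      rw [← column_orthogonality, Finset.sum_mul, Finset.mul_sum]
      apply Finset.sum_congr rfl; intro χ' _; ring
    simp only [h1]
    rw [← Finset.mul_sum]
    congr 1
    rw [Finset.sum_eq_single (1 : Matrix.SpecialLinearGroup (Fin 2) F)]
    · rw [map_one, colFun_of_isConj (IsConj.refl 1)]
      congr 2
      have : Subgroup.centralizer ({1} : Set (GL (Fin 2) F)) = ⊤ := by
        ext x; simp [Subgroup.mem_centralizer_iff]
      rw [this, Subgroup.card_top]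
    · intro n _ hn
      rw [colFun_of_not_isConj, zero_mul]
      intro hc
      apply hn
      have : Matrix.SpecialLinearGroup.toGL n = 1 := isConj_one_left.mp hc
      exact Matrix.SpecialLinearGroup.toGL_injective (by rw [this, map_one])
    · intro h; exact absurd (Finset.mem_univ _) h
  rw [Finset.sum_eq_zero (fun χ' _ => by rw [hcon χ'.1 χ'.2, mul_zero])] at key
  obtain ⟨n, hn, hn1⟩ := irr_apply_one hχ
  have hN : (Nat.card (Matrix.SpecialLinearGroup (Fin 2) F) : ℂ) ≠ 0 := card_ne_zero_complex _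
  have hG : (Nat.card (GL (Fin 2) F) : ℂ) ≠ 0 := card_ne_zero_complex _
  have hχ1 : conj (χ 1) ≠ 0 := by
    rw [hn1, Complex.conj_natCast]; exact_mod_cast hn.ne'
  exact absurd key.symm (mul_ne_zero (inv_ne_zero hN) (mul_ne_zero hG hχ1))

end Twist

end Cfsg.Agent.Lib.Helper15
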