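import Mathlib
import Cfsg.Agent.Lib.Helper15.SL2Twist

set_option autoImplicit false

namespace Cfsg.Agent.Lib.Helper15

open Cfsg.Agent.Lib.Helper2
open Matrix
open scoped ComplexConjugate

section Split

variable {F : Type*} [Field F]

/-- Lower unitriangular elements of SL₂. -/
def lowerS (t : F) : Matrix.SpecialLinearGroup (Fin 2) F :=
  ⟨!![1, 0; t, 1], by simp [Matrix.det_fin_two_of]⟩

/-- The Weyl element of SL₂. -/
def weylS : Matrix.SpecialLinearGroup (Fin 2) F :=
  ⟨!![0, 1; -1, 0], by simp [Matrix.det_fin_two_of]⟩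

theorem lowerS_val (t : F) : (lowerS t : Matrix (Fin 2) (Fin 2) F) = !![1, 0; t, 1] := rfl

theorem weylS_val : ((weylS : Matrix.SpecialLinearGroup (Fin 2) F) : Matrix (Fin 2) (Fin 2) F) =
    !![0, 1; -1, 0] := rfl

theorem lowerS_weyl (t : F) :
    lowerS t * weylS = weylS * ((borelS (1 : Fˣ) (-t) : borelSL F) : Matrix.SpecialLinearGroup (Fin 2) F) := by
  apply Subtype.ext
  rw [Matrix.SpecialLinearGroup.coe_mul, Matrix.SpecialLinearGroup.coe_mul, borelS_val, lowerS_val,
    weylS_val]
  ext i j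
  fin_cases i <;> fin_cases j <;> simp [Matrix.mul_apply, Fin.sum_univ_two]

theorem torus_eq (a : Fˣ) :
    ((borelS a 0 : borelSL F) : Matrix.SpecialLinearGroup (Fin 2) F) *
      (((borelS (1 : Fˣ) 1 : borelSL F) : Matrix.SpecialLinearGroup (Fin 2) F) * lowerS (-1) *
        ((borelS (1 : Fˣ) 1 : borelSL F) : Matrix.SpecialLinearGroup (Fin 2) F)) =
    ((borelS (1 : Fˣ) (a : F) : borelSL F) : Matrix.SpecialLinearGroup (Fin 2) F) *
      lowerS (-((a⁻¹ : Fˣ) : F)) *
        ((borelS (1 : Fˣ) (a : F) : borelSL F) : Matrix.SpecialLinearGroup (Fin 2) F) := by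
  apply Subtype.ext
  simp only [Matrix.SpecialLinearGroup.coe_mul, borelS_val, lowerS_val]
  have ha : (a : F) ≠ 0 := a.ne_zero
  ext i j
  fin_cases i <;> fin_cases j <;>
    simp [Matrix.mul_apply, Fin.sum_univ_two, Units.val_inv_eq_inv_val]

theorem twistS_id (t : Fˣ) : twistS t (1 : Matrix.SpecialLinearGroup (Fin 2) F) = 1 :=
  map_one (twistHom t)

theorem borelS_one_zero :
    ((borelS (1 : Fˣ) (0 : F) : borelSL F) : Matrix.SpecialLinearGroup (Fin 2) F) = 1 := by
  apply Subtype.ext
  rw [borelS_val, Matrix.SpecialLinearGroup.coe_one]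
  ext i j
  fin_cases i <;> fin_cases j <;> simp

variable [Fintype F] [DecidableEq F]

/-- No linear character of SL₂ is a constituent of a principal series with non-trivial
parameter. -/
theorem no_linear_in_piS (lam : Matrix.SpecialLinearGroup (Fin 2) F → ℂ)
    (hlam : Cfsg.IsIrrCharacter (Matrix.SpecialLinearGroup (Fin 2) F) lam) (h1 : lam 1 = 1)
    (α : MulChar F ℂ) (hα : α ≠ 1) : Cfsg.classInner (piS α) lam = 0 := by
  classical
  have hcl := isClassFunction_of_isIrrCharacter hlam
  obtain ⟨L, rfl⟩ := hom_of_irr_deg_one hlam h1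
  have : Fintype (borelSL F) := Fintype.ofFinite _
  unfold piS
  rw [frobenius_reciprocity _ _ _ hcl]
  have hres : Cfsg.IsIrrCharacter (borelSL F)
      (fun b : borelSL F => ((L (b : Matrix.SpecialLinearGroup (Fin 2) F) : ℂˣ) : ℂ)) :=
    isIrrCharacter_of_hom (L.comp (borelSL F).subtype)
  rw [classInner_irr (thetaS_irr α) hres, if_neg]
  intro heq
  apply hα
  have hB : ∀ (a : Fˣ) (x : F), α (a : F) =
      ((L ((borelS a x : borelSL F) : Matrix.SpecialLinearGroup (Fin 2) F) : ℂˣ) : ℂ) :=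
    fun a x => congrFun heq (borelS a x)
  have hx : ∀ t : F,
      L ((borelS (1 : Fˣ) t : borelSL F) : Matrix.SpecialLinearGroup (Fin 2) F) = 1 := by
    intro t; apply Units.ext; rw [← hB 1 t]; simp
  have hy : ∀ t : F, L (lowerS t) = 1 := by
    intro t
    have := congrArg L (lowerS_weyl t)
    rw [map_mul, map_mul, hx, mul_one] at this
    exact mul_right_cancel (this.trans (one_mul _).symm)
  ext a
  rw [MulChar.one_apply_coe]
  have := congrArg L (torus_eq a)
  simp only [map_mul, hx, hy, mul_one] at this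
  rw [hB a 0, this]; simp

/-- For `q` odd, the principal series attached to the quadratic character splits into two
irreducible characters of equal degree swapped by a twist. -/
theorem piS_quad_split (α : MulChar F ℂ) (hα : α ^ 2 = 1) (hα1 : α ≠ 1) :
    ∃ χ₁ χ₂ : Matrix.SpecialLinearGroup (Fin 2) F → ℂ,
      Cfsg.IsIrrCharacter (Matrix.SpecialLinearGroup (Fin 2) F) χ₁ ∧
      Cfsg.IsIrrCharacter (Matrix.SpecialLinearGroup (Fin 2) F) χ₂ ∧ χ₁ ≠ χ₂ ∧
      piS α = χ₁ + χ₂ ∧
      χ₁ 1 = (((Fintype.card F + 1) / 2 : ℕ) : ℂ) ∧ χ₂ 1 = (((Fintype.card F + 1) / 2 : ℕ) : ℂ) ∧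
      ∃ t : Fˣ, ∀ m, χ₂ (twistS t m) = χ₁ m := by
  classical
  have hinv : α⁻¹ = α := by
    rw [inv_eq_iff_eq_inv, eq_inv_iff_mul_eq_one, ← pow_two]; exact hα
  have hnorm : Cfsg.classInner (piS α) (piS α) = 2 := by
    rw [classInner_piS_piS, hinv]; simp; norm_num
  obtain ⟨χ₁, χ₂, h1, h2, hne, hsum⟩ := char_norm_two (piS_isCharacter α) hnorm
  have hq2 := Fintype.one_lt_card (α := F)
  have hp1 : Cfsg.classInner (piS α) χ₁ = 1 := by
    rw [hsum, classInner_add_left, classInner_irr_self h1, classInner_irr_ne h2 h1 (Ne.symm hne)]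
    ring
  have hp2 : Cfsg.classInner (piS α) χ₂ = 1 := by
    rw [hsum, classInner_add_left, classInner_irr_self h2, classInner_irr_ne h1 h2 hne]
    ring
  have halt : ∀ t : Fˣ, (fun m => χ₁ (twistS t m)) = χ₁ ∨ (fun m => χ₁ (twistS t m)) = χ₂ := by
    intro t
    have hirr := twist_irr χ₁ h1 t
    have h3 : Cfsg.classInner (piS α) (fun m => χ₁ (twistS t m)) = 1 := by
      rw [classInner_piS_twist, hp1]
    rw [hsum, classInner_add_left, classInner_irr h1 hirr, classInner_irr h2 hirr] at h3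
    by_cases e1 : χ₁ = fun m => χ₁ (twistS t m)
    · left; exact e1.symm
    · by_cases e2 : χ₂ = fun m => χ₁ (twistS t m)
      · right; exact e2.symm
      · simp [e1, e2] at h3
  have hex : ∃ t : Fˣ, (fun m => χ₁ (twistS t m)) = χ₂ := by
    by_contra hcon
    push Not at hcon
    have hinv1 : ∀ (t : Fˣ) m, χ₁ (twistS t m) = χ₁ m :=
      fun t m => congrFun ((halt t).resolve_right (hcon t)) m
    have hinv2 : ∀ (t : Fˣ) m, χ₂ (twistS t m) = χ₂ m := by
      intro t m
      have e := congrFun hsum (twistS t m)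
      have e' := congrFun hsum m
      rw [piS_twist] at e
      simp only [Pi.add_apply] at e e'
      rw [hinv1] at e
      linear_combination e' - e
    have hcl1 := isClassFunction_of_isIrrCharacter h1
    have hcl2 := isClassFunction_of_isIrrCharacter h2
    have hΔ : ∀ β : MulChar F ℂ, Cfsg.classInner (piS β) (χ₁ - χ₂) = 0 := by
      intro β
      rw [classInner_sub_right']
      by_cases hβ : β = α
      · rw [hβ, hp1, hp2]; ring
      · obtain ⟨n1, hn1⟩ := classInner_isCharacter_nat (piS_isCharacter β)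
          (isCharacter_of_isIrrCharacter h1)
        obtain ⟨n2, hn2⟩ := classInner_isCharacter_nat (piS_isCharacter β)
          (isCharacter_of_isIrrCharacter h2)
        have h0 : Cfsg.classInner (piS β) (piS α) = 0 := by
          rw [classInner_piS_piS, hinv]; simp [hβ]
        rw [hsum, classInner_add_right, hn1, hn2] at h0
        have h00 : n1 + n2 = 0 := by exact_mod_cast h0
        have e1 : n1 = 0 := by omega
        have e2 : n2 = 0 := by omega
        rw [hn1, hn2, e1, e2]; simp
    have hsumΔ := cuspS_sum_borel (χ₁ - χ₂) (IsClassFunction.sub hcl1 hcl2) hΔ 1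
    have hux : ∀ x : F, x ≠ 0 →
        (χ₁ - χ₂) ((borelS (1 : Fˣ) x : borelSL F) : Matrix.SpecialLinearGroup (Fin 2) F) =
        (χ₁ - χ₂) ((borelS (1 : Fˣ) (1 : F) : borelSL F) : Matrix.SpecialLinearGroup (Fin 2) F) := by
      intro x hx
      have : ((borelS (1 : Fˣ) x : borelSL F) : Matrix.SpecialLinearGroup (Fin 2) F) =
          twistS (Units.mk0 x hx)
            ((borelS (1 : Fˣ) (1 : F) : borelSL F) : Matrix.SpecialLinearGroup (Fin 2) F) := by
        rw [twistS_borelS]; simp
      rw [this, Pi.sub_apply, Pi.sub_apply, hinv1, hinv2]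
    rw [← Finset.add_sum_erase Finset.univ _ (Finset.mem_univ (0 : F)), borelS_one_zero,
      Finset.sum_congr rfl (fun x hx => hux x (Finset.ne_of_mem_erase hx)), Finset.sum_const,
      Finset.card_erase_of_mem (Finset.mem_univ _), Finset.card_univ, nsmul_eq_mul,
      Nat.cast_sub Fintype.card_pos, Nat.cast_one] at hsumΔ
    have hpu : piS α ((borelS (1 : Fˣ) (1 : F) : borelSL F) : Matrix.SpecialLinearGroup (Fin 2) F)
        = 1 := by
      rw [piS_apply, borelS_val, inv_one, Units.val_one, indVal_unip _ _ _ one_ne_zero]; simp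
    have hu12 : χ₁ ((borelS (1 : Fˣ) (1 : F) : borelSL F) : Matrix.SpecialLinearGroup (Fin 2) F) +
        χ₂ ((borelS (1 : Fˣ) (1 : F) : borelSL F) : Matrix.SpecialLinearGroup (Fin 2) F) = 1 := by
      have := congrFun hsum ((borelS (1 : Fˣ) (1 : F) : borelSL F) : Matrix.SpecialLinearGroup (Fin 2) F)
      rw [hpu] at this; exact this.symm
    obtain ⟨n1, hn1pos, hn1⟩ := irr_apply_one h1
    obtain ⟨n2, hn2pos, hn2⟩ := irr_apply_one h2
    have hn12 : n1 + n2 = Fintype.card F + 1 := by
      have := congrFun hsum 1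
      rw [piS_one, Pi.add_apply, hn1, hn2] at this
      exact_mod_cast this.symm
    have hint : IsIntegral ℤ
        (-(χ₁ ((borelS (1 : Fˣ) (1 : F) : borelSL F) : Matrix.SpecialLinearGroup (Fin 2) F))) := by
      obtain ⟨k, ρ, hρ, rfl⟩ := h1
      exact (char_isIntegral ρ _).neg
    have hle : n1 ≤ Fintype.card F := by omega
    have heq : ((Fintype.card F - n1 : ℕ) : ℂ) + ((Fintype.card F - 1 : ℕ) : ℂ) *
        (-(χ₁ ((borelS (1 : Fˣ) (1 : F) : borelSL F) : Matrix.SpecialLinearGroup (Fin 2) F))) = 0 := by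
      rw [Nat.cast_sub hle, Nat.cast_sub Fintype.card_pos, Nat.cast_one]
      simp only [Pi.sub_apply] at hsumΔ
      rw [hn1, hn2] at hsumΔ
      have hn2' : (n2 : ℂ) = (Fintype.card F : ℂ) + 1 - n1 := by
        have : ((n1 + n2 : ℕ) : ℂ) = ((Fintype.card F + 1 : ℕ) : ℂ) := by rw [hn12]
        push_cast at this
        linear_combination this
      have hχ2 : χ₂ ((borelS (1 : Fˣ) (1 : F) : borelSL F) : Matrix.SpecialLinearGroup (Fin 2) F) =
          1 - χ₁ ((borelS (1 : Fˣ) (1 : F) : borelSL F) : Matrix.SpecialLinearGroup (Fin 2) F) := by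
        linear_combination hu12
      rw [hn2', hχ2] at hsumΔ
      linear_combination (-1 / 2 : ℂ) * hsumΔ
    have hdvd := dvd_of_isIntegral (Fintype.card F - n1) (Fintype.card F - 1) (by omega) _ hint heq
    have hcases : n1 = Fintype.card F ∨ n1 = 1 := by
      obtain ⟨c, hc⟩ := hdvd
      have hc1 : c ≤ 1 := by
        by_contra hc2
        push Not at hc2
        have : (Fintype.card F - 1) * 2 ≤ (Fintype.card F - 1) * c := Nat.mul_le_mul_left _ hc2
        omega
      interval_cases c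
      · left; omega
      · right; omega
    rcases hcases with hq' | h1'
    · have hn2' : n2 = 1 := by omega
      have := no_linear_in_piS χ₂ h2 (by rw [hn2, hn2']; simp) α hα1
      rw [hp2] at this; exact one_ne_zero this
    · have := no_linear_in_piS χ₁ h1 (by rw [hn1, h1']; simp) α hα1
      rw [hp1] at this; exact one_ne_zero this
  obtain ⟨t, ht⟩ := hex
  obtain ⟨n1, hn1pos, hn1⟩ := irr_apply_one h1
  have hχ21 : χ₂ 1 = χ₁ 1 := by
    rw [← ht]
    change χ₁ (twistS t 1) = χ₁ 1
    rw [twistS_id]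
  have hdeg : χ₁ 1 = (((Fintype.card F + 1) / 2 : ℕ) : ℂ) := by
    have := congrFun hsum 1
    rw [piS_one, Pi.add_apply, hχ21, hn1] at this
    have h2n : Fintype.card F + 1 = n1 + n1 := by exact_mod_cast this
    rw [hn1]; congr 1; omega
  refine ⟨χ₁, χ₂, h1, h2, hne, hsum, hdeg, by rw [hχ21, hdeg], t⁻¹, ?_⟩
  intro m
  rw [← ht]
  change χ₁ (twistS t (twistS t⁻¹ m)) = χ₁ m
  rw [twistS_twistS, mul_inv_cancel, twistS_one]

end Split

end Cfsg.Agent.Lib.Helper15
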