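import Mathlib
import Cfsg.Agent.Lib.Helper15.SL2Split
import Cfsg.Agent.Lib.Helper15.SL2Classes

set_option autoImplicit false

namespace Cfsg.Agent.Lib.Helper15

open Cfsg.Agent.Lib.Helper2
open Matrix
open scoped ComplexConjugate

/-- A character vanishing at the identity is zero. -/
theorem char_eq_zero_of_one {G : Type*} [Group G] [Finite G] {Θ : G → ℂ}
    (h : Cfsg.IsCharacter G Θ) (h1 : Θ 1 = 0) : Θ = 0 := by
  obtain ⟨n, ρ, rfl⟩ := h
  funext g
  have h2 := norm_char_le ρ g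
  rw [Representation.char_one] at h1
  have h3 : Module.finrank ℂ (Fin n → ℂ) = 0 := by exact_mod_cast h1
  rw [h3] at h2
  simpa using h2

section Cusp

variable {F : Type*} [Field F]

/-- Upper unitriangular elements of SL₂. -/
def unipS (x : F) : Matrix.SpecialLinearGroup (Fin 2) F :=
  ((borelS (1 : Fˣ) x : borelSL F) : Matrix.SpecialLinearGroup (Fin 2) F)

theorem unipS_val (x : F) : (unipS x : Matrix (Fin 2) (Fin 2) F) = !![1, x; 0, 1] := by
  rw [unipS, borelS_val]; simp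

theorem twistS_unipS (t : Fˣ) (x : F) : twistS t (unipS x) = unipS ((t : F) * x) :=
  twistS_borelS t 1 x

theorem unipS_zero : unipS (0 : F) = 1 := borelS_one_zero

theorem classFun_unipS_sq (χ : Matrix.SpecialLinearGroup (Fin 2) F → ℂ)
    (hχ : Cfsg.IsClassFunction (Matrix.SpecialLinearGroup (Fin 2) F) χ) (y s : F) (hs : s ≠ 0) :
    χ (unipS (s * s * y)) = χ (unipS y) := by
  have : unipS (s * s * y) = twistS ((Units.mk0 s hs) ^ 2) (unipS y) := by
    rw [twistS_unipS]; simp [pow_two]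
  rw [this]
  exact classFun_twist_sq χ hχ _ _

theorem toGL_unipS :
    Matrix.SpecialLinearGroup.toGL (unipS (1 : F)) =
      ((borelG (1 : Fˣ) (1 : Fˣ) (1 : F) : borelGL F) : GL (Fin 2) F) := by
  apply Units.ext
  rw [borelG_val]
  have h1 : (Matrix.SpecialLinearGroup.toGL (unipS (1 : F))).val =
      (unipS (1 : F) : Matrix (Fin 2) (Fin 2) F) := rfl
  rw [h1, unipS_val]; simp

variable [Fintype F] [DecidableEq F]

/-- Sum over the unipotent elements, even characteristic. -/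
theorem sum_unipS_even (hF : ringChar F = 2) (χ : Matrix.SpecialLinearGroup (Fin 2) F → ℂ)
    (hχ : Cfsg.IsClassFunction (Matrix.SpecialLinearGroup (Fin 2) F) χ) :
    ∑ x : F, χ (unipS x) = χ 1 + ((Fintype.card F : ℂ) - 1) * χ (unipS 1) := by
  rw [← Finset.add_sum_erase Finset.univ _ (Finset.mem_univ (0 : F)), unipS_zero]
  congr 1
  have h1 : ∀ x ∈ Finset.univ.erase (0 : F), χ (unipS x) = χ (unipS 1) := by
    intro x hx
    have hx0 : x ≠ 0 := Finset.ne_of_mem_erase hx
    obtain ⟨s, hs⟩ := FiniteField.isSquare_of_char_two hF x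
    have hs0 : s ≠ 0 := by rintro rfl; simp at hs; exact hx0 hs
    have := classFun_unipS_sq χ hχ 1 s hs0
    rw [mul_one, ← hs] at this
    exact this
  rw [Finset.sum_congr rfl h1, Finset.sum_const, Finset.card_erase_of_mem (Finset.mem_univ _),
    Finset.card_univ, nsmul_eq_mul, Nat.cast_sub Fintype.card_pos, Nat.cast_one]

/-- Sum over the unipotent elements, odd characteristic. -/
theorem sum_unipS_odd (hF : ringChar F ≠ 2) (χ : Matrix.SpecialLinearGroup (Fin 2) F → ℂ)
    (hχ : Cfsg.IsClassFunction (Matrix.SpecialLinearGroup (Fin 2) F) χ) (ε : F)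
    (hε : ¬ IsSquare ε) :
    ∑ x : F, χ (unipS x) = χ 1 + (((Fintype.card F - 1) / 2 : ℕ) : ℂ) *
      (χ (unipS 1) + χ (unipS ε)) := by
  rw [← Finset.add_sum_erase Finset.univ _ (Finset.mem_univ (0 : F)), unipS_zero]
  congr 1
  have hε0 : ε ≠ 0 := fun h => hε (by rw [h]; exact IsSquare.zero)
  have h1 : ∀ x ∈ Finset.univ.erase (0 : F), χ (unipS x) =
      (χ (unipS 1) + χ (unipS ε)) / 2 +
        ((quadraticChar F x : ℤ) : ℂ) * ((χ (unipS 1) - χ (unipS ε)) / 2) := by
    intro x hx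
    have hx0 : x ≠ 0 := Finset.ne_of_mem_erase hx
    by_cases hsq : IsSquare x
    · rw [(quadraticChar_one_iff_isSquare hx0).mpr hsq]
      obtain ⟨s, hs⟩ := hsq
      have hs0 : s ≠ 0 := by rintro rfl; simp at hs; exact hx0 hs
      have := classFun_unipS_sq χ hχ 1 s hs0
      rw [mul_one, ← hs] at this
      rw [this]; push_cast; ring
    · rw [quadraticChar_neg_one_iff_not_isSquare.mpr hsq]
      have hsq2 : IsSquare (x * ε⁻¹) := by
        have hinv : ¬ IsSquare ε⁻¹ := by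
          intro h; apply hε
          obtain ⟨r, hr⟩ := h
          exact ⟨r⁻¹, by rw [← mul_inv, ← hr, inv_inv]⟩
        exact isSquare_mul_of_not_isSquare hF hsq hinv
      obtain ⟨s, hs⟩ := hsq2
      have hs0 : s ≠ 0 := by
        rintro rfl
        simp at hs
        rcases hs with h | h
        · exact hx0 h
        · exact hε0 h
      have := classFun_unipS_sq χ hχ ε s hs0
      rw [← hs, inv_mul_cancel_right₀ hε0] at this
      rw [this]; push_cast; ring
  rw [Finset.sum_congr rfl h1, Finset.sum_add_distrib, Finset.sum_const, ← Finset.sum_mul,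
    Finset.card_erase_of_mem (Finset.mem_univ _), Finset.card_univ]
  have h2 : ∑ x ∈ Finset.univ.erase (0 : F), ((quadraticChar F x : ℤ) : ℂ) = 0 := by
    have h3 := Finset.add_sum_erase Finset.univ (fun x : F => ((quadraticChar F x : ℤ) : ℂ))
      (Finset.mem_univ (0 : F))
    have h4 : ∑ x : F, ((quadraticChar F x : ℤ) : ℂ) = 0 := by
      rw [← Int.cast_sum, quadraticChar_sum_zero hF]; simp
    rw [h4, quadraticChar_zero] at h3
    simpa using h3
  rw [h2, zero_mul, add_zero, nsmul_eq_mul]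
  have hodd : Fintype.card F % 2 = 1 := FiniteField.odd_card_of_char_ne_two hF
  have hq : 1 ≤ Fintype.card F := Fintype.card_pos
  have h5 : ((Fintype.card F - 1 : ℕ) : ℂ) = 2 * (((Fintype.card F - 1) / 2 : ℕ) : ℂ) := by
    have : Fintype.card F - 1 = 2 * ((Fintype.card F - 1) / 2) := by omega
    rw [this]; push_cast
    have h6 : 2 * ((Fintype.card F - 1) / 2) / 2 = (Fintype.card F - 1) / 2 := by omega
    rw [h6]
  rw [h5]; ring

theorem cuspS_dvd_even (hF : ringChar F = 2) (χ : Matrix.SpecialLinearGroup (Fin 2) F → ℂ)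
    (hχ : Cfsg.IsIrrCharacter (Matrix.SpecialLinearGroup (Fin 2) F) χ)
    (h : ∀ α : MulChar F ℂ, Cfsg.classInner (piS α) χ = 0) (n : ℕ) (hn : χ 1 = n) :
    (Fintype.card F - 1) ∣ n ∧ (n : ℂ) + ((Fintype.card F : ℂ) - 1) * χ (unipS 1) = 0 := by
  have hcl := isClassFunction_of_isIrrCharacter hχ
  have h1 : ∑ x : F, χ (unipS x) = 0 := cuspS_sum_borel χ hcl h 1
  rw [sum_unipS_even hF χ hcl, hn] at h1
  refine ⟨?_, h1⟩
  obtain ⟨m, ρ, hirr, rfl⟩ := hχ
  have hint : IsIntegral ℤ (ρ.character (unipS 1)) := char_isIntegral ρ _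
  apply dvd_of_isIntegral n (Fintype.card F - 1)
    (by have := Fintype.one_lt_card (α := F); omega) _ hint
  rw [Nat.cast_sub Fintype.card_pos, Nat.cast_one]; exact h1

theorem cuspS_dvd_odd (hF : ringChar F ≠ 2) (χ : Matrix.SpecialLinearGroup (Fin 2) F → ℂ)
    (hχ : Cfsg.IsIrrCharacter (Matrix.SpecialLinearGroup (Fin 2) F) χ)
    (h : ∀ α : MulChar F ℂ, Cfsg.classInner (piS α) χ = 0) (n : ℕ) (hn : χ 1 = n) (ε : F)
    (hε : ¬ IsSquare ε) :
    ((Fintype.card F - 1) / 2) ∣ n ∧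
      (n : ℂ) + (((Fintype.card F - 1) / 2 : ℕ) : ℂ) * (χ (unipS 1) + χ (unipS ε)) = 0 := by
  have hcl := isClassFunction_of_isIrrCharacter hχ
  have h1 : ∑ x : F, χ (unipS x) = 0 := cuspS_sum_borel χ hcl h 1
  rw [sum_unipS_odd hF χ hcl ε hε, hn] at h1
  refine ⟨?_, h1⟩
  obtain ⟨m, ρ, hirr, rfl⟩ := hχ
  have hint : IsIntegral ℤ (ρ.character (unipS 1) + ρ.character (unipS ε)) :=
    (char_isIntegral ρ _).add (char_isIntegral ρ _)
  have hodd : Fintype.card F % 2 = 1 := FiniteField.odd_card_of_char_ne_two hF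
  have hq2 := Fintype.one_lt_card (α := F)
  exact dvd_of_isIntegral n ((Fintype.card F - 1) / 2) (by omega) _ hint h1

omit [Fintype F] [DecidableEq F] in
theorem res_linG (α : MulChar F ℂ) (n : Matrix.SpecialLinearGroup (Fin 2) F) :
    linG α (Matrix.SpecialLinearGroup.toGL n) = 1 := by
  have h1 : (Matrix.SpecialLinearGroup.toGL n).val = (n : Matrix (Fin 2) (Fin 2) F) := rfl
  rw [linG, h1, n.det_coe, map_one]

theorem res_stG (α : MulChar F ℂ) (n : Matrix.SpecialLinearGroup (Fin 2) F) :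
    stG α (Matrix.SpecialLinearGroup.toGL n) = stS n := by
  unfold stG stS
  rw [Pi.sub_apply, Pi.sub_apply, piG_res, res_linG, mul_inv_cancel]

theorem classInner_piS_stS : Cfsg.classInner (piS (1 : MulChar F ℂ)) (stS (F := F)) = 1 := by
  unfold stS
  rw [classInner_sub_right', classInner_piS_piS, classInner_piS_const]
  simp

/-- A cuspidal irreducible character of SL₂ lies under a cuspidal character of GL₂. -/
theorem cuspS_over (χ : Matrix.SpecialLinearGroup (Fin 2) F → ℂ)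
    (hχ : Cfsg.IsIrrCharacter (Matrix.SpecialLinearGroup (Fin 2) F) χ)
    (hc : ∀ α : MulChar F ℂ, Cfsg.classInner (piS α) χ = 0) :
    ∃ χ' : GL (Fin 2) F → ℂ, Cfsg.IsIrrCharacter (GL (Fin 2) F) χ' ∧
      (∀ α β : MulChar F ℂ, Cfsg.classInner (piG α β) χ' = 0) ∧
      χ' 1 = (Fintype.card F : ℂ) - 1 ∧
      Cfsg.classInner (fun n => χ' (Matrix.SpecialLinearGroup.toGL n)) χ ≠ 0 := by
  obtain ⟨χ', hχ', hne⟩ := exists_GL_over χ hχ
  rcases GL2_irr_cases' χ' hχ' with ⟨α, rfl⟩ | ⟨α, rfl⟩ | ⟨α, β, hαβ, rfl⟩ | ⟨hc', hd⟩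
  · exfalso
    have h0 : (fun n => linG α (Matrix.SpecialLinearGroup.toGL n)) = fun _ => (1 : ℂ) :=
      funext (res_linG α)
    rw [h0, classInner_irr isIrrCharacter_one hχ] at hne
    have h1 : (fun _ => (1 : ℂ)) = χ := by
      by_contra h; exact hne (if_neg h)
    have := hc 1
    rw [← h1, classInner_piS_const] at this
    simp at this
  · exfalso
    have h0 : (fun n => stG α (Matrix.SpecialLinearGroup.toGL n)) = stS := funext (res_stG α)
    rw [h0, classInner_irr stS_irr hχ] at hne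
    have h1 : stS = χ := by
      by_contra h; exact hne (if_neg h)
    have := hc 1
    rw [← h1, classInner_piS_stS] at this
    exact one_ne_zero this
  · exfalso
    have h0 : (fun n => piG α β (Matrix.SpecialLinearGroup.toGL n)) = piS (α * β⁻¹) :=
      funext (piG_res α β)
    rw [h0] at hne
    exact hne (hc _)
  · exact ⟨χ', hχ', hc', hd, hne⟩

theorem cuspS_deg_le (χ : Matrix.SpecialLinearGroup (Fin 2) F → ℂ)
    (hχ : Cfsg.IsIrrCharacter (Matrix.SpecialLinearGroup (Fin 2) F) χ)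
    (hc : ∀ α : MulChar F ℂ, Cfsg.classInner (piS α) χ = 0) (n : ℕ) (hn : χ 1 = n) :
    n ≤ Fintype.card F - 1 := by
  obtain ⟨χ', hχ', hc', hd, hne⟩ := cuspS_over χ hχ hc
  obtain ⟨N, d, hN, hd', hle⟩ := irr_deg_le_of_inner_ne_zero
    (res_isCharacter χ' (isCharacter_of_isIrrCharacter hχ')) hχ hne
  simp only [map_one] at hN
  rw [hd] at hN
  rw [hn] at hd'
  have e1 : n = d := by exact_mod_cast hd'
  have e2 : N = Fintype.card F - 1 := by
    have : (N : ℂ) = ((Fintype.card F - 1 : ℕ) : ℂ) := by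
      rw [← hN, Nat.cast_sub Fintype.card_pos, Nat.cast_one]
    exact_mod_cast this
  omega

/-- A cuspidal irreducible character of SL₂ of degree `q - 1` is the restriction of a
cuspidal character of GL₂. -/
theorem cuspS_eq_res (χ : Matrix.SpecialLinearGroup (Fin 2) F → ℂ)
    (hχ : Cfsg.IsIrrCharacter (Matrix.SpecialLinearGroup (Fin 2) F) χ)
    (hc : ∀ α : MulChar F ℂ, Cfsg.classInner (piS α) χ = 0)
    (hdeg : χ 1 = (Fintype.card F : ℂ) - 1) :
    ∃ χ' : GL (Fin 2) F → ℂ, Cfsg.IsIrrCharacter (GL (Fin 2) F) χ' ∧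
      (∀ α β : MulChar F ℂ, Cfsg.classInner (piG α β) χ' = 0) ∧
      χ' 1 = (Fintype.card F : ℂ) - 1 ∧
      ∀ n, χ n = χ' (Matrix.SpecialLinearGroup.toGL n) := by
  obtain ⟨χ', hχ', hc', hd, hne⟩ := cuspS_over χ hχ hc
  refine ⟨χ', hχ', hc', hd, ?_⟩
  have hres := res_isCharacter χ' (isCharacter_of_isIrrCharacter hχ')
  have hdiff : Cfsg.IsCharacter (Matrix.SpecialLinearGroup (Fin 2) F)
      ((fun n => χ' (Matrix.SpecialLinearGroup.toGL n)) - χ) := by
    apply isCharacter_of_nat_inner _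
      (IsClassFunction.sub (isClassFunction_of_isCharacter hres) (isClassFunction_of_isIrrCharacter hχ))
    intro ψ hψ
    rw [classInner_sub_left]
    obtain ⟨m, hm⟩ := classInner_isCharacter_nat hres (isCharacter_of_isIrrCharacter hψ)
    rw [classInner_irr hχ hψ]
    by_cases h : χ = ψ
    · subst h
      rw [hm] at hne
      have hm0 : m ≠ 0 := by rintro rfl; simp at hne
      refine ⟨m - 1, ?_⟩
      rw [hm, if_pos rfl, Nat.cast_sub (by omega)]; simp
    · rw [if_neg h, hm]; exact ⟨m, by simp⟩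
  have hzero := char_eq_zero_of_one hdiff (by
    rw [Pi.sub_apply, map_one, hd, hdeg]; ring)
  intro n
  have := congrFun hzero n
  rw [Pi.sub_apply, Pi.zero_apply] at this
  linear_combination -this

theorem cuspS_unip (χ : Matrix.SpecialLinearGroup (Fin 2) F → ℂ)
    (hχ : Cfsg.IsIrrCharacter (Matrix.SpecialLinearGroup (Fin 2) F) χ)
    (hc : ∀ α : MulChar F ℂ, Cfsg.classInner (piS α) χ = 0)
    (hdeg : χ 1 = (Fintype.card F : ℂ) - 1) : χ (unipS 1) = -1 := by
  obtain ⟨χ', hχ', hc', hd, hres⟩ := cuspS_eq_res χ hχ hc hdeg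
  rw [hres, toGL_unipS]
  have h1 := cusp_unip χ' (isClassFunction_of_isIrrCharacter hχ') hc'
  rw [hd] at h1
  have hne := card_sub_one_ne_zero (F := F)
  have : ((Fintype.card F : ℂ) - 1) *
      (χ' ((borelG (1 : Fˣ) (1 : Fˣ) (1 : F) : borelGL F) : GL (Fin 2) F) + 1) = 0 := by
    linear_combination h1
  rcases mul_eq_zero.mp this with h | h
  · exact absurd h hne
  · linear_combination h

theorem cuspS_degree_even (hF : ringChar F = 2) (χ : Matrix.SpecialLinearGroup (Fin 2) F → ℂ)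
    (hχ : Cfsg.IsIrrCharacter (Matrix.SpecialLinearGroup (Fin 2) F) χ)
    (hc : ∀ α : MulChar F ℂ, Cfsg.classInner (piS α) χ = 0) :
    χ 1 = (Fintype.card F : ℂ) - 1 := by
  obtain ⟨n, hn, hn1⟩ := irr_apply_one hχ
  have h1 := (cuspS_dvd_even hF χ hχ hc n hn1).1
  have h2 := cuspS_deg_le χ hχ hc n hn1
  have h3 := Nat.le_of_dvd hn h1
  have : n = Fintype.card F - 1 := le_antisymm h2 h3
  rw [hn1, this, Nat.cast_sub Fintype.card_pos, Nat.cast_one]

theorem cuspS_degree_odd (hF : ringChar F ≠ 2) (χ : Matrix.SpecialLinearGroup (Fin 2) F → ℂ)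
    (hχ : Cfsg.IsIrrCharacter (Matrix.SpecialLinearGroup (Fin 2) F) χ)
    (hc : ∀ α : MulChar F ℂ, Cfsg.classInner (piS α) χ = 0) :
    χ 1 = ((Fintype.card F - 1 : ℕ) : ℂ) ∨ χ 1 = (((Fintype.card F - 1) / 2 : ℕ) : ℂ) := by
  obtain ⟨n, hn, hn1⟩ := irr_apply_one hχ
  obtain ⟨ε, hε⟩ := FiniteField.exists_nonsquare hF
  obtain ⟨c, hc1⟩ := (cuspS_dvd_odd hF χ hχ hc n hn1 ε hε).1
  have h2 := cuspS_deg_le χ hχ hc n hn1
  have hodd : Fintype.card F % 2 = 1 := FiniteField.odd_card_of_char_ne_two hF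
  have hq2 := Fintype.one_lt_card (α := F)
  have hcle : c ≤ 2 := by
    by_contra hcon
    push Not at hcon
    have : (Fintype.card F - 1) / 2 * 3 ≤ (Fintype.card F - 1) / 2 * c := Nat.mul_le_mul_left _ hcon
    omega
  have hc0 : c ≠ 0 := by
    rintro rfl
    rw [mul_zero] at hc1
    omega
  have hcc : c = 1 ∨ c = 2 := by omega
  rw [hn1]
  rcases hcc with rfl | rfl
  · right
    have : n = (Fintype.card F - 1) / 2 := by omega
    rw [this]
  · left
    have : n = Fintype.card F - 1 := by omega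
    rw [this]

end Cusp

end Cfsg.Agent.Lib.Helper15
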