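import Mathlib
import Cfsg.Agent.Lib.Helper15.SL2Cusp
import Cfsg.Agent.Lib.Helper15.GL2Centralizer

set_option autoImplicit false

namespace Cfsg.Agent.Lib.Helper15

open Cfsg.Agent.Lib.Helper2
open Matrix
open scoped ComplexConjugate

section SL2Count

variable {F : Type*} [Field F] [Fintype F] [DecidableEq F]

theorem piS_inv_eq {α : MulChar F ℂ} (h : α ^ 2 ≠ 1) : piS α⁻¹ = piS α := by
  have h' : α⁻¹ ^ 2 ≠ 1 := by
    intro hc; apply h; rw [inv_pow, inv_eq_one] at hc; exact hc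
  have h1 := classInner_irr (piS_irr h') (piS_irr h)
  rw [classInner_piS_piS] at h1
  by_contra hne
  rw [if_neg hne] at h1
  simp at h1
  split_ifs at h1 <;> norm_num at h1

theorem piS_eq_iff {α β : MulChar F ℂ} (hα : α ^ 2 ≠ 1) (hβ : β ^ 2 ≠ 1) :
    piS α = piS β ↔ α = β ∨ α = β⁻¹ := by
  constructor
  · intro h
    have h1 := classInner_piS_piS α β
    rw [← h, classInner_piS_piS] at h1
    by_contra hcon
    push Not at hcon
    rw [if_neg hcon.1, if_neg hcon.2] at h1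
    simp at h1
    split_ifs at h1 <;> norm_num at h1
  · rintro (rfl | rfl)
    · rfl
    · exact piS_inv_eq hβ

theorem piS_one_eq : piS (1 : MulChar F ℂ) = (fun _ => (1 : ℂ)) + stS := by
  unfold stS; abel

/-- The five types of irreducible characters of SL₂. -/
theorem SL2_irr_cases (χ : Matrix.SpecialLinearGroup (Fin 2) F → ℂ)
    (hχ : Cfsg.IsIrrCharacter (Matrix.SpecialLinearGroup (Fin 2) F) χ) :
    χ = (fun _ => (1 : ℂ)) ∨ χ = stS ∨ (∃ α : MulChar F ℂ, α ^ 2 ≠ 1 ∧ χ = piS α) ∨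
      (∃ α : MulChar F ℂ, α ^ 2 = 1 ∧ α ≠ 1 ∧ Cfsg.classInner (piS α) χ ≠ 0) ∨
      (∀ α : MulChar F ℂ, Cfsg.classInner (piS α) χ = 0) := by
  by_contra hcon
  push Not at hcon
  obtain ⟨h1, h2, h3, h4, α, h5⟩ := hcon
  by_cases hα1 : α = 1
  · subst hα1
    rw [piS_one_eq, classInner_add_left, classInner_irr isIrrCharacter_one hχ,
      classInner_irr stS_irr hχ] at h5
    by_cases e1 : (fun _ => (1 : ℂ)) = χ
    · exact h1 e1.symm
    · by_cases e2 : stS = χ
      · exact h2 e2.symm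
      · simp [e1, e2] at h5
  · by_cases hα2 : α ^ 2 = 1
    · exact h5 (h4 α hα2 hα1)
    · rw [classInner_irr (piS_irr hα2) hχ] at h5
      by_cases e : piS α = χ
      · exact h3 α hα2 e.symm
      · simp [e] at h5

/-- The two constituents of the principal series of a quadratic character. -/
theorem typeD_cases (α : MulChar F ℂ) (hα : α ^ 2 = 1) (hα1 : α ≠ 1) :
    ∃ χ₁ χ₂ : Matrix.SpecialLinearGroup (Fin 2) F → ℂ,
      Cfsg.IsIrrCharacter (Matrix.SpecialLinearGroup (Fin 2) F) χ₁ ∧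
      Cfsg.IsIrrCharacter (Matrix.SpecialLinearGroup (Fin 2) F) χ₂ ∧ χ₁ ≠ χ₂ ∧
      piS α = χ₁ + χ₂ ∧
      χ₁ 1 = (((Fintype.card F + 1) / 2 : ℕ) : ℂ) ∧ χ₂ 1 = (((Fintype.card F + 1) / 2 : ℕ) : ℂ) ∧
      (∃ t : Fˣ, ∀ m, χ₂ (twistS t m) = χ₁ m) ∧
      ∀ χ : Matrix.SpecialLinearGroup (Fin 2) F → ℂ,
        Cfsg.IsIrrCharacter (Matrix.SpecialLinearGroup (Fin 2) F) χ →
          (Cfsg.classInner (piS α) χ ≠ 0 ↔ χ = χ₁ ∨ χ = χ₂) := by
  obtain ⟨χ₁, χ₂, h1, h2, hne, hsum, hd1, hd2, ht⟩ := piS_quad_split α hα hα1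
  refine ⟨χ₁, χ₂, h1, h2, hne, hsum, hd1, hd2, ht, ?_⟩
  intro χ hχ
  rw [hsum, classInner_add_left, classInner_irr h1 hχ, classInner_irr h2 hχ]
  constructor
  · intro h
    by_cases e1 : χ₁ = χ
    · left; exact e1.symm
    · by_cases e2 : χ₂ = χ
      · right; exact e2.symm
      · simp [e1, e2] at h
  · rintro (rfl | rfl)
    · rw [if_pos rfl, if_neg (Ne.symm hne)]; simp
    · rw [if_pos rfl, if_neg hne]; simp

omit [DecidableEq F] in
theorem mulChar_sq_even (hF : ringChar F = 2) (α : MulChar F ℂ) (h : α ^ 2 = 1) : α = 1 := by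
  ext a
  obtain ⟨s, hs⟩ := FiniteField.isSquare_of_char_two hF (a : F)
  have hs0 : s ≠ 0 := by
    rintro rfl
    simp at hs
  have h1 : α (a : F) = α s ^ 2 := by rw [hs, map_mul, pow_two]
  have h2 : (α ^ 2) (Units.mk0 s hs0 : Fˣ) = 1 := by rw [h]; exact MulChar.one_apply_coe _
  rw [MulChar.pow_apply_coe] at h2
  rw [h1, MulChar.one_apply_coe]
  exact h2

/-- The quadratic character with complex values. -/
noncomputable def quadS (F : Type*) [Field F] [Fintype F] [DecidableEq F] : MulChar F ℂ :=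
  (quadraticChar F).ringHomComp (Int.castRingHom ℂ)

theorem quadS_apply (a : F) : quadS F a = ((quadraticChar F a : ℤ) : ℂ) := rfl

theorem quadS_sq : quadS F ^ 2 = 1 := by
  ext a
  rw [MulChar.pow_apply_coe, MulChar.one_apply_coe, quadS_apply]
  have := quadraticChar_sq_one (F := F) a.ne_zero
  exact_mod_cast congrArg (Int.cast : ℤ → ℂ) this

theorem quadS_ne_one (hF : ringChar F ≠ 2) : quadS F ≠ 1 := by
  intro h
  obtain ⟨ε, hε⟩ := FiniteField.exists_nonsquare hF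
  have hε0 : ε ≠ 0 := fun h => hε (by rw [h]; exact IsSquare.zero)
  have h1 := congrArg (fun χ : MulChar F ℂ => χ ε) h
  simp only [quadS_apply, quadraticChar_neg_one_iff_not_isSquare.mpr hε] at h1
  have h2 : (1 : MulChar F ℂ) ε = 1 := MulChar.one_apply_coe (Units.mk0 ε hε0)
  rw [h2] at h1
  norm_num at h1

theorem mulChar_sq_odd (hF : ringChar F ≠ 2) (α : MulChar F ℂ) (h : α ^ 2 = 1) (h1 : α ≠ 1) :
    α = quadS F := by
  have hsq : ∀ a : F, a ≠ 0 → α a ^ 2 = 1 := by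
    intro a ha
    have h2 : (α ^ 2) (Units.mk0 a ha : Fˣ) = 1 := by rw [h]; exact MulChar.one_apply_coe _
    rw [MulChar.pow_apply_coe] at h2
    exact h2
  have hS : ∀ a : F, a ≠ 0 → IsSquare a → α a = 1 := by
    intro a ha ⟨s, hs⟩
    have hs0 : s ≠ 0 := by rintro rfl; simp at hs; exact ha hs
    rw [hs, map_mul, ← pow_two]; exact hsq s hs0
  have hN : ∀ a : F, ¬ IsSquare a → α a = -1 := by
    intro a ha
    have ha0 : a ≠ 0 := fun h => ha (by rw [h]; exact IsSquare.zero)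
    rcases sq_eq_one_iff.mp (hsq a ha0) with h2 | h2
    · exfalso
      apply h1
      ext b
      rw [MulChar.one_apply_coe]
      by_cases hb : IsSquare (b : F)
      · exact hS _ b.ne_zero hb
      · have hinv : ¬ IsSquare a⁻¹ := by
          intro h; apply ha
          obtain ⟨r, hr⟩ := h
          exact ⟨r⁻¹, by rw [← mul_inv, ← hr, inv_inv]⟩
        have h3 : IsSquare ((b : F) * a⁻¹) := isSquare_mul_of_not_isSquare hF hb hinv
        have h4 : (b : F) = (b : F) * a⁻¹ * a := by field_simp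
        rw [h4, map_mul, h2, mul_one]
        exact hS _ (mul_ne_zero b.ne_zero (inv_ne_zero ha0)) h3
    · exact h2
  ext a
  rw [quadS_apply]
  by_cases ha : IsSquare (a : F)
  · rw [hS _ a.ne_zero ha, (quadraticChar_one_iff_isSquare a.ne_zero).mpr ha]; simp
  · rw [hN _ ha, quadraticChar_neg_one_iff_not_isSquare.mpr ha]; simp

theorem card_mulChar_sq_ne_even (hF : ringChar F = 2) :
    Nat.card {α : MulChar F ℂ // α ^ 2 ≠ 1} = Fintype.card F - 2 := by
  classical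
  have : Fintype (MulChar F ℂ) := Fintype.ofFinite _
  rw [Nat.card_eq_fintype_card, Fintype.card_subtype_compl, ← Nat.card_eq_fintype_card,
    card_mulChar]
  have h1 : Fintype.card {α : MulChar F ℂ // α ^ 2 = 1} = 1 := by
    rw [Fintype.card_eq_one_iff]
    refine ⟨⟨1, one_pow 2⟩, ?_⟩
    rintro ⟨α, hα⟩
    exact Subtype.ext (mulChar_sq_even hF α hα)
  rw [h1]; omega

theorem card_mulChar_sq_ne_odd (hF : ringChar F ≠ 2) :
    Nat.card {α : MulChar F ℂ // α ^ 2 ≠ 1} = Fintype.card F - 3 := by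
  classical
  have : Fintype (MulChar F ℂ) := Fintype.ofFinite _
  rw [Nat.card_eq_fintype_card, Fintype.card_subtype_compl, ← Nat.card_eq_fintype_card,
    card_mulChar]
  have h1 : Fintype.card {α : MulChar F ℂ // α ^ 2 = 1} = 2 := by
    rw [Fintype.card_subtype]
    have : Finset.univ.filter (fun α : MulChar F ℂ => α ^ 2 = 1) = {1, quadS F} := by
      ext α
      simp only [Finset.mem_filter, Finset.mem_univ, true_and, Finset.mem_insert,
        Finset.mem_singleton]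
      constructor
      · intro h
        by_cases h1 : α = 1
        · left; exact h1
        · right; exact mulChar_sq_odd hF α h h1
      · rintro (rfl | rfl)
        · exact one_pow 2
        · exact quadS_sq
    rw [this, Finset.card_pair (Ne.symm (quadS_ne_one hF))]
  rw [h1]; omega

/-- The partition of the irreducible characters of SL₂ into five types. -/
theorem SL2_partition [Fintype (Cfsg.IrrCharacter (Matrix.SpecialLinearGroup (Fin 2) F))] :
    ∃ Tf Sf Pf Df Cf : Finset (Cfsg.IrrCharacter (Matrix.SpecialLinearGroup (Fin 2) F)),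
      (∀ ψ, ψ ∈ Tf ↔ ψ.1 = fun _ => (1 : ℂ)) ∧
      (∀ ψ, ψ ∈ Sf ↔ ψ.1 = stS) ∧
      (∀ ψ, ψ ∈ Pf ↔ ∃ α : MulChar F ℂ, α ^ 2 ≠ 1 ∧ ψ.1 = piS α) ∧
      (∀ ψ, ψ ∈ Df ↔ ∃ α : MulChar F ℂ, α ^ 2 = 1 ∧ α ≠ 1 ∧ Cfsg.classInner (piS α) ψ.1 ≠ 0) ∧
      (∀ ψ, ψ ∈ Cf ↔ ∀ α : MulChar F ℂ, Cfsg.classInner (piS α) ψ.1 = 0) ∧
      Finset.univ = Tf ∪ Sf ∪ Pf ∪ Df ∪ Cf ∧ Disjoint Tf Sf ∧ Disjoint (Tf ∪ Sf) Pf ∧
      Disjoint (Tf ∪ Sf ∪ Pf) Df ∧ Disjoint (Tf ∪ Sf ∪ Pf ∪ Df) Cf ∧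
      Tf.card = 1 ∧ Sf.card = 1 ∧ Pf.card * 2 = Nat.card {α : MulChar F ℂ // α ^ 2 ≠ 1} := by
  classical
  have : Fintype (MulChar F ℂ) := Fintype.ofFinite _
  have hq2 : 2 ≤ Fintype.card F := Fintype.one_lt_card
  set Tf : Finset (Cfsg.IrrCharacter (Matrix.SpecialLinearGroup (Fin 2) F)) :=
    Finset.univ.filter (fun ψ => ψ.1 = fun _ => (1 : ℂ)) with hTf
  set Sf : Finset (Cfsg.IrrCharacter (Matrix.SpecialLinearGroup (Fin 2) F)) :=
    Finset.univ.filter (fun ψ => ψ.1 = stS) with hSf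
  set Pf : Finset (Cfsg.IrrCharacter (Matrix.SpecialLinearGroup (Fin 2) F)) :=
    Finset.univ.filter (fun ψ => ∃ α : MulChar F ℂ, α ^ 2 ≠ 1 ∧ ψ.1 = piS α) with hPf
  set Df : Finset (Cfsg.IrrCharacter (Matrix.SpecialLinearGroup (Fin 2) F)) :=
    Finset.univ.filter (fun ψ => ∃ α : MulChar F ℂ, α ^ 2 = 1 ∧ α ≠ 1 ∧
      Cfsg.classInner (piS α) ψ.1 ≠ 0) with hDf
  set Cf : Finset (Cfsg.IrrCharacter (Matrix.SpecialLinearGroup (Fin 2) F)) :=
    Finset.univ.filter (fun ψ => ∀ α : MulChar F ℂ, Cfsg.classInner (piS α) ψ.1 = 0) with hCf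
  have mT : ∀ ψ, ψ ∈ Tf ↔ ψ.1 = fun _ => (1 : ℂ) := fun ψ => by simp [hTf]
  have mS : ∀ ψ, ψ ∈ Sf ↔ ψ.1 = stS := fun ψ => by simp [hSf]
  have mP : ∀ ψ, ψ ∈ Pf ↔ ∃ α : MulChar F ℂ, α ^ 2 ≠ 1 ∧ ψ.1 = piS α := fun ψ => by simp [hPf]
  have mD : ∀ ψ, ψ ∈ Df ↔ ∃ α : MulChar F ℂ, α ^ 2 = 1 ∧ α ≠ 1 ∧
      Cfsg.classInner (piS α) ψ.1 ≠ 0 := fun ψ => by simp [hDf]
  have mC : ∀ ψ, ψ ∈ Cf ↔ ∀ α : MulChar F ℂ, Cfsg.classInner (piS α) ψ.1 = 0 :=
    fun ψ => by simp [hCf]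
  have hqc : (Fintype.card F : ℂ) ≠ 1 := by
    intro h
    have : Fintype.card F = 1 := by exact_mod_cast h
    omega
  have hqc0 : (Fintype.card F : ℂ) ≠ 0 := by
    intro h
    have : Fintype.card F = 0 := by exact_mod_cast h
    omega
  -- facts on the types
  have cT : ∀ ψ ∈ Tf, ∀ α : MulChar F ℂ, α ≠ 1 → Cfsg.classInner (piS α) ψ.1 = 0 := by
    intro ψ hψ α hα
    rw [(mT ψ).mp hψ, classInner_piS_const, if_neg hα]
  have cS : ∀ ψ ∈ Sf, ∀ α : MulChar F ℂ, α ≠ 1 → Cfsg.classInner (piS α) ψ.1 = 0 := by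
    intro ψ hψ α hα
    rw [(mS ψ).mp hψ]
    unfold stS
    rw [classInner_sub_right', classInner_piS_piS, classInner_piS_const, inv_one, if_neg hα]
    simp
  have cP : ∀ ψ ∈ Pf, ∀ α : MulChar F ℂ, α ^ 2 = 1 → Cfsg.classInner (piS α) ψ.1 = 0 := by
    intro ψ hψ α hα
    obtain ⟨β, hβ, hψβ⟩ := (mP ψ).mp hψ
    rw [hψβ, classInner_piS_piS]
    have h1 : α ≠ β := by rintro rfl; exact hβ hα
    have h2 : α ≠ β⁻¹ := by
      rintro rfl
      apply hβ
      rw [inv_pow, inv_eq_one] at hα; exact hα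
    rw [if_neg h1, if_neg h2]; simp
  have dTS : Disjoint Tf Sf := Finset.disjoint_left.mpr (fun ψ h1 h2 => by
    have e1 := (mT ψ).mp h1
    have e2 := (mS ψ).mp h2
    have h3 : stS (F := F) 1 = 1 := by rw [← e2, e1]
    rw [stS_one] at h3
    exact hqc h3)
  have dTSP : Disjoint (Tf ∪ Sf) Pf := Finset.disjoint_left.mpr (fun ψ h1 h2 => by
    obtain ⟨β, hβ, hψβ⟩ := (mP ψ).mp h2
    have h3 : ψ.1 1 = (Fintype.card F : ℂ) + 1 := by rw [hψβ, piS_one]
    rcases Finset.mem_union.mp h1 with h1 | h1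
    · rw [(mT ψ).mp h1] at h3
      apply hqc0
      linear_combination -h3
    · rw [(mS ψ).mp h1, stS_one] at h3
      norm_num at h3)
  have dD : Disjoint (Tf ∪ Sf ∪ Pf) Df := Finset.disjoint_left.mpr (fun ψ h1 h2 => by
    obtain ⟨α, hα, hα1, hne⟩ := (mD ψ).mp h2
    rcases Finset.mem_union.mp h1 with h1 | h1
    · rcases Finset.mem_union.mp h1 with h1 | h1
      · exact hne (cT ψ h1 α hα1)
      · exact hne (cS ψ h1 α hα1)
    · exact hne (cP ψ h1 α hα))
  have dC : Disjoint (Tf ∪ Sf ∪ Pf ∪ Df) Cf := Finset.disjoint_left.mpr (fun ψ h1 h2 => by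
    have hc := (mC ψ).mp h2
    rcases Finset.mem_union.mp h1 with h1 | h1
    · rcases Finset.mem_union.mp h1 with h1 | h1
      · rcases Finset.mem_union.mp h1 with h1 | h1
        · have := hc 1
          rw [(mT ψ).mp h1, classInner_piS_const] at this
          simp at this
        · have := hc 1
          rw [(mS ψ).mp h1, classInner_piS_stS] at this
          exact one_ne_zero this
      · obtain ⟨β, hβ, hψβ⟩ := (mP ψ).mp h1
        have := hc β
        rw [hψβ, classInner_piS_piS] at this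
        simp at this
        split_ifs at this <;> norm_num at this
    · obtain ⟨α, hα, hα1, hne⟩ := (mD ψ).mp h1
      exact hne (hc α))
  have huniv : (Finset.univ : Finset (Cfsg.IrrCharacter (Matrix.SpecialLinearGroup (Fin 2) F))) =
      Tf ∪ Sf ∪ Pf ∪ Df ∪ Cf := by
    ext ψ
    simp only [Finset.mem_univ, Finset.mem_union, true_iff]
    rcases SL2_irr_cases ψ.1 ψ.2 with h | h | h | h | h
    · exact Or.inl (Or.inl (Or.inl (Or.inl ((mT ψ).mpr h))))
    · exact Or.inl (Or.inl (Or.inl (Or.inr ((mS ψ).mpr h))))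
    · exact Or.inl (Or.inl (Or.inr ((mP ψ).mpr h)))
    · exact Or.inl (Or.inr ((mD ψ).mpr h))
    · exact Or.inr ((mC ψ).mpr h)
  have hTcard : Tf.card = 1 := by
    rw [Finset.card_eq_one]
    refine ⟨⟨fun _ => 1, isIrrCharacter_one⟩, ?_⟩
    ext ψ
    rw [mT, Finset.mem_singleton]
    exact ⟨fun h => Subtype.ext h, fun h => by rw [h]⟩
  have hScard : Sf.card = 1 := by
    rw [Finset.card_eq_one]
    refine ⟨⟨stS, stS_irr⟩, ?_⟩
    ext ψ
    rw [mS, Finset.mem_singleton]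
    exact ⟨fun h => Subtype.ext h, fun h => by rw [h]⟩
  have hPcard : Pf.card * 2 = Nat.card {α : MulChar F ℂ // α ^ 2 ≠ 1} := by
    set D : Finset (MulChar F ℂ) := Finset.univ.filter (fun α => α ^ 2 ≠ 1) with hD
    have hDm : ∀ α, α ∈ D ↔ α ^ 2 ≠ 1 := fun α => by simp [hD]
    set ιP : MulChar F ℂ → Cfsg.IrrCharacter (Matrix.SpecialLinearGroup (Fin 2) F) := fun α =>
      if h : α ^ 2 ≠ 1 then ⟨piS α, piS_irr h⟩ else ⟨fun _ => 1, isIrrCharacter_one⟩ with hιP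
    have hι : ∀ α ∈ D, (ιP α).1 = piS α := by
      intro α hα
      have hne : α ^ 2 ≠ 1 := (hDm α).mp hα
      simp only [hιP, dif_pos hne]
    have hPim : Pf = D.image ιP := by
      ext ψ
      rw [mP, Finset.mem_image]
      constructor
      · rintro ⟨α, hne, hα⟩
        have hmem : α ∈ D := (hDm α).mpr hne
        exact ⟨α, hmem, Subtype.ext (by rw [hι _ hmem, hα])⟩
      · rintro ⟨α, hα, hαψ⟩
        exact ⟨α, (hDm α).mp hα, by rw [← hαψ, hι α hα]⟩
    have hfib : ∀ ψ ∈ D.image ιP, (D.filter (fun α => ιP α = ψ)).card = 2 := by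
      intro ψ hψ
      obtain ⟨α, hα, rfl⟩ := Finset.mem_image.mp hψ
      have hne : α ^ 2 ≠ 1 := (hDm α).mp hα
      have hne' : α⁻¹ ^ 2 ≠ 1 := by
        intro hc; apply hne; rw [inv_pow, inv_eq_one] at hc; exact hc
      have : D.filter (fun α' => ιP α' = ιP α) = {α, α⁻¹} := by
        ext α'
        simp only [Finset.mem_filter, Finset.mem_insert, Finset.mem_singleton]
        constructor
        · rintro ⟨hα', heq⟩
          have h1 : piS α' = piS α := by
            rw [← hι α' hα', ← hι α hα, heq]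
          exact (piS_eq_iff ((hDm α').mp hα') hne).mp h1
        · rintro (rfl | rfl)
          · exact ⟨hα, rfl⟩
          · have hα' : α⁻¹ ∈ D := (hDm _).mpr hne'
            refine ⟨hα', Subtype.ext ?_⟩
            rw [hι _ hα', hι _ hα]
            exact piS_inv_eq hne
      rw [this, Finset.card_pair]
      intro h
      apply hne
      rw [pow_two]; nth_rewrite 2 [h]; exact mul_inv_cancel α
    have hcard := Finset.card_eq_sum_card_image ιP D
    rw [Finset.sum_congr rfl hfib, Finset.sum_const, smul_eq_mul, ← hPim] at hcard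
    rw [← hcard, Nat.card_eq_fintype_card, Fintype.card_subtype]
  exact ⟨Tf, Sf, Pf, Df, Cf, mT, mS, mP, mD, mC, huniv, dTS, dTSP, dD, dC, hTcard, hScard, hPcard⟩

omit [DecidableEq F] in
theorem ringChar_ne_two_of_odd (hodd : Odd (Fintype.card F)) : ringChar F ≠ 2 := by
  intro h
  have := FiniteField.even_card_of_char_two h
  rcases hodd with ⟨k, hk⟩
  omega

/-- Counting the irreducible characters of SL₂ in even characteristic. -/
theorem SL2_even_count (hF : ringChar F = 2) :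
    2 * Nat.card {χ : Cfsg.IrrCharacter (Matrix.SpecialLinearGroup (Fin 2) F) //
      ∃ α : MulChar F ℂ, α ^ 2 ≠ 1 ∧ χ.1 = piS α} = Fintype.card F - 2 ∧
    2 * Nat.card {χ : Cfsg.IrrCharacter (Matrix.SpecialLinearGroup (Fin 2) F) //
      ∀ α : MulChar F ℂ, Cfsg.classInner (piS α) χ.1 = 0} = Fintype.card F := by
  classical
  have : Fintype (Cfsg.IrrCharacter (Matrix.SpecialLinearGroup (Fin 2) F)) := Fintype.ofFinite _
  have : CharP F 2 := ringChar.of_eq hF
  obtain ⟨Tf, Sf, Pf, Df, Cf, mT, mS, mP, mD, mC, huniv, d1, d2, d3, d4, cT, cS, cP⟩ :=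
    SL2_partition (F := F)
  have hq2 : 2 ≤ Fintype.card F := Fintype.one_lt_card
  have hD : Df = ∅ := by
    rw [Finset.eq_empty_iff_forall_notMem]
    intro ψ hψ
    obtain ⟨α, hα, hα1, _⟩ := (mD ψ).mp hψ
    exact hα1 (mulChar_sq_even hF α hα)
  have hcardI : Fintype.card (Cfsg.IrrCharacter (Matrix.SpecialLinearGroup (Fin 2) F)) =
      Fintype.card F + 1 := by
    rw [← Nat.card_eq_fintype_card, card_irr_eq_card_conjClasses, card_conjClasses_SL2_even]
  have H1 : Tf.card + Sf.card + Pf.card + Df.card + Cf.card = Fintype.card F + 1 := by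
    rw [← hcardI, ← Finset.card_univ, huniv, Finset.card_union_of_disjoint d4,
      Finset.card_union_of_disjoint d3, Finset.card_union_of_disjoint d2,
      Finset.card_union_of_disjoint d1]
  rw [hD, Finset.card_empty, cT, cS] at H1
  rw [card_mulChar_sq_ne_even hF] at cP
  have e1 : Nat.card {χ : Cfsg.IrrCharacter (Matrix.SpecialLinearGroup (Fin 2) F) //
      ∃ α : MulChar F ℂ, α ^ 2 ≠ 1 ∧ χ.1 = piS α} = Pf.card := by
    rw [Nat.card_eq_fintype_card, Fintype.card_subtype]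
    congr 1; ext ψ; rw [Finset.mem_filter, mP]; simp
  have e2 : Nat.card {χ : Cfsg.IrrCharacter (Matrix.SpecialLinearGroup (Fin 2) F) //
      ∀ α : MulChar F ℂ, Cfsg.classInner (piS α) χ.1 = 0} = Cf.card := by
    rw [Nat.card_eq_fintype_card, Fintype.card_subtype]
    congr 1; ext ψ; rw [Finset.mem_filter, mC]; simp
  rw [e1, e2]
  constructor <;> omega

theorem sl2_arith (q m P na nb : ℕ) (hq : q = 2 * m + 1) (hm : 1 ≤ m) (hP : P * 2 = q - 3)
    (h1 : 1 + 1 + P + 2 + (na + nb) = q + 4)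
    (h2 : 1 * 1 + 1 * q ^ 2 + P * (q + 1) ^ 2 + 2 * ((q + 1) / 2) ^ 2 +
      (na * (q - 1) ^ 2 + nb * ((q - 1) / 2) ^ 2) = q * (q ^ 2 - 1)) :
    na = (q - 1) / 2 ∧ nb = 2 := by
  subst hq
  have e1 : (2 * m + 1 + 1) / 2 = m + 1 := by omega
  have e2 : (2 * m + 1 - 1) / 2 = m := by omega
  have e3 : 2 * m + 1 - 1 = 2 * m := by omega
  have e4 : (2 * m + 1) ^ 2 - 1 = 4 * m ^ 2 + 4 * m := by
    have : (2 * m + 1) ^ 2 = 4 * m ^ 2 + 4 * m + 1 := by ring
    omega
  rw [e1, e2, e3, e4] at h2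
  rw [e2]
  have hP' : P + 1 = m := by omega
  subst hP'
  have h3 : (((P : ℤ) + 1) ^ 2) * (4 * na + nb - (4 * (P + 1) + 2)) = 0 := by
    have h2' : ((1 * 1 + 1 * (2 * (P + 1) + 1) ^ 2 + P * (2 * (P + 1) + 1 + 1) ^ 2 +
        2 * (P + 1 + 1) ^ 2 + (na * (2 * (P + 1)) ^ 2 + nb * (P + 1) ^ 2) : ℕ) : ℤ) =
        (((2 * (P + 1) + 1) * (4 * (P + 1) ^ 2 + 4 * (P + 1)) : ℕ) : ℤ) := by
      exact_mod_cast h2
    push_cast at h2'
    linear_combination h2'
  have h4 : (4 * na + nb : ℤ) - (4 * (P + 1) + 2) = 0 := by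
    rcases mul_eq_zero.mp h3 with h | h
    · exfalso
      have : (0 : ℤ) < ((P : ℤ) + 1) ^ 2 := by positivity
      omega
    · exact h
  omega

/-- Counting the irreducible characters of SL₂ in odd characteristic. -/
theorem SL2_odd_count (hF : ringChar F ≠ 2) :
    2 * Nat.card {χ : Cfsg.IrrCharacter (Matrix.SpecialLinearGroup (Fin 2) F) //
      ∃ α : MulChar F ℂ, α ^ 2 ≠ 1 ∧ χ.1 = piS α} = Fintype.card F - 3 ∧
    Nat.card {χ : Cfsg.IrrCharacter (Matrix.SpecialLinearGroup (Fin 2) F) //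
      Cfsg.classInner (piS (quadS F)) χ.1 ≠ 0} = 2 ∧
    Nat.card {χ : Cfsg.IrrCharacter (Matrix.SpecialLinearGroup (Fin 2) F) //
      (∀ α : MulChar F ℂ, Cfsg.classInner (piS α) χ.1 = 0) ∧
        χ.1 1 = ((Fintype.card F - 1 : ℕ) : ℂ)} = (Fintype.card F - 1) / 2 ∧
    Nat.card {χ : Cfsg.IrrCharacter (Matrix.SpecialLinearGroup (Fin 2) F) //
      (∀ α : MulChar F ℂ, Cfsg.classInner (piS α) χ.1 = 0) ∧
        χ.1 1 = (((Fintype.card F - 1) / 2 : ℕ) : ℂ)} = 2 := by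
  classical
  have : Fintype (Cfsg.IrrCharacter (Matrix.SpecialLinearGroup (Fin 2) F)) := Fintype.ofFinite _
  have hoddq : Fintype.card F % 2 = 1 := FiniteField.odd_card_of_char_ne_two hF
  have hodd : Odd (Fintype.card F) := Nat.odd_iff.mpr hoddq
  have hq2 : 2 ≤ Fintype.card F := Fintype.one_lt_card
  obtain ⟨Tf, Sf, Pf, Df, Cf, mT, mS, mP, mD, mC, huniv, d1, d2, d3, d4, cT, cS, cP⟩ :=
    SL2_partition (F := F)
  obtain ⟨χ₁, χ₂, h1, h2, hne, hsum, hd1, hd2, ht, hiff⟩ :=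
    typeD_cases (quadS F) quadS_sq (quadS_ne_one hF)
  have mD' : ∀ ψ, ψ ∈ Df ↔ Cfsg.classInner (piS (quadS F)) ψ.1 ≠ 0 := by
    intro ψ
    rw [mD]
    constructor
    · rintro ⟨α, hα, hα1, hne⟩
      rw [← mulChar_sq_odd hF α hα hα1]; exact hne
    · intro h; exact ⟨quadS F, quadS_sq, quadS_ne_one hF, h⟩
  have cD : Df.card = 2 := by
    have : Df = {⟨χ₁, h1⟩, ⟨χ₂, h2⟩} := by
      ext ψ
      rw [mD', hiff ψ.1 ψ.2, Finset.mem_insert, Finset.mem_singleton]
      constructor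
      · rintro (h | h)
        · left; exact Subtype.ext h
        · right; exact Subtype.ext h
      · rintro (h | h)
        · left; rw [h]
        · right; rw [h]
    rw [this, Finset.card_pair]
    intro h; exact hne (congrArg Subtype.val h)
  have hcardI : Fintype.card (Cfsg.IrrCharacter (Matrix.SpecialLinearGroup (Fin 2) F)) =
      Fintype.card F + 4 := by
    rw [← Nat.card_eq_fintype_card, card_irr_eq_card_conjClasses, card_conjClasses_SL2_odd hodd]
  have H1 : Tf.card + Sf.card + Pf.card + Df.card + Cf.card = Fintype.card F + 4 := by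
    rw [← hcardI, ← Finset.card_univ, huniv, Finset.card_union_of_disjoint d4,
      Finset.card_union_of_disjoint d3, Finset.card_union_of_disjoint d2,
      Finset.card_union_of_disjoint d1]
  have hdeg : ∀ ψ : Cfsg.IrrCharacter (Matrix.SpecialLinearGroup (Fin 2) F), ∃ n : ℕ, 0 < n ∧
      ψ.1 1 = n := fun ψ => irr_apply_one ψ.2
  choose deg hdeg_pos hdeg_eq using hdeg
  have degT : ∀ ψ ∈ Tf, deg ψ = 1 := by
    intro ψ hψ
    have := hdeg_eq ψ
    rw [(mT ψ).mp hψ] at this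
    have h' : (1 : ℂ) = deg ψ := this
    exact_mod_cast h'.symm
  have degS : ∀ ψ ∈ Sf, deg ψ = Fintype.card F := by
    intro ψ hψ
    have := hdeg_eq ψ
    rw [(mS ψ).mp hψ, stS_one] at this
    exact_mod_cast this.symm
  have degP : ∀ ψ ∈ Pf, deg ψ = Fintype.card F + 1 := by
    intro ψ hψ
    obtain ⟨α, hα, hψα⟩ := (mP ψ).mp hψ
    have := hdeg_eq ψ
    rw [hψα, piS_one] at this
    exact_mod_cast this.symm
  have degD : ∀ ψ ∈ Df, deg ψ = (Fintype.card F + 1) / 2 := by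
    intro ψ hψ
    have := hdeg_eq ψ
    rcases (hiff ψ.1 ψ.2).mp ((mD' ψ).mp hψ) with h | h
    · rw [h, hd1] at this; exact_mod_cast this.symm
    · rw [h, hd2] at this; exact_mod_cast this.symm
  have degC : ∀ ψ ∈ Cf, deg ψ = Fintype.card F - 1 ∨ deg ψ = (Fintype.card F - 1) / 2 := by
    intro ψ hψ
    have := hdeg_eq ψ
    rcases cuspS_degree_odd hF ψ.1 ψ.2 ((mC ψ).mp hψ) with h | h
    · left; rw [h] at this; exact_mod_cast this.symm
    · right; rw [h] at this; exact_mod_cast this.symm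
  have hsq : ∑ ψ : Cfsg.IrrCharacter (Matrix.SpecialLinearGroup (Fin 2) F), deg ψ ^ 2 =
      Fintype.card F * (Fintype.card F ^ 2 - 1) := by
    have h1 := sum_deg_sq (G := Matrix.SpecialLinearGroup (Fin 2) F)
    have h2 : ∀ ψ : Cfsg.IrrCharacter (Matrix.SpecialLinearGroup (Fin 2) F),
        ψ.1 1 * conj (ψ.1 1) = ((deg ψ ^ 2 : ℕ) : ℂ) := by
      intro ψ
      rw [hdeg_eq ψ, Complex.conj_natCast]; push_cast; ring
    simp only [h2] at h1
    rw [← Nat.cast_sum] at h1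
    have h3 := Nat.cast_injective h1
    rw [h3, card_SL2]
  set Ca := Cf.filter (fun ψ => deg ψ = Fintype.card F - 1) with hCa
  set Cb := Cf.filter (fun ψ => ¬ deg ψ = Fintype.card F - 1) with hCb
  have hCab : Ca.card + Cb.card = Cf.card := Finset.card_filter_add_card_filter_not _
  have degCb : ∀ ψ ∈ Cb, deg ψ = (Fintype.card F - 1) / 2 := by
    intro ψ hψ
    obtain ⟨h1, h2⟩ := Finset.mem_filter.mp hψ
    exact (degC ψ h1).resolve_left h2
  have hsumC : ∑ ψ ∈ Cf, deg ψ ^ 2 = Ca.card * (Fintype.card F - 1) ^ 2 +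
      Cb.card * ((Fintype.card F - 1) / 2) ^ 2 := by
    rw [← Finset.sum_filter_add_sum_filter_not Cf (fun ψ => deg ψ = Fintype.card F - 1)]
    rw [Finset.sum_congr rfl (fun ψ hψ => by rw [(Finset.mem_filter.mp hψ).2] :
        ∀ ψ ∈ Ca, deg ψ ^ 2 = (Fintype.card F - 1) ^ 2),
      Finset.sum_congr rfl (fun ψ hψ => by rw [degCb ψ hψ] :
        ∀ ψ ∈ Cb, deg ψ ^ 2 = ((Fintype.card F - 1) / 2) ^ 2)]
    simp only [Finset.sum_const, smul_eq_mul]
  have H2 : Tf.card * 1 + Sf.card * Fintype.card F ^ 2 + Pf.card * (Fintype.card F + 1) ^ 2 +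
      Df.card * ((Fintype.card F + 1) / 2) ^ 2 + ∑ ψ ∈ Cf, deg ψ ^ 2 =
        Fintype.card F * (Fintype.card F ^ 2 - 1) := by
    rw [← hsq, huniv, Finset.sum_union d4, Finset.sum_union d3, Finset.sum_union d2,
      Finset.sum_union d1]
    rw [Finset.sum_congr rfl (fun ψ hψ => by rw [degT ψ hψ] : ∀ ψ ∈ Tf, deg ψ ^ 2 = 1 ^ 2),
      Finset.sum_congr rfl (fun ψ hψ => by rw [degS ψ hψ] :
        ∀ ψ ∈ Sf, deg ψ ^ 2 = Fintype.card F ^ 2),
      Finset.sum_congr rfl (fun ψ hψ => by rw [degP ψ hψ] :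
        ∀ ψ ∈ Pf, deg ψ ^ 2 = (Fintype.card F + 1) ^ 2),
      Finset.sum_congr rfl (fun ψ hψ => by rw [degD ψ hψ] :
        ∀ ψ ∈ Df, deg ψ ^ 2 = ((Fintype.card F + 1) / 2) ^ 2)]
    simp only [Finset.sum_const, smul_eq_mul, one_pow]
  rw [card_mulChar_sq_ne_odd hF] at cP
  rw [cT, cS, cD, hsumC] at H2
  rw [cT, cS, cD, ← hCab] at H1
  obtain ⟨hna, hnb⟩ := sl2_arith (Fintype.card F) (Fintype.card F / 2) Pf.card Ca.card Cb.card
    (by omega) (by omega) cP (by omega) H2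
  have e1 : Nat.card {χ : Cfsg.IrrCharacter (Matrix.SpecialLinearGroup (Fin 2) F) //
      ∃ α : MulChar F ℂ, α ^ 2 ≠ 1 ∧ χ.1 = piS α} = Pf.card := by
    rw [Nat.card_eq_fintype_card, Fintype.card_subtype]
    congr 1; ext ψ; rw [Finset.mem_filter, mP]; simp
  have e2 : Nat.card {χ : Cfsg.IrrCharacter (Matrix.SpecialLinearGroup (Fin 2) F) //
      Cfsg.classInner (piS (quadS F)) χ.1 ≠ 0} = Df.card := by
    rw [Nat.card_eq_fintype_card, Fintype.card_subtype]
    congr 1; ext ψ; rw [Finset.mem_filter, mD']; simp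
  have e3 : Nat.card {χ : Cfsg.IrrCharacter (Matrix.SpecialLinearGroup (Fin 2) F) //
      (∀ α : MulChar F ℂ, Cfsg.classInner (piS α) χ.1 = 0) ∧
        χ.1 1 = ((Fintype.card F - 1 : ℕ) : ℂ)} = Ca.card := by
    rw [Nat.card_eq_fintype_card, Fintype.card_subtype]
    congr 1; ext ψ
    rw [Finset.mem_filter, hCa, Finset.mem_filter, mC, hdeg_eq ψ, Nat.cast_inj]
    simp
  have e4 : Nat.card {χ : Cfsg.IrrCharacter (Matrix.SpecialLinearGroup (Fin 2) F) //
      (∀ α : MulChar F ℂ, Cfsg.classInner (piS α) χ.1 = 0) ∧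
        χ.1 1 = (((Fintype.card F - 1) / 2 : ℕ) : ℂ)} = Cb.card := by
    rw [Nat.card_eq_fintype_card, Fintype.card_subtype]
    congr 1; ext ψ
    rw [Finset.mem_filter, hCb, Finset.mem_filter, hdeg_eq ψ, Nat.cast_inj]
    simp only [Finset.mem_univ, true_and]
    constructor
    · rintro ⟨hc, hd⟩
      refine ⟨(mC ψ).mpr hc, ?_⟩
      rw [hd]; omega
    · rintro ⟨hc, hd⟩
      exact ⟨(mC ψ).mp hc, (degC ψ hc).resolve_left hd⟩
  rw [e1, e2, e3, e4]
  refine ⟨by omega, cD, hna, hnb⟩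

/-- The types of the irreducible characters of SL₂ with their degrees. -/
theorem SL2_types (χ : Matrix.SpecialLinearGroup (Fin 2) F → ℂ)
    (hχ : Cfsg.IsIrrCharacter (Matrix.SpecialLinearGroup (Fin 2) F) χ) :
    (χ = (fun _ => (1 : ℂ)) ∧ χ 1 = ((1 : ℕ) : ℂ)) ∨
    (χ = stS ∧ χ 1 = ((Fintype.card F : ℕ) : ℂ)) ∨
    ((∃ α : MulChar F ℂ, α ^ 2 ≠ 1 ∧ χ = piS α) ∧ χ 1 = ((Fintype.card F + 1 : ℕ) : ℂ)) ∨
    (ringChar F ≠ 2 ∧ Cfsg.classInner (piS (quadS F)) χ ≠ 0 ∧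
      χ 1 = (((Fintype.card F + 1) / 2 : ℕ) : ℂ)) ∨
    ((∀ α : MulChar F ℂ, Cfsg.classInner (piS α) χ = 0) ∧
      (χ 1 = ((Fintype.card F - 1 : ℕ) : ℂ) ∨
        (ringChar F ≠ 2 ∧ χ 1 = (((Fintype.card F - 1) / 2 : ℕ) : ℂ)))) := by
  rcases SL2_irr_cases χ hχ with h | h | h | ⟨α, hα, hα1, hne⟩ | h
  · exact Or.inl ⟨h, by rw [h]; simp⟩
  · exact Or.inr (Or.inl ⟨h, by rw [h, stS_one]⟩)
  · refine Or.inr (Or.inr (Or.inl ⟨h, ?_⟩))
    obtain ⟨α, hα, rfl⟩ := h
    rw [piS_one]; push_cast; ring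
  · have hF : ringChar F ≠ 2 := fun hF => hα1 (mulChar_sq_even hF α hα)
    have e := mulChar_sq_odd hF α hα hα1
    subst e
    obtain ⟨χ₁, χ₂, h1, h2, hne', hsum, hd1, hd2, ht, hiff⟩ :=
      typeD_cases (quadS F) quadS_sq (quadS_ne_one hF)
    refine Or.inr (Or.inr (Or.inr (Or.inl ⟨hF, hne, ?_⟩)))
    rcases (hiff χ hχ).mp hne with rfl | rfl
    · exact hd1
    · exact hd2
  · refine Or.inr (Or.inr (Or.inr (Or.inr ⟨h, ?_⟩)))
    by_cases hF : ringChar F = 2
    · left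
      rw [cuspS_degree_even hF χ hχ h, Nat.cast_sub Fintype.card_pos, Nat.cast_one]
    · rcases cuspS_degree_odd hF χ hχ h with h' | h'
      · left; exact h'
      · right; exact ⟨hF, h'⟩

theorem SL2_deg_q_iff (χ : Matrix.SpecialLinearGroup (Fin 2) F → ℂ)
    (hχ : Cfsg.IsIrrCharacter (Matrix.SpecialLinearGroup (Fin 2) F) χ) :
    χ 1 = (Fintype.card F : ℂ) ↔ χ = stS := by
  have hq2 : 2 ≤ Fintype.card F := Fintype.one_lt_card
  constructor
  · intro hdeg
    rcases SL2_types χ hχ with ⟨_, h⟩ | ⟨h, _⟩ | ⟨_, h⟩ | ⟨_, _, h⟩ | ⟨_, h | ⟨_, h⟩⟩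
    · have := Nat.cast_injective (R := ℂ) (h.symm.trans hdeg); omega
    · exact h
    · have := Nat.cast_injective (R := ℂ) (h.symm.trans hdeg); omega
    · have := Nat.cast_injective (R := ℂ) (h.symm.trans hdeg); omega
    · have := Nat.cast_injective (R := ℂ) (h.symm.trans hdeg); omega
    · have := Nat.cast_injective (R := ℂ) (h.symm.trans hdeg); omega
  · rintro rfl; exact stS_one

theorem SL2_deg_q_add_one_iff (χ : Matrix.SpecialLinearGroup (Fin 2) F → ℂ)
    (hχ : Cfsg.IsIrrCharacter (Matrix.SpecialLinearGroup (Fin 2) F) χ) :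
    χ 1 = (Fintype.card F : ℂ) + 1 ↔ ∃ α : MulChar F ℂ, α ^ 2 ≠ 1 ∧ χ = piS α := by
  have hq2 : 2 ≤ Fintype.card F := Fintype.one_lt_card
  constructor
  · intro hdeg
    have hdeg' : χ 1 = ((Fintype.card F + 1 : ℕ) : ℂ) := by rw [hdeg]; push_cast; ring
    rcases SL2_types χ hχ with ⟨_, h⟩ | ⟨_, h⟩ | ⟨h, _⟩ | ⟨_, _, h⟩ | ⟨_, h | ⟨_, h⟩⟩
    · have := Nat.cast_injective (R := ℂ) (h.symm.trans hdeg'); omega
    · have := Nat.cast_injective (R := ℂ) (h.symm.trans hdeg'); omega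
    · exact h
    · have := Nat.cast_injective (R := ℂ) (h.symm.trans hdeg'); omega
    · have := Nat.cast_injective (R := ℂ) (h.symm.trans hdeg'); omega
    · have := Nat.cast_injective (R := ℂ) (h.symm.trans hdeg'); omega
  · rintro ⟨α, _, rfl⟩; exact piS_one α

theorem SL2_deg_one_iff (hq : 4 ≤ Fintype.card F)
    (χ : Matrix.SpecialLinearGroup (Fin 2) F → ℂ)
    (hχ : Cfsg.IsIrrCharacter (Matrix.SpecialLinearGroup (Fin 2) F) χ) :
    χ 1 = 1 ↔ χ = fun _ => (1 : ℂ) := by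
  constructor
  · intro hdeg
    have hdeg' : χ 1 = ((1 : ℕ) : ℂ) := by rw [hdeg]; simp
    rcases SL2_types χ hχ with ⟨h, _⟩ | ⟨_, h⟩ | ⟨_, h⟩ | ⟨_, _, h⟩ | ⟨_, h | ⟨hF, h⟩⟩
    · exact h
    · have := Nat.cast_injective (R := ℂ) (h.symm.trans hdeg'); omega
    · have := Nat.cast_injective (R := ℂ) (h.symm.trans hdeg'); omega
    · have := Nat.cast_injective (R := ℂ) (h.symm.trans hdeg'); omega
    · have := Nat.cast_injective (R := ℂ) (h.symm.trans hdeg'); omega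
    · have := Nat.cast_injective (R := ℂ) (h.symm.trans hdeg')
      have hodd : Fintype.card F % 2 = 1 := FiniteField.odd_card_of_char_ne_two hF
      omega
  · rintro rfl; rfl

theorem SL2_deg_q_sub_one_iff (hq : 4 ≤ Fintype.card F)
    (χ : Matrix.SpecialLinearGroup (Fin 2) F → ℂ)
    (hχ : Cfsg.IsIrrCharacter (Matrix.SpecialLinearGroup (Fin 2) F) χ) :
    χ 1 = (Fintype.card F : ℂ) - 1 ↔ (∀ α : MulChar F ℂ, Cfsg.classInner (piS α) χ = 0) ∧
      χ 1 = ((Fintype.card F - 1 : ℕ) : ℂ) := by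
  have hc : ((Fintype.card F - 1 : ℕ) : ℂ) = (Fintype.card F : ℂ) - 1 := by
    rw [Nat.cast_sub Fintype.card_pos, Nat.cast_one]
  constructor
  · intro hdeg
    have hdeg' : χ 1 = ((Fintype.card F - 1 : ℕ) : ℂ) := by rw [hdeg, hc]
    refine ⟨?_, hdeg'⟩
    rcases SL2_types χ hχ with ⟨_, h⟩ | ⟨_, h⟩ | ⟨_, h⟩ | ⟨hF, _, h⟩ | ⟨h, _⟩
    · have := Nat.cast_injective (R := ℂ) (h.symm.trans hdeg'); omega
    · have := Nat.cast_injective (R := ℂ) (h.symm.trans hdeg'); omega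
    · have := Nat.cast_injective (R := ℂ) (h.symm.trans hdeg'); omega
    · have := Nat.cast_injective (R := ℂ) (h.symm.trans hdeg')
      have hodd : Fintype.card F % 2 = 1 := FiniteField.odd_card_of_char_ne_two hF
      omega
    · exact h
  · rintro ⟨_, h⟩; rw [h, hc]

theorem SL2_deg_half_add_iff (hq : 5 ≤ Fintype.card F) (hF : ringChar F ≠ 2)
    (χ : Matrix.SpecialLinearGroup (Fin 2) F → ℂ)
    (hχ : Cfsg.IsIrrCharacter (Matrix.SpecialLinearGroup (Fin 2) F) χ) :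
    χ 1 = (((Fintype.card F + 1) / 2 : ℕ) : ℂ) ↔ Cfsg.classInner (piS (quadS F)) χ ≠ 0 := by
  have hodd : Fintype.card F % 2 = 1 := FiniteField.odd_card_of_char_ne_two hF
  rcases SL2_types χ hχ with ⟨e, h⟩ | ⟨e, h⟩ | ⟨⟨α, hα, e⟩, h⟩ | ⟨_, hne, h⟩ | ⟨hc, h⟩
  · constructor
    · intro hdeg
      have := Nat.cast_injective (R := ℂ) (h.symm.trans hdeg); omega
    · intro hne
      rw [e, classInner_piS_const, if_neg (quadS_ne_one hF)] at hne
      exact absurd rfl hne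
  · constructor
    · intro hdeg
      have := Nat.cast_injective (R := ℂ) (h.symm.trans hdeg); omega
    · intro hne
      rw [e] at hne
      unfold stS at hne
      rw [classInner_sub_right', classInner_piS_piS, classInner_piS_const, inv_one,
        if_neg (quadS_ne_one hF)] at hne
      simp at hne
  · constructor
    · intro hdeg
      have := Nat.cast_injective (R := ℂ) (h.symm.trans hdeg); omega
    · intro hne
      rw [e, classInner_piS_piS] at hne
      have h1 : quadS F ≠ α := by rintro rfl; exact hα quadS_sq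
      have h2 : quadS F ≠ α⁻¹ := by
        intro h2
        apply hα
        have : α = (quadS F)⁻¹ := by rw [h2, inv_inv]
        rw [this, inv_pow, quadS_sq, inv_one]
      rw [if_neg h1, if_neg h2] at hne
      simp at hne
  · exact ⟨fun _ => hne, fun _ => h⟩
  · constructor
    · intro hdeg
      rcases h with h | ⟨_, h⟩
      · have := Nat.cast_injective (R := ℂ) (h.symm.trans hdeg); omega
      · have := Nat.cast_injective (R := ℂ) (h.symm.trans hdeg); omega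
    · intro hne; exact absurd (hc _) hne

theorem SL2_deg_half_sub_iff (hq : 5 ≤ Fintype.card F) (hF : ringChar F ≠ 2)
    (χ : Matrix.SpecialLinearGroup (Fin 2) F → ℂ)
    (hχ : Cfsg.IsIrrCharacter (Matrix.SpecialLinearGroup (Fin 2) F) χ) :
    χ 1 = (((Fintype.card F - 1) / 2 : ℕ) : ℂ) ↔
      (∀ α : MulChar F ℂ, Cfsg.classInner (piS α) χ = 0) ∧
        χ 1 = (((Fintype.card F - 1) / 2 : ℕ) : ℂ) := by
  have hodd : Fintype.card F % 2 = 1 := FiniteField.odd_card_of_char_ne_two hF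
  constructor
  · intro hdeg
    refine ⟨?_, hdeg⟩
    rcases SL2_types χ hχ with ⟨_, h⟩ | ⟨_, h⟩ | ⟨_, h⟩ | ⟨_, _, h⟩ | ⟨h, _⟩
    · have := Nat.cast_injective (R := ℂ) (h.symm.trans hdeg); omega
    · have := Nat.cast_injective (R := ℂ) (h.symm.trans hdeg); omega
    · have := Nat.cast_injective (R := ℂ) (h.symm.trans hdeg); omega
    · have := Nat.cast_injective (R := ℂ) (h.symm.trans hdeg); omega
    · exact h
  · rintro ⟨_, h⟩; exact h

omit [Field F] [Fintype F] [DecidableEq F] in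
theorem card_subtype_eq_one' {α : Type*} (p : α → Prop) (a : α) (ha : p a)
    (h : ∀ b, p b → b = a) : Nat.card {x // p x} = 1 := by
  rw [Nat.card_eq_one_iff_unique]
  exact ⟨⟨fun x y => Subtype.ext ((h x.1 x.2).trans (h y.1 y.2).symm)⟩, ⟨⟨a, ha⟩⟩⟩

end SL2Count

end Cfsg.Agent.Lib.Helper15
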