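import Cfsg.Agent.Lib.Helper15.SylowSL
import Cfsg.Agent.Lib.Helper15.LawEmb
import Cfsg.Agent.Lib.Helper3.SpCount

set_option autoImplicit false

namespace Cfsg.Agent.Lib.Helper15
namespace SylowGL

open Polynomial

/-- `v_r (x ^ t - 1) = v_r (x - 1)` when `r ∣ x - 1` and `r ∤ t`. -/
theorem padicVal_pow_sub_one' {r : ℕ} [hrF : Fact r.Prime] {x t : ℕ} (hx : 2 ≤ x)
    (hrx : r ∣ x - 1) (ht : ¬ r ∣ t) :
    padicValNat r (x ^ t - 1) = padicValNat r (x - 1) := by
  have hr : r.Prime := hrF.out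
  have hS : x ^ t - 1 = (∑ i ∈ Finset.range t, x ^ i) * (x - 1) :=
    (geom_sum_mul_of_one_le (by omega : 1 ≤ x) t).symm
  have hx1 : (x : ZMod r) = 1 := by
    have h1 : ((x - 1 : ℕ) : ZMod r) = 0 := (ZMod.natCast_eq_zero_iff _ _).2 hrx
    rw [Nat.cast_sub (by omega), Nat.cast_one, sub_eq_zero] at h1
    exact h1
  have hSr : ¬ r ∣ ∑ i ∈ Finset.range t, x ^ i := by
    intro h
    have h1 := (ZMod.natCast_eq_zero_iff _ _).2 h
    rw [Nat.cast_sum] at h1
    simp only [Nat.cast_pow, hx1, one_pow, Finset.sum_const, Finset.card_range, nsmul_eq_mul,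
      mul_one] at h1
    exact ht ((ZMod.natCast_eq_zero_iff _ _).1 h1)
  have hS0 : ∑ i ∈ Finset.range t, x ^ i ≠ 0 := by
    intro h
    rw [h] at hSr
    exact hSr (dvd_zero r)
  rw [hS, padicValNat.mul hS0 (by omega), padicValNat.eq_zero_of_not_dvd hSr, zero_add]

/-- The `r`-part of `q ^ j - 1` when the cofactor of the order in `j` is prime to `r`. -/
theorem padicVal_pow_sub_one_eq' {r : ℕ} [hrF : Fact r.Prime] {q : ℕ} (hq : 2 ≤ q)
    (hd : 0 < orderOf (q : ZMod r)) {j : ℕ}
    (hjr : ∀ t, j = orderOf (q : ZMod r) * t → ¬ r ∣ t) :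
    padicValNat r (q ^ j - 1) = if orderOf (q : ZMod r) ∣ j then
      padicValNat r ((cyclotomic (orderOf (q : ZMod r)) ℤ).eval (q : ℤ)).natAbs else 0 := by
  have hr : r.Prime := hrF.out
  set d := orderOf (q : ZMod r) with hdd
  have hiff : ∀ l : ℕ, r ∣ q ^ l - 1 ↔ d ∣ l := by
    intro l
    rw [← ZMod.natCast_eq_zero_iff (q ^ l - 1) r, Nat.cast_sub (Nat.one_le_pow _ _ (by omega)),
      Nat.cast_pow, Nat.cast_one, sub_eq_zero, orderOf_dvd_iff_pow_eq_one]
  by_cases hdj : d ∣ j
  · rw [if_pos hdj]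
    obtain ⟨t, rfl⟩ := hdj
    obtain ⟨R, -, hval⟩ := padicVal_pow_order_sub_one (r := r) hq hd
    rw [← hval, pow_mul]
    have hx : 2 ≤ q ^ d := by
      have : q ^ 1 ≤ q ^ d := Nat.pow_le_pow_right (by omega) hd
      rw [pow_one] at this
      omega
    exact padicVal_pow_sub_one' hx ((hiff d).2 dvd_rfl) (hjr t rfl)
  · rw [if_neg hdj]
    exact padicValNat.eq_zero_of_not_dvd (fun h => hdj ((hiff j).1 h))

/-- The `r`-part of the order of `GL_n(q)` for `n / d < r`. -/
theorem factorization_card_GL' {r : ℕ} [hrF : Fact r.Prime] {q : ℕ} (hq : 2 ≤ q) (hrq : ¬ r ∣ q)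
    (hd : 0 < orderOf (q : ZMod r)) {n : ℕ} (hnr : n / orderOf (q : ZMod r) < r) :
    (∏ i : Fin n, (q ^ n - q ^ (i : ℕ))).factorization r = (n / orderOf (q : ZMod r)) *
      padicValNat r ((cyclotomic (orderOf (q : ZMod r)) ℤ).eval (q : ℤ)).natAbs := by
  have hr : r.Prime := hrF.out
  set d := orderOf (q : ZMod r) with hdd
  set a := padicValNat r ((cyclotomic d ℤ).eval (q : ℤ)).natAbs with ha
  have hfac : ∀ i : Fin n, q ^ n - q ^ (i : ℕ) = q ^ (i : ℕ) * (q ^ (n - (i : ℕ)) - 1) := by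
    intro i
    rw [Nat.mul_sub, mul_one, ← pow_add]
    congr 2
    have := i.2
    omega
  have hne : ∀ i : Fin n, q ^ n - q ^ (i : ℕ) ≠ 0 := by
    intro i
    have : q ^ (i : ℕ) < q ^ n := Nat.pow_lt_pow_right (by omega) i.2
    omega
  rw [Nat.factorization_prod (fun i _ => hne i), Finsupp.finsetSum_apply]
  have hterm : ∀ i : Fin n, (q ^ n - q ^ (i : ℕ)).factorization r =
      if d ∣ n - (i : ℕ) then a else 0 := by
    intro i
    have hi := i.2
    have h1 : q ^ (i : ℕ) ≠ 0 := pow_ne_zero _ (by omega)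
    have h2 : q ^ (n - (i : ℕ)) - 1 ≠ 0 := by
      have : q ^ 1 ≤ q ^ (n - (i : ℕ)) := Nat.pow_le_pow_right (by omega) (by omega)
      rw [pow_one] at this
      omega
    rw [hfac, Nat.factorization_mul h1 h2, Finsupp.add_apply, Nat.factorization_pow,
      Finsupp.smul_apply, Nat.factorization_eq_zero_of_not_dvd hrq, smul_zero, zero_add,
      Nat.factorization_def _ hr]
    refine padicVal_pow_sub_one_eq' hq hd ?_
    intro t ht hrt
    have ht0 : 0 < t := by
      rcases Nat.eq_zero_or_pos t with h | h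
      · rw [h, mul_zero] at ht
        omega
      · exact h
    have h3 : t ≤ n / d := by
      rw [Nat.le_div_iff_mul_le hd]
      have : t * d = n - (i : ℕ) := by rw [ht, mul_comm]
      omega
    have := Nat.le_of_dvd ht0 hrt
    omega
  rw [Finset.sum_congr rfl (fun i _ => hterm i)]
  rw [Fin.sum_univ_eq_sum_range (fun i => if d ∣ n - i then a else 0) n]
  have hrefl := Finset.sum_range_reflect (fun j => if d ∣ j + 1 then a else 0) n
  have hcongr : ∀ i ∈ Finset.range n, (if d ∣ n - i then a else 0) =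
      (fun j => if d ∣ j + 1 then a else 0) (n - 1 - i) := by
    intro i hi
    have := Finset.mem_range.1 hi
    have e : n - 1 - i + 1 = n - i := by omega
    simp only [e]
  rw [Finset.sum_congr rfl hcongr, hrefl, ← Finset.sum_filter, Finset.sum_const,
    Nat.card_multiples, smul_eq_mul]

/-- Sylow `r`-subgroups of `GL_n(q)` when `n / d < r`, `r ∤ q`. -/
theorem sylow_gl' {F : Type*} [Field F] [Fintype F] (n r : ℕ) [hrF : Fact r.Prime]
    (hrq : ¬ r ∣ Fintype.card F)
    (hrn : n / orderOf ((Fintype.card F : ℕ) : ZMod r) < r) (P : Sylow r (GL (Fin n) F)) :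
    Nonempty (↥(P : Subgroup (GL (Fin n) F)) ≃*
      (Fin (n / orderOf ((Fintype.card F : ℕ) : ZMod r)) →
        Multiplicative (ZMod (r ^ padicValNat r ((Polynomial.cyclotomic
          (orderOf ((Fintype.card F : ℕ) : ZMod r)) ℤ).eval ((Fintype.card F : ℕ) : ℤ)).natAbs)))) := by
  classical
  have hq2 : 2 ≤ Fintype.card F := Fintype.one_lt_card
  have hd := orderOf_pos_zmod (r := r) hrq
  obtain ⟨R, hfac, -⟩ := padicVal_pow_order_sub_one (r := r) hq2 hd
  have hfG := factorization_card_GL' (r := r) hq2 hrq hd hrn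
  set d := orderOf ((Fintype.card F : ℕ) : ZMod r) with hdd
  set a := padicValNat r ((Polynomial.cyclotomic d ℤ).eval ((Fintype.card F : ℕ) : ℤ)).natAbs
    with ha
  have hN : r ^ a ∣ Fintype.card F ^ d - 1 :=
    (pow_padicValNat_dvd).trans (Dvd.intro _ hfac.symm)
  obtain ⟨Ψ, hΨ⟩ := exists_embedding (F := F) n d (n / d) hd (Nat.div_mul_le_self n d) (r ^ a) hN
  have hN0 : r ^ a ≠ 0 := (pow_pos hrF.out.pos a).ne'
  refine sylow_of_embedding r (n / d) (r ^ a) hN0 Ψ hΨ ?_ P
  rw [Matrix.card_GL_field, hfG, ← pow_mul, mul_comm]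

/-- The order of the symplectic group. -/
theorem card_sp_formula {F : Type*} [Field F] [Fintype F] (m : ℕ) :
    Nat.card (Matrix.symplecticGroup (Fin m) F) = Fintype.card F ^ (m ^ 2) *
      ∏ i ∈ Finset.range m, (Fintype.card F ^ (2 * (i + 1)) - 1) := by
  induction m with
  | zero =>
    rw [Cfsg.Agent.Lib.Helper3.card_sp_zero]
    simp
  | succ m ih =>
    rw [Cfsg.Agent.Lib.Helper3.card_sp_succ, ih, Finset.prod_range_succ]
    have h1 : (m + 1) ^ 2 = m ^ 2 + (2 * (m + 1) - 1) := by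
      have : 2 * (m + 1) - 1 = 2 * m + 1 := by omega
      rw [this]
      ring
    rw [h1, pow_add]
    ring

/-- The `r`-part of the order of `Sp_{2n}(q)` for `r` odd, `n < r`. -/
theorem factorization_card_Sp {F : Type*} [Field F] [Fintype F] {r : ℕ} [hrF : Fact r.Prime]
    (hr2 : r ≠ 2) (hrq : ¬ r ∣ Fintype.card F) {n : ℕ} (hnr : n < r) :
    (Nat.card (Matrix.symplecticGroup (Fin n) F)).factorization r =
      ((Finset.Icc 1 n).filter
        (fun i => orderOf ((Fintype.card F : ℕ) : ZMod r) ∣ 2 * i)).card *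
      padicValNat r ((cyclotomic (orderOf ((Fintype.card F : ℕ) : ZMod r)) ℤ).eval
        ((Fintype.card F : ℕ) : ℤ)).natAbs := by
  classical
  have hr : r.Prime := hrF.out
  have hq : 2 ≤ Fintype.card F := Fintype.one_lt_card
  have hd := orderOf_pos_zmod (r := r) hrq
  set q := Fintype.card F with hqq
  set d := orderOf ((q : ℕ) : ZMod r) with hdd
  set a := padicValNat r ((cyclotomic d ℤ).eval (q : ℤ)).natAbs with ha
  have hne : ∀ i : ℕ, q ^ (2 * (i + 1)) - 1 ≠ 0 := by
    intro i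
    have : q ^ 1 ≤ q ^ (2 * (i + 1)) := Nat.pow_le_pow_right (by omega) (by omega)
    rw [pow_one] at this
    omega
  have hprod0 : ∏ i ∈ Finset.range n, (q ^ (2 * (i + 1)) - 1) ≠ 0 :=
    Finset.prod_ne_zero_iff.2 (fun i _ => hne i)
  rw [card_sp_formula, Nat.factorization_mul (pow_ne_zero _ (by omega)) hprod0,
    Finsupp.add_apply, Nat.factorization_pow, Finsupp.smul_apply,
    Nat.factorization_eq_zero_of_not_dvd hrq, smul_zero, zero_add,
    Nat.factorization_prod (fun i _ => hne i), Finsupp.finsetSum_apply]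
  have hterm : ∀ i ∈ Finset.range n, (q ^ (2 * (i + 1)) - 1).factorization r =
      if d ∣ 2 * (i + 1) then a else 0 := by
    intro i hi
    have hi' := Finset.mem_range.1 hi
    rw [Nat.factorization_def _ hr]
    refine padicVal_pow_sub_one_eq' hq hd ?_
    intro t ht hrt
    have h1 : r ∣ 2 * (i + 1) := by
      rw [ht]
      exact Dvd.dvd.mul_left hrt d
    rcases (Nat.Prime.dvd_mul hr).1 h1 with h | h
    · have := Nat.le_of_dvd (by omega) h
      have := hr.two_le
      omega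
    · have := Nat.le_of_dvd (by omega) h
      omega
  rw [Finset.sum_congr rfl hterm, ← Finset.sum_filter, Finset.sum_const, smul_eq_mul]
  congr 1
  refine Finset.card_nbij' (fun i => i + 1) (fun i => i - 1) ?_ ?_ ?_ ?_
  · intro i hi
    simp only [Finset.coe_filter, Set.mem_ofPred_eq, Finset.mem_range, Finset.mem_Icc] at hi ⊢
    exact ⟨⟨by omega, by omega⟩, hi.2⟩
  · intro i hi
    simp only [Finset.coe_filter, Set.mem_ofPred_eq, Finset.mem_range, Finset.mem_Icc] at hi ⊢
    obtain ⟨⟨h1, h2⟩, h3⟩ := hi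
    refine ⟨by omega, ?_⟩
    rwa [Nat.sub_add_cancel h1]
  · intro i hi
    simp
  · intro i hi
    simp only [Finset.coe_filter, Set.mem_ofPred_eq, Finset.mem_Icc] at hi
    show i - 1 + 1 = i
    omega

/-- The symplectic group as a subgroup of `GL_{n+n}`. -/
theorem exists_sp_to_gl (F : Type*) [Field F] (n : ℕ) :
    ∃ φ : ↥(Matrix.symplecticGroup (Fin n) F) →* GL (Fin (n + n)) F, Function.Injective φ := by
  classical
  let φ₀ : ↥(Matrix.symplecticGroup (Fin n) F) →* GL (Fin n ⊕ Fin n) F :=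
    (Matrix.symplecticGroup (Fin n) F).subtype.toHomUnits
  have hφ₀ : Function.Injective φ₀ := by
    intro A B h
    apply Subtype.ext
    exact congrArg Units.val h
  let ε : GL (Fin n ⊕ Fin n) F ≃* GL (Fin (n + n)) F :=
    Units.mapEquiv (Matrix.reindexAlgEquiv F F finSumFinEquiv).toMulEquiv
  exact ⟨ε.toMonoidHom.comp φ₀, ε.injective.comp hφ₀⟩

/-- Sylow `r`-subgroups of `Sp_{2n}(q)` for `r` odd, `r > n`, `r ∤ q`. -/
theorem sylow_sp {F : Type*} [Field F] [Fintype F] (n r : ℕ) [hrF : Fact r.Prime]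
    (hr2 : r ≠ 2) (hrn : n < r) (hrq : ¬ r ∣ Fintype.card F)
    (P : Sylow r ↥(Matrix.symplecticGroup (Fin n) F)) :
    Nonempty (↥(P : Subgroup ↥(Matrix.symplecticGroup (Fin n) F)) ≃*
      (Fin ((Finset.Icc 1 n).filter
          (fun i => orderOf ((Fintype.card F : ℕ) : ZMod r) ∣ 2 * i)).card →
        Multiplicative (ZMod (r ^ padicValNat r ((Polynomial.cyclotomic
          (orderOf ((Fintype.card F : ℕ) : ZMod r)) ℤ).eval ((Fintype.card F : ℕ) : ℤ)).natAbs)))) := by
  classical
  have hr : r.Prime := hrF.out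
  have hq2 : 2 ≤ Fintype.card F := Fintype.one_lt_card
  have hd := orderOf_pos_zmod (r := r) hrq
  obtain ⟨R, hfac, -⟩ := padicVal_pow_order_sub_one (r := r) hq2 hd
  have hfS := factorization_card_Sp (F := F) hr2 hrq hrn
  have hGL := fun (hlt : (n + n) / orderOf ((Fintype.card F : ℕ) : ZMod r) < r) =>
    factorization_card_GL' (r := r) (n := n + n) hq2 hrq hd hlt
  have hsG := fun (hlt : (n + n) / orderOf ((Fintype.card F : ℕ) : ZMod r) < r) =>
    sylow_gl' (F := F) (n + n) r hrq hlt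
  set d := orderOf ((Fintype.card F : ℕ) : ZMod r) with hdd
  set a := padicValNat r ((Polynomial.cyclotomic d ℤ).eval ((Fintype.card F : ℕ) : ℤ)).natAbs
    with ha
  have hN : r ^ a ∣ Fintype.card F ^ d - 1 :=
    (pow_padicValNat_dvd).trans (Dvd.intro _ hfac.symm)
  have hN0 : r ^ a ≠ 0 := (pow_pos hr.pos a).ne'
  have hmult : ∀ e : ℕ, ((Finset.Icc 1 n).filter (fun i => e ∣ i)).card = n / e := by
    intro e
    rw [← Nat.card_multiples' n e]
    congr 1
    ext i
    simp only [Finset.mem_filter, Finset.mem_Icc, Finset.mem_range, Nat.succ_eq_add_one]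
    constructor
    · rintro ⟨⟨h1, h2⟩, h3⟩
      exact ⟨by omega, by omega, h3⟩
    · rintro ⟨h1, h2, h3⟩
      exact ⟨⟨by omega, by omega⟩, h3⟩
  rcases Nat.even_or_odd d with hev | hodd
  · obtain ⟨e, he⟩ := hev
    have he0 : 0 < e := by omega
    have hc : ((Finset.Icc 1 n).filter (fun i => d ∣ 2 * i)).card = (n + n) / d := by
      have h1 : (n + n) / d = n / e := by
        rw [he, ← two_mul, ← two_mul, Nat.mul_div_mul_left _ _ (by omega : 0 < 2)]
      rw [h1, ← hmult e]
      congr 1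
      ext i
      simp only [Finset.mem_filter, Finset.mem_Icc]
      rw [he, ← two_mul, Nat.mul_dvd_mul_iff_left (by omega : 0 < 2)]
    rw [hc] at hfS ⊢
    have hlt : (n + n) / d < r := by
      have h1 : (n + n) / d ≤ n := by
        rw [he, ← two_mul, ← two_mul, Nat.mul_div_mul_left _ _ (by omega : 0 < 2)]
        exact Nat.div_le_self n e
      omega
    obtain ⟨φ, hφ⟩ := exists_sp_to_gl F n
    have hcardP : Nat.card ((P : Subgroup ↥(Matrix.symplecticGroup (Fin n) F)).map φ) =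
        r ^ (Nat.card (GL (Fin (n + n)) F)).factorization r := by
      rw [Subgroup.card_map_of_injective hφ, Sylow.card_eq_multiplicity, hfS,
        Matrix.card_GL_field, hGL hlt]
    obtain ⟨e1⟩ := hsG hlt (Sylow.ofCard _ hcardP)
    exact ⟨((P : Subgroup ↥(Matrix.symplecticGroup (Fin n) F)).equivMapOfInjective φ hφ).trans
      ((MulEquiv.subgroupCongr (Sylow.coe_ofCard _ hcardP).symm).trans e1)⟩
  · have hcop : Nat.Coprime d 2 := Nat.Coprime.symm (Nat.coprime_two_left.2 hodd)
    have hc : ((Finset.Icc 1 n).filter (fun i => d ∣ 2 * i)).card = n / d := by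
      rw [← hmult d]
      congr 1
      ext i
      simp only [Finset.mem_filter, Finset.mem_Icc]
      rw [Nat.Coprime.dvd_mul_left hcop]
    rw [hc] at hfS ⊢
    obtain ⟨Ψ, hΨ⟩ := exists_embedding (F := F) n d (n / d) hd (Nat.div_mul_le_self n d) (r ^ a) hN
    refine sylow_of_embedding r (n / d) (r ^ a) hN0 ((hypSp F n).comp Ψ)
      ((hypSp_injective (F := F) n).comp hΨ) ?_ P
    rw [hfS, ← pow_mul, mul_comm]

end SylowGL
end Cfsg.Agent.Lib.Helper15
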