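import Mathlib
import Cfsg.Agent.Lib.Helper15.SylowSp
import Cfsg.Agent.Lib.Helper15.Rank2Sp

set_option autoImplicit false

namespace Cfsg.Agent.Lib.Helper15.SpW

open Matrix

open scoped Pointwise

noncomputable section

/-- The rank one symplectic group. -/
abbrev Sp2 (F : Type*) [Field F] := ↥(symplecticGroup (Fin 1) F)

variable {F : Type*} [Field F]

theorem mul_apply2 (M N : Matrix (Fin 1 ⊕ Fin 1) (Fin 1 ⊕ Fin 1) F)
    (x y : Fin 1 ⊕ Fin 1) :
    (M * N) x y = M x (Sum.inl 0) * N (Sum.inl 0) y + M x (Sum.inr 0) * N (Sum.inr 0) y := by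
  rw [Matrix.mul_apply, Fintype.sum_sum_type, Fin.sum_univ_one, Fin.sum_univ_one]

theorem J11 : (J (Fin 1) F) (Sum.inl 0) (Sum.inl 0) = 0 := by simp [Matrix.J]

theorem J12 : (J (Fin 1) F) (Sum.inl 0) (Sum.inr 0) = -1 := by simp [Matrix.J]

theorem J21 : (J (Fin 1) F) (Sum.inr 0) (Sum.inl 0) = 1 := by simp [Matrix.J]

theorem J22 : (J (Fin 1) F) (Sum.inr 0) (Sum.inr 0) = 0 := by simp [Matrix.J]

/-- Upper left entry. -/
def ea (g : Sp2 F) : F := g.1 (Sum.inl 0) (Sum.inl 0)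

/-- Upper right entry. -/
def eb (g : Sp2 F) : F := g.1 (Sum.inl 0) (Sum.inr 0)

/-- Lower left entry. -/
def ec (g : Sp2 F) : F := g.1 (Sum.inr 0) (Sum.inl 0)

/-- Lower right entry. -/
def ed (g : Sp2 F) : F := g.1 (Sum.inr 0) (Sum.inr 0)

theorem det2 (g : Sp2 F) : ea g * ed g - eb g * ec g = 1 := by
  have h := SymplecticGroup.mem_iff'.mp g.2
  have h1 := congrFun (congrFun h (Sum.inr 0)) (Sum.inl 0)
  simp only [mul_apply2, Matrix.transpose_apply, J11, J12, J21, J22] at h1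
  unfold ea eb ec ed
  linear_combination h1

theorem ea_mul (g h : Sp2 F) : ea (g * h) = ea g * ea h + eb g * ec h :=
  mul_apply2 g.1 h.1 _ _

theorem eb_mul (g h : Sp2 F) : eb (g * h) = ea g * eb h + eb g * ed h :=
  mul_apply2 g.1 h.1 _ _

theorem ec_mul (g h : Sp2 F) : ec (g * h) = ec g * ea h + ed g * ec h :=
  mul_apply2 g.1 h.1 _ _

theorem ed_mul (g h : Sp2 F) : ed (g * h) = ec g * eb h + ed g * ed h :=
  mul_apply2 g.1 h.1 _ _

theorem sp2_ext (g h : Sp2 F) (h1 : ea g = ea h) (h2 : eb g = eb h) (h3 : ec g = ec h)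
    (h4 : ed g = ed h) : g = h := by
  apply Subtype.ext
  ext i j
  rcases i with i | i <;> rcases j with j | j
  · have hi : i = 0 := Subsingleton.elim _ _
    have hj : j = 0 := Subsingleton.elim _ _
    subst hi; subst hj; exact h1
  · have hi : i = 0 := Subsingleton.elim _ _
    have hj : j = 0 := Subsingleton.elim _ _
    subst hi; subst hj; exact h2
  · have hi : i = 0 := Subsingleton.elim _ _
    have hj : j = 0 := Subsingleton.elim _ _
    subst hi; subst hj; exact h3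
  · have hi : i = 0 := Subsingleton.elim _ _
    have hj : j = 0 := Subsingleton.elim _ _
    subst hi; subst hj; exact h4

/-- Block matrix with diagonal blocks. -/
def blockD {n : ℕ} (a b c d : Fin n → F) : Matrix (Fin n ⊕ Fin n) (Fin n ⊕ Fin n) F :=
  Matrix.fromBlocks (Matrix.diagonal a) (Matrix.diagonal b) (Matrix.diagonal c)
    (Matrix.diagonal d)

theorem blockD_ext {n : ℕ} {a b c d a' b' c' d' : Fin n → F} (h1 : ∀ i, a i = a' i)
    (h2 : ∀ i, b i = b' i) (h3 : ∀ i, c i = c' i) (h4 : ∀ i, d i = d' i) :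
    blockD a b c d = blockD a' b' c' d' := by
  rw [funext h1, funext h2, funext h3, funext h4]

theorem blockD_mul {n : ℕ} (a b c d a' b' c' d' : Fin n → F) :
    blockD a b c d * blockD a' b' c' d' =
      blockD (fun i => a i * a' i + b i * c' i) (fun i => a i * b' i + b i * d' i)
        (fun i => c i * a' i + d i * c' i) (fun i => c i * b' i + d i * d' i) := by
  unfold blockD
  rw [Matrix.fromBlocks_multiply]
  simp only [Matrix.diagonal_mul_diagonal, Matrix.diagonal_add]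

theorem blockD_transpose {n : ℕ} (a b c d : Fin n → F) :
    (blockD a b c d)ᵀ = blockD a c b d := by
  unfold blockD
  rw [Matrix.fromBlocks_transpose]
  simp only [Matrix.diagonal_transpose]

theorem J_blockD (n : ℕ) :
    J (Fin n) F = blockD (fun _ => 0) (fun _ => -1) (fun _ => 1) (fun _ => 0) := by
  ext (i | i) (j | j) <;>
    simp only [blockD, Matrix.J, Matrix.fromBlocks_apply₁₁, Matrix.fromBlocks_apply₁₂,
      Matrix.fromBlocks_apply₂₁, Matrix.fromBlocks_apply₂₂, Matrix.diagonal_apply,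
      Matrix.zero_apply, Matrix.neg_apply, Matrix.one_apply] <;>
    split_ifs <;> simp

theorem blockD_mem {n : ℕ} (a b c d : Fin n → F) (h : ∀ i, a i * d i - b i * c i = 1) :
    blockD a b c d ∈ symplecticGroup (Fin n) F := by
  rw [SymplecticGroup.mem_iff', blockD_transpose, J_blockD, blockD_mul, blockD_mul]
  apply blockD_ext
  · intro i; ring
  · intro i; linear_combination -(h i)
  · intro i; linear_combination h i
  · intro i; ring

/-- Entrywise block embedding of tuples. -/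
def iotaFun {n : ℕ} (g : Fin n → Sp2 F) : Matrix (Fin n ⊕ Fin n) (Fin n ⊕ Fin n) F :=
  blockD (fun i => ea (g i)) (fun i => eb (g i)) (fun i => ec (g i)) (fun i => ed (g i))

theorem iotaFun_mem {n : ℕ} (g : Fin n → Sp2 F) : iotaFun g ∈ symplecticGroup (Fin n) F :=
  blockD_mem _ _ _ _ (fun i => det2 (g i))

theorem iotaFun_mul {n : ℕ} (g h : Fin n → Sp2 F) :
    iotaFun (g * h) = iotaFun g * iotaFun h := by
  unfold iotaFun
  rw [blockD_mul]
  apply blockD_ext
  · intro i; exact ea_mul (g i) (h i)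
  · intro i; exact eb_mul (g i) (h i)
  · intro i; exact ec_mul (g i) (h i)
  · intro i; exact ed_mul (g i) (h i)

/-- The block embedding as a homomorphism. -/
def iota (F : Type*) [Field F] (n : ℕ) :
    (Fin n → Sp2 F) →* ↥(symplecticGroup (Fin n) F) :=
  MonoidHom.mk' (fun g => ⟨iotaFun g, iotaFun_mem g⟩)
    (fun g h => Subtype.ext (iotaFun_mul g h))

theorem iota_injective (F : Type*) [Field F] (n : ℕ) : Function.Injective (iota F n) := by
  intro g h hgh
  have h1 : iotaFun g = iotaFun h := congrArg Subtype.val hgh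
  unfold iotaFun blockD at h1
  rw [Matrix.fromBlocks_inj] at h1
  obtain ⟨ha, hb, hc, hd⟩ := h1
  funext i
  exact sp2_ext _ _ (congrFun (Matrix.diagonal_injective ha) i)
    (congrFun (Matrix.diagonal_injective hb) i) (congrFun (Matrix.diagonal_injective hc) i)
    (congrFun (Matrix.diagonal_injective hd) i)

/-- Permutation matrix, homomorphic convention. -/
def Qm (F : Type*) [Field F] {n : ℕ} (σ : Equiv.Perm (Fin n)) : Matrix (Fin n) (Fin n) F :=
  (σ⁻¹).permMatrix F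

theorem Qm_mul {n : ℕ} (σ τ : Equiv.Perm (Fin n)) : Qm F (σ * τ) = Qm F σ * Qm F τ := by
  unfold Qm
  rw [_root_.mul_inv_rev, Matrix.permMatrix_mul]

theorem Qm_T_mul {n : ℕ} (σ : Equiv.Perm (Fin n)) : (Qm F σ)ᵀ * Qm F σ = 1 := by
  unfold Qm
  rw [Matrix.transpose_permMatrix, ← Matrix.permMatrix_mul, mul_inv_cancel,
    Matrix.permMatrix_one]

theorem Qm_apply {n : ℕ} (σ : Equiv.Perm (Fin n)) (i j : Fin n) :
    Qm F σ i j = if σ⁻¹ i = j then 1 else 0 := by
  unfold Qm Equiv.Perm.permMatrix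
  rw [PEquiv.toMatrix_toPEquiv_eq, Matrix.submatrix_apply]
  exact Matrix.one_apply

theorem Qm_diag {n : ℕ} (σ : Equiv.Perm (Fin n)) (a : Fin n → F) :
    Qm F σ * Matrix.diagonal a = Matrix.diagonal (fun i => a (σ⁻¹ i)) * Qm F σ := by
  ext i j
  rw [Matrix.mul_diagonal, Matrix.diagonal_mul, Qm_apply]
  by_cases h : σ⁻¹ i = j
  · subst h; simp
  · rw [if_neg h]; simp

/-- Block permutation matrix. -/
def piFun (F : Type*) [Field F] {n : ℕ} (σ : Equiv.Perm (Fin n)) :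
    Matrix (Fin n ⊕ Fin n) (Fin n ⊕ Fin n) F :=
  Matrix.fromBlocks (Qm F σ) 0 0 (Qm F σ)

theorem piFun_mul {n : ℕ} (σ τ : Equiv.Perm (Fin n)) :
    piFun F (σ * τ) = piFun F σ * piFun F τ := by
  unfold piFun
  rw [Matrix.fromBlocks_multiply, Qm_mul]
  simp

theorem piFun_mem {n : ℕ} (σ : Equiv.Perm (Fin n)) :
    piFun F σ ∈ symplecticGroup (Fin n) F := by
  rw [SymplecticGroup.mem_iff']
  simp [piFun, Matrix.J, Matrix.fromBlocks_transpose, Matrix.fromBlocks_multiply, Qm_T_mul]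

/-- Block permutation matrices as a homomorphism. -/
def piHom (F : Type*) [Field F] (n : ℕ) :
    Equiv.Perm (Fin n) →* ↥(symplecticGroup (Fin n) F) :=
  MonoidHom.mk' (fun σ => ⟨piFun F σ, piFun_mem σ⟩)
    (fun σ τ => Subtype.ext (piFun_mul σ τ))

theorem star_mat {n : ℕ} (σ : Equiv.Perm (Fin n)) (g : Fin n → Sp2 F) :
    piFun F σ * iotaFun g = iotaFun (fun i => g (σ⁻¹ i)) * piFun F σ := by
  unfold piFun iotaFun blockD
  rw [Matrix.fromBlocks_multiply, Matrix.fromBlocks_multiply]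
  simp only [Matrix.zero_mul, Matrix.mul_zero, add_zero, zero_add, Qm_diag]

theorem star {n : ℕ} (σ : Equiv.Perm (Fin n)) (g : Fin n → Sp2 F) :
    piHom F n σ * iota F n g = iota F n (fun i => g (σ⁻¹ i)) * piHom F n σ :=
  Subtype.ext (star_mat σ g)

/-- The monomial subgroup. -/
def W (F : Type*) [Field F] (n : ℕ) : Subgroup ↥(symplecticGroup (Fin n) F) where
  carrier := {x | ∃ (g : Fin n → Sp2 F) (σ : Equiv.Perm (Fin n)),
    x = iota F n g * piHom F n σ}
  mul_mem' := by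
    rintro x y ⟨g, σ, rfl⟩ ⟨h, τ, rfl⟩
    refine ⟨g * (fun i => h (σ⁻¹ i)), σ * τ, ?_⟩
    calc iota F n g * piHom F n σ * (iota F n h * piHom F n τ)
        = iota F n g * (piHom F n σ * iota F n h) * piHom F n τ := by
          simp only [mul_assoc]
      _ = iota F n g * (iota F n (fun i => h (σ⁻¹ i)) * piHom F n σ) * piHom F n τ := by
          rw [star]
      _ = (iota F n g * iota F n (fun i => h (σ⁻¹ i))) * (piHom F n σ * piHom F n τ) := by
          simp only [mul_assoc]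
      _ = iota F n (g * (fun i => h (σ⁻¹ i))) * piHom F n (σ * τ) := by
          rw [map_mul, map_mul]
  one_mem' := ⟨1, 1, by rw [map_one, map_one, mul_one]⟩
  inv_mem' := by
    rintro x ⟨g, σ, rfl⟩
    refine ⟨fun i => g⁻¹ ((σ⁻¹)⁻¹ i), σ⁻¹, ?_⟩
    rw [_root_.mul_inv_rev, ← map_inv, ← map_inv]
    exact star σ⁻¹ g⁻¹

theorem mem_W {n : ℕ} (x : ↥(symplecticGroup (Fin n) F)) :
    x ∈ W F n ↔ ∃ (g : Fin n → Sp2 F) (σ : Equiv.Perm (Fin n)),
      x = iota F n g * piHom F n σ := Iff.rfl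

theorem key_one {n : ℕ} (h : Fin n → Sp2 F) (τ : Equiv.Perm (Fin n))
    (hh : iota F n h = piHom F n τ) : τ = 1 := by
  have h1 : iotaFun h = piFun F τ := congrArg Subtype.val hh
  unfold iotaFun blockD piFun at h1
  rw [Matrix.fromBlocks_inj] at h1
  have h2 := h1.1
  have h3 : ∀ i, τ⁻¹ i = i := by
    intro i
    by_contra hne
    have h4 := congrFun (congrFun h2 i) (τ⁻¹ i)
    rw [Qm_apply, if_pos rfl, Matrix.diagonal_apply_ne _ (fun h5 => hne h5.symm)] at h4
    exact zero_ne_one h4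
  have h6 : τ⁻¹ = 1 := Equiv.ext h3
  exact inv_eq_one.mp h6

theorem psi_injective (F : Type*) [Field F] (n : ℕ) :
    Function.Injective (fun p : (Fin n → Sp2 F) × Equiv.Perm (Fin n) =>
      iota F n p.1 * piHom F n p.2) := by
  rintro ⟨g, σ⟩ ⟨g', σ'⟩ hp
  have hp' : iota F n g * piHom F n σ = iota F n g' * piHom F n σ' := hp
  have h1 : iota F n (g'⁻¹ * g) = piHom F n (σ' * σ⁻¹) := by
    rw [map_mul, map_mul, map_inv, map_inv, inv_mul_eq_iff_eq_mul, ← mul_assoc,
      eq_mul_inv_iff_mul_eq]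
    exact hp'
  have h2 := key_one _ _ h1
  have h3 : σ' = σ := mul_inv_eq_one.mp h2
  subst h3
  have h4 : iota F n g = iota F n g' := mul_right_cancel hp'
  rw [iota_injective F n h4]

theorem card_Sp2 (F : Type*) [Field F] [Fintype F] :
    Nat.card (Sp2 F) = Fintype.card F * (Fintype.card F ^ 2 - 1) := by
  have h := SylowGL.card_sp_formula (F := F) 1
  rw [Finset.prod_range_one, one_pow, pow_one, zero_add, mul_one] at h
  exact h

theorem card_W (F : Type*) [Field F] [Fintype F] (n : ℕ) :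
    Nat.card (W F n) = (Fintype.card F * (Fintype.card F ^ 2 - 1)) ^ n * n.factorial := by
  have hbij : Function.Bijective (fun p : (Fin n → Sp2 F) × Equiv.Perm (Fin n) =>
      (⟨iota F n p.1 * piHom F n p.2, (mem_W _).mpr ⟨p.1, p.2, rfl⟩⟩ : ↥(W F n))) := by
    constructor
    · intro p p' hpp
      exact psi_injective F n (congrArg Subtype.val hpp)
    · rintro ⟨x, hx⟩
      obtain ⟨g, σ, rfl⟩ := (mem_W x).mp hx
      exact ⟨(g, σ), rfl⟩
  rw [← Nat.card_eq_of_bijective _ hbij, Nat.card_prod, Nat.card_fun, Nat.card_fin,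
    Nat.card_perm, Nat.card_fin, card_Sp2]

theorem neg_one_ne_one_units : (-1 : ℤˣ) ≠ 1 := by decide

/-- The central involution of the rank one group. -/
def negOne (F : Type*) [Field F] : Sp2 F := ⟨-1, SymplecticGroup.neg_mem (one_mem _)⟩

theorem negOne_sq : negOne F * negOne F = 1 := by
  apply Subtype.ext
  show (-1 : Matrix (Fin 1 ⊕ Fin 1) (Fin 1 ⊕ Fin 1) F) * (-1) = 1
  simp

theorem negOne_comm (g : Sp2 F) : negOne F * g = g * negOne F := by
  apply Subtype.ext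
  show (-1 : Matrix (Fin 1 ⊕ Fin 1) (Fin 1 ⊕ Fin 1) F) * g.1 = g.1 * (-1)
  simp

theorem negOne_ne (h2 : (2 : F) ≠ 0) : negOne F ≠ 1 := by
  intro h
  have h1 : (-1 : Matrix (Fin 1 ⊕ Fin 1) (Fin 1 ⊕ Fin 1) F) (Sum.inl 0) (Sum.inl 0)
      = (1 : Matrix (Fin 1 ⊕ Fin 1) (Fin 1 ⊕ Fin 1) F) (Sum.inl 0) (Sum.inl 0) :=
    congrFun (congrFun (congrArg Subtype.val h) (Sum.inl 0)) (Sum.inl 0)
  rw [Matrix.neg_apply, Matrix.one_apply_eq] at h1
  apply h2
  linear_combination -h1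

/-- The sign function. -/
def sgnFun (F : Type*) [Field F] (u : ℤˣ) : Sp2 F := if u = 1 then 1 else negOne F

theorem sgnFun_one : sgnFun F 1 = 1 := if_pos rfl

theorem sgnFun_neg : sgnFun F (-1) = negOne F := if_neg neg_one_ne_one_units

theorem sgnFun_mul (a b : ℤˣ) : sgnFun F (a * b) = sgnFun F a * sgnFun F b := by
  rcases Int.units_eq_one_or a with rfl | rfl <;> rcases Int.units_eq_one_or b with rfl | rfl
  · rw [mul_one, sgnFun_one, mul_one]
  · rw [one_mul, sgnFun_one, one_mul]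
  · rw [mul_one, sgnFun_one, mul_one]
  · rw [neg_mul_neg, mul_one, sgnFun_one, sgnFun_neg, negOne_sq]

/-- The sign embedding. -/
def sgn (F : Type*) [Field F] : ℤˣ →* Sp2 F := MonoidHom.mk' (sgnFun F) sgnFun_mul

theorem sgn_apply (u : ℤˣ) : sgn F u = sgnFun F u := rfl

theorem sgn_comm (u : ℤˣ) (g : Sp2 F) : sgn F u * g = g * sgn F u := by
  rw [sgn_apply]
  rcases Int.units_eq_one_or u with rfl | rfl
  · rw [sgnFun_one, one_mul, mul_one]
  · rw [sgnFun_neg]; exact negOne_comm g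

theorem sgn_injective (h2 : (2 : F) ≠ 0) : Function.Injective (sgn F) := by
  intro a b hab
  rw [sgn_apply, sgn_apply] at hab
  rcases Int.units_eq_one_or a with rfl | rfl <;> rcases Int.units_eq_one_or b with rfl | rfl
  · rfl
  · rw [sgnFun_one, sgnFun_neg] at hab; exact absurd hab.symm (negOne_ne h2)
  · rw [sgnFun_one, sgnFun_neg] at hab; exact absurd hab (negOne_ne h2)
  · rfl

/-- The diagonal sign embedding. -/
def zeta (F : Type*) [Field F] (n : ℕ) : (Fin n → ℤˣ) →* ↥(symplecticGroup (Fin n) F) :=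
  (iota F n).comp ((sgn F).compLeft (Fin n))

theorem zeta_apply {n : ℕ} (s : Fin n → ℤˣ) :
    zeta F n s = iota F n (fun i => sgn F (s i)) := rfl

/-- The diagonal sign group. -/
def D (F : Type*) [Field F] (n : ℕ) : Subgroup ↥(symplecticGroup (Fin n) F) := (zeta F n).range

theorem zeta_mem_D {n : ℕ} (s : Fin n → ℤˣ) : zeta F n s ∈ D F n :=
  MonoidHom.mem_range.mpr ⟨s, rfl⟩

theorem mem_D {n : ℕ} {x : ↥(symplecticGroup (Fin n) F)} (hx : x ∈ D F n) :
    ∃ s, zeta F n s = x := MonoidHom.mem_range.mp hx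

theorem conj_zeta {n : ℕ} (g : Fin n → Sp2 F) (σ : Equiv.Perm (Fin n)) (s : Fin n → ℤˣ) :
    iota F n g * piHom F n σ * zeta F n s =
      zeta F n (fun i => s (σ⁻¹ i)) * (iota F n g * piHom F n σ) := by
  have h1 : piHom F n σ * zeta F n s = zeta F n (fun i => s (σ⁻¹ i)) * piHom F n σ :=
    star σ (fun i => sgn F (s i))
  have h2 : iota F n g * zeta F n (fun i => s (σ⁻¹ i)) =
      zeta F n (fun i => s (σ⁻¹ i)) * iota F n g := by
    rw [zeta_apply, ← map_mul, ← map_mul]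
    congr 1
    funext i
    exact (sgn_comm _ _).symm
  calc iota F n g * piHom F n σ * zeta F n s
      = iota F n g * (piHom F n σ * zeta F n s) := by rw [mul_assoc]
    _ = iota F n g * (zeta F n (fun i => s (σ⁻¹ i)) * piHom F n σ) := by rw [h1]
    _ = (iota F n g * zeta F n (fun i => s (σ⁻¹ i))) * piHom F n σ := by rw [mul_assoc]
    _ = (zeta F n (fun i => s (σ⁻¹ i)) * iota F n g) * piHom F n σ := by rw [h2]
    _ = zeta F n (fun i => s (σ⁻¹ i)) * (iota F n g * piHom F n σ) := by rw [mul_assoc]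

theorem D_le_W (F : Type*) [Field F] (n : ℕ) : D F n ≤ W F n := by
  intro x hx
  obtain ⟨s, rfl⟩ := mem_D hx
  refine (mem_W _).mpr ⟨fun i => sgn F (s i), 1, ?_⟩
  show zeta F n s = zeta F n s * piHom F n 1
  rw [map_one, mul_one]

theorem D_conj_mem {n : ℕ} (w : ↥(symplecticGroup (Fin n) F)) (hw : w ∈ W F n)
    (d : ↥(symplecticGroup (Fin n) F)) (hd : d ∈ D F n) : w * d * w⁻¹ ∈ D F n := by
  obtain ⟨g, σ, rfl⟩ := (mem_W w).mp hw
  obtain ⟨s, rfl⟩ := mem_D hd
  rw [conj_zeta, mul_inv_cancel_right]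
  exact zeta_mem_D _

theorem zeta_injective (h2 : (2 : F) ≠ 0) (n : ℕ) : Function.Injective (zeta F n) := by
  intro s t hst
  have h1 : (fun i => sgn F (s i)) = (fun i => sgn F (t i)) := iota_injective F n hst
  funext i
  exact sgn_injective h2 (congrFun h1 i)

theorem card_units_int' : Nat.card ℤˣ = 2 := by
  rw [Nat.card_eq_fintype_card]
  convert Fintype.card_units_int

theorem card_D (h2 : (2 : F) ≠ 0) (n : ℕ) : Nat.card (D F n) = 2 ^ n := by
  have h1 : Nat.card ↥(zeta F n).range = Nat.card (Fin n → ℤˣ) :=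
    (Nat.card_congr (MonoidHom.ofInjective (zeta_injective h2 n)).toEquiv).symm
  have h3 : Nat.card (D F n) = Nat.card (Fin n → ℤˣ) := h1
  rw [h3, Nat.card_fun, Nat.card_fin, card_units_int']

theorem val_pow_sub (q k : ℕ) (hq1 : 1 < q) (hq : ¬ 2 ∣ q) (hk : k ≠ 0) :
    padicValNat 2 (q ^ (2 * k) - 1) = padicValNat 2 (q ^ 2 - 1) + padicValNat 2 k := by
  have h1 := padicValNat.pow_two_sub_one hq1 hq (n := 2 * k) (by omega) (even_two_mul k)
  have h2 := padicValNat.pow_two_sub_one hq1 hq (n := 2) (by norm_num) even_two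
  have h3 : padicValNat 2 (2 * k) = 1 + padicValNat 2 k := by
    rw [padicValNat.mul two_ne_zero hk, padicValNat_self]
  have h4 : padicValNat 2 2 = 1 := padicValNat_self
  omega

theorem val_ne (q : ℕ) (hq1 : 1 < q) (i : ℕ) : q ^ (2 * (i + 1)) - 1 ≠ 0 := by
  have h : q ^ 1 ≤ q ^ (2 * (i + 1)) := Nat.pow_le_pow_right (by omega) (by omega)
  rw [pow_one] at h
  omega

theorem val_prod (q : ℕ) (hq1 : 1 < q) (hq : ¬ 2 ∣ q) (n : ℕ) :
    padicValNat 2 (∏ i ∈ Finset.range n, (q ^ (2 * (i + 1)) - 1)) =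
      n * padicValNat 2 (q ^ 2 - 1) + padicValNat 2 n.factorial := by
  induction n with
  | zero => simp
  | succ n ih =>
    rw [Finset.prod_range_succ,
      padicValNat.mul (Finset.prod_ne_zero_iff.2 (fun i _ => val_ne q hq1 i)) (val_ne q hq1 n),
      ih, val_pow_sub q (n + 1) hq1 hq (Nat.succ_ne_zero n), Nat.factorial_succ,
      padicValNat.mul (Nat.succ_ne_zero n) (Nat.factorial_ne_zero n)]
    ring

theorem val_eq (q n : ℕ) (hq1 : 1 < q) (hq : ¬ 2 ∣ q) :
    padicValNat 2 (q ^ (n ^ 2) * ∏ i ∈ Finset.range n, (q ^ (2 * (i + 1)) - 1)) =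
      padicValNat 2 ((q * (q ^ 2 - 1)) ^ n * n.factorial) := by
  have hq0 : q ≠ 0 := by omega
  have hc : q ^ 2 - 1 ≠ 0 := by
    have h : q ^ 1 ≤ q ^ 2 := Nat.pow_le_pow_right (by omega) (by omega)
    rw [pow_one] at h
    omega
  have hv : padicValNat 2 q = 0 := padicValNat.eq_zero_of_not_dvd hq
  rw [padicValNat.mul (pow_ne_zero _ hq0)
      (Finset.prod_ne_zero_iff.2 (fun i _ => val_ne q hq1 i)),
    padicValNat.pow q (n ^ 2), hv, val_prod q hq1 hq n,
    padicValNat.mul (pow_ne_zero _ (mul_ne_zero hq0 hc)) (Nat.factorial_ne_zero n),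
    padicValNat.pow (q * (q ^ 2 - 1)) n, padicValNat.mul hq0 hc, hv]
  ring

theorem fact_eq (F : Type*) [Field F] [Fintype F] (hF : Odd (Fintype.card F)) (n : ℕ) :
    (Nat.card (W F n)).factorization 2 =
      (Nat.card ↥(symplecticGroup (Fin n) F)).factorization 2 := by
  rw [Nat.factorization_def _ Nat.prime_two, Nat.factorization_def _ Nat.prime_two, card_W,
    SylowGL.card_sp_formula]
  exact (val_eq _ n Fintype.one_lt_card hF.not_two_dvd_nat).symm

theorem sylow_transfer {G : Type*} [Group G] [Finite G] (Wg Dg : Subgroup G) (hDW : Dg ≤ Wg)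
    (hnorm : ∀ w ∈ Wg, ∀ d ∈ Dg, w * d * w⁻¹ ∈ Dg) (hDp : IsPGroup 2 Dg)
    (hfac : (Nat.card Wg).factorization 2 = (Nat.card G).factorization 2) (S : Sylow 2 G) :
    ∃ g : G, (∀ d ∈ Dg, g * d * g⁻¹ ∈ (S : Subgroup G)) ∧
      (∀ x ∈ (S : Subgroup G), ∀ d ∈ Dg,
        ∃ d' ∈ Dg, x * (g * d * g⁻¹) * x⁻¹ = g * d' * g⁻¹) := by
  obtain ⟨T⟩ : Nonempty (Sylow 2 ↥Wg) := inferInstance
  have hT : Nat.card (T : Subgroup ↥Wg) = 2 ^ (Nat.card Wg).factorization 2 :=
    Sylow.card_eq_multiplicity T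
  have hT' : Nat.card ((T : Subgroup ↥Wg).map Wg.subtype) =
      2 ^ (Nat.card G).factorization 2 := by
    rw [← hfac, ← hT]
    exact (Nat.card_congr ((T : Subgroup ↥Wg).equivMapOfInjective Wg.subtype
      (Subgroup.subtype_injective _)).toEquiv).symm
  have hDn : (Dg.subgroupOf Wg).Normal := by
    refine ⟨fun d hd w => ?_⟩
    rw [Subgroup.mem_subgroupOf] at hd ⊢
    exact hnorm w.1 w.2 d.1 hd
  have hDp' : IsPGroup 2 (Dg.subgroupOf Wg) := hDp.comap_subtype
  have hDT : Dg.subgroupOf Wg ≤ (T : Subgroup ↥Wg) := hDp'.le_sylow_of_normal T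
  have hDT' : ∀ d ∈ Dg, d ∈ (T : Subgroup ↥Wg).map Wg.subtype := by
    intro d hd
    exact ⟨⟨d, hDW hd⟩, hDT (Subgroup.mem_subgroupOf.mpr hd), rfl⟩
  have hT'W : ∀ y ∈ (T : Subgroup ↥Wg).map Wg.subtype, y ∈ Wg := by
    rintro _ ⟨y, _, rfl⟩
    exact y.2
  obtain ⟨g, hg⟩ := MulAction.exists_smul_eq G (Sylow.ofCard _ hT') S
  have hS : ∀ x : G, x ∈ (S : Subgroup G) ↔
      g⁻¹ * x * g ∈ (T : Subgroup ↥Wg).map Wg.subtype := by
    intro x
    have h1 : (S : Subgroup G) = MulAut.conj g • ((T : Subgroup ↥Wg).map Wg.subtype) := by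
      rw [← hg, Sylow.coe_subgroup_smul, Sylow.coe_ofCard]
    rw [h1, Subgroup.mem_pointwise_smul_iff_inv_smul_mem]
    exact Iff.rfl
  refine ⟨g, ?_, ?_⟩
  · intro d hd
    rw [hS]
    have h3 : g⁻¹ * (g * d * g⁻¹) * g = d := by group
    rw [h3]
    exact hDT' d hd
  · intro x hx d hd
    have hy := (hS x).mp hx
    exact ⟨(g⁻¹ * x * g) * d * (g⁻¹ * x * g)⁻¹, hnorm _ (hT'W _ hy) d hd, by group⟩

theorem card_le_of_elem (h2 : (2 : F) ≠ 0) (n : ℕ)
    (S : Subgroup ↥(symplecticGroup (Fin n) F)) (E : Subgroup ↥S)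
    (hE : Cfsg.IsElementaryAbelian 2 E) : Nat.card E ≤ 2 ^ n := by
  have hcard : Nat.card E = Nat.card (E.map S.subtype) :=
    Nat.card_congr (E.equivMapOfInjective S.subtype (Subgroup.subtype_injective S)).toEquiv
  rw [hcard]
  refine Sp_prankLE h2 n (E.map S.subtype) ⟨⟨?_⟩⟩ ?_
  · rintro ⟨_, x, hx, rfl⟩ ⟨_, y, hy, rfl⟩
    apply Subtype.ext
    show S.subtype x * S.subtype y = S.subtype y * S.subtype x
    rw [← map_mul, ← map_mul]
    have h : (⟨x, hx⟩ : ↥E) * ⟨y, hy⟩ = ⟨y, hy⟩ * ⟨x, hx⟩ := hE.1.is_comm.comm _ _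
    exact congrArg (fun z : ↥E => S.subtype z.1) h
  · rintro _ ⟨x, hx, rfl⟩
    rw [← map_pow, hE.2 x hx, map_one]

theorem exists_normal {F : Type*} [Field F] [Fintype F] (hF : Odd (Fintype.card F)) (n : ℕ)
    (S : Sylow 2 ↥(symplecticGroup (Fin n) F)) :
    ∃ E : Subgroup ↥(S : Subgroup ↥(symplecticGroup (Fin n) F)),
      E.Normal ∧ Cfsg.IsElementaryAbelian 2 E ∧ 2 ^ n ≤ Nat.card ↥E := by
  classical
  have h2 : (2 : F) ≠ 0 := two_ne_zero_of_odd_card hF
  have : Finite ↥(symplecticGroup (Fin n) F) := inferInstance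
  have hDp : IsPGroup 2 (D F n) := IsPGroup.of_card (card_D h2 n)
  obtain ⟨g, hg1, hg2⟩ := sylow_transfer (W F n) (D F n) (D_le_W F n)
    (fun w hw d hd => D_conj_mem w hw d hd) hDp (fact_eq F hF n) S
  obtain ⟨θ, hθ⟩ : ∃ θ : (Fin n → ℤˣ) →* ↥(symplecticGroup (Fin n) F),
      ∀ s, θ s = g * zeta F n s * g⁻¹ :=
    ⟨(MulAut.conj g).toMonoidHom.comp (zeta F n), fun s => rfl⟩
  have hθinj : Function.Injective θ := by
    intro s t hst
    rw [hθ, hθ] at hst
    exact zeta_injective h2 n (mul_left_cancel (mul_right_cancel hst))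
  have hθS : θ.range ≤ (S : Subgroup ↥(symplecticGroup (Fin n) F)) := by
    intro x hx
    obtain ⟨s, rfl⟩ := MonoidHom.mem_range.mp hx
    rw [hθ]
    exact hg1 _ (zeta_mem_D s)
  refine ⟨θ.range.subgroupOf (S : Subgroup ↥(symplecticGroup (Fin n) F)), ?_, ⟨⟨⟨?_⟩⟩, ?_⟩, ?_⟩
  · refine ⟨fun e he x => ?_⟩
    rw [Subgroup.mem_subgroupOf] at he ⊢
    obtain ⟨s, hs⟩ := MonoidHom.mem_range.mp he
    obtain ⟨d', hd'D, hd'⟩ := hg2 x.1 x.2 (zeta F n s) (zeta_mem_D s)
    obtain ⟨s', rfl⟩ := mem_D hd'D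
    refine MonoidHom.mem_range.mpr ⟨s', ?_⟩
    have hs' : e.1 = g * zeta F n s * g⁻¹ := by rw [← hs, hθ]
    show θ s' = x.1 * e.1 * x.1⁻¹
    rw [hθ, hs', hd']
  · rintro ⟨a, ha⟩ ⟨b, hb⟩
    obtain ⟨s, hs⟩ := MonoidHom.mem_range.mp (Subgroup.mem_subgroupOf.mp ha)
    obtain ⟨t, ht⟩ := MonoidHom.mem_range.mp (Subgroup.mem_subgroupOf.mp hb)
    apply Subtype.ext
    apply Subtype.ext
    show a.1 * b.1 = b.1 * a.1
    rw [← hs, ← ht, ← map_mul, ← map_mul, mul_comm]
  · intro a ha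
    obtain ⟨s, hs⟩ := MonoidHom.mem_range.mp (Subgroup.mem_subgroupOf.mp ha)
    apply Subtype.ext
    show a.1 ^ 2 = 1
    rw [← hs, ← map_pow]
    have h3 : s ^ 2 = 1 := by
      funext i
      simp [pow_two]
    rw [h3, map_one]
  · have h1 : Nat.card ↥(θ.range.subgroupOf (S : Subgroup ↥(symplecticGroup (Fin n) F))) =
        Nat.card ↥θ.range := Nat.card_congr (Subgroup.subgroupOfEquivOfLe hθS).toEquiv
    have h3 : Nat.card ↥θ.range = Nat.card (Fin n → ℤˣ) :=
      (Nat.card_congr (MonoidHom.ofInjective hθinj).toEquiv).symm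
    have h4 : Nat.card ↥(θ.range.subgroupOf (S : Subgroup ↥(symplecticGroup (Fin n) F))) =
        2 ^ n := by
      rw [h1, h3, Nat.card_fun, Nat.card_fin, card_units_int']
    exact h4.ge

end

end Cfsg.Agent.Lib.Helper15.SpW
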