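import Mathlib

set_option autoImplicit false

namespace Cfsg.Agent.Lib.Helper15
namespace SylowGL

open Polynomial

/-- `v_r (x ^ t - 1) = v_r (x - 1)` when `r ∣ x - 1` and `1 ≤ t < r`. -/
theorem padicVal_pow_sub_one {r : ℕ} [hrF : Fact r.Prime] {x t : ℕ} (hx : 2 ≤ x)
    (hrx : r ∣ x - 1) (ht1 : 1 ≤ t) (htr : t < r) :
    padicValNat r (x ^ t - 1) = padicValNat r (x - 1) := by
  have hr : r.Prime := hrF.out
  have hS : x ^ t - 1 = (∑ i ∈ Finset.range t, x ^ i) * (x - 1) :=
    (geom_sum_mul_of_one_le (by omega : 1 ≤ x) t).symm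
  have hx1 : (x : ZMod r) = 1 := by
    have h1 : ((x - 1 : ℕ) : ZMod r) = 0 := (ZMod.natCast_eq_zero_iff _ _).2 hrx
    rw [Nat.cast_sub (by omega), Nat.cast_one, sub_eq_zero] at h1
    exact h1
  have hSr : ¬ r ∣ ∑ i ∈ Finset.range t, x ^ i := by
    intro h
    have h1 := (ZMod.natCast_eq_zero_iff _ _).2 h
    rw [Nat.cast_sum] at h1
    simp only [Nat.cast_pow, hx1, one_pow, Finset.sum_const, Finset.card_range, nsmul_eq_mul,
      mul_one] at h1
    have h2 := (ZMod.natCast_eq_zero_iff _ _).1 h1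
    have := Nat.le_of_dvd (by omega) h2
    omega
  have hS0 : ∑ i ∈ Finset.range t, x ^ i ≠ 0 := by
    intro h
    rw [h] at hSr
    exact hSr (dvd_zero r)
  rw [hS, padicValNat.mul hS0 (by omega), padicValNat.eq_zero_of_not_dvd hSr, zero_add]

/-- The `r`-part of `q ^ d - 1` is that of the `d`-th cyclotomic value, for `d` the order of
`q` modulo `r`. -/
theorem padicVal_pow_order_sub_one {r : ℕ} [hrF : Fact r.Prime] {q : ℕ} (hq : 2 ≤ q)
    (hd : 0 < orderOf (q : ZMod r)) :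
    ∃ R : ℕ, q ^ orderOf (q : ZMod r) - 1 =
        ((cyclotomic (orderOf (q : ZMod r)) ℤ).eval (q : ℤ)).natAbs * R ∧
      padicValNat r (q ^ orderOf (q : ZMod r) - 1) =
        padicValNat r ((cyclotomic (orderOf (q : ZMod r)) ℤ).eval (q : ℤ)).natAbs := by
  have hr : r.Prime := hrF.out
  set d := orderOf (q : ZMod r) with hdd
  have hprod : ((q : ℤ) ^ d - 1) = (cyclotomic d ℤ).eval (q : ℤ) *
      ∏ j ∈ d.properDivisors, (cyclotomic j ℤ).eval (q : ℤ) := by
    have h1 := prod_cyclotomic_eq_X_pow_sub_one hd ℤ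
    have h2 := congrArg (Polynomial.eval (q : ℤ)) h1
    rw [Polynomial.eval_prod, eval_sub, eval_pow, eval_X, eval_one,
      ← Nat.cons_self_properDivisors hd.ne', Finset.prod_cons] at h2
    exact h2.symm
  have hnat : ∀ j : ℕ, ((q : ℤ) ^ j - 1).natAbs = q ^ j - 1 := by
    intro j
    have : ((q : ℤ) ^ j - 1) = ((q ^ j - 1 : ℕ) : ℤ) := by
      rw [Nat.cast_sub (Nat.one_le_pow _ _ (by omega))]
      simp
    rw [this, Int.natAbs_natCast]
  set R := (∏ j ∈ d.properDivisors, (cyclotomic j ℤ).eval (q : ℤ)).natAbs with hR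
  have hfac : q ^ d - 1 = ((cyclotomic d ℤ).eval (q : ℤ)).natAbs * R := by
    rw [← hnat, hprod, Int.natAbs_mul]
  have hRr : ¬ r ∣ R := by
    intro h
    have h1 : (r : ℤ) ∣ ∏ j ∈ d.properDivisors, (cyclotomic j ℤ).eval (q : ℤ) :=
      Int.natCast_dvd.2 h
    obtain ⟨j, hj, hjr⟩ := (Nat.prime_iff_prime_int.1 hr).exists_mem_finset_dvd h1
    have h2 : (cyclotomic j ℤ).eval (q : ℤ) ∣ (q : ℤ) ^ j - 1 := by
      have := eval_dvd (x := (q : ℤ)) (cyclotomic.dvd_X_pow_sub_one j ℤ)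
      simpa using this
    have h3 : r ∣ q ^ j - 1 := by
      have := Int.natCast_dvd.1 (hjr.trans h2)
      rwa [hnat] at this
    have h4 : (q : ZMod r) ^ j = 1 := by
      have h5 := (ZMod.natCast_eq_zero_iff _ _).2 h3
      rw [Nat.cast_sub (Nat.one_le_pow _ _ (by omega)), Nat.cast_pow, Nat.cast_one,
        sub_eq_zero] at h5
      exact h5
    have h6 : d ∣ j := orderOf_dvd_of_pow_eq_one h4
    have hj' := Nat.mem_properDivisors.1 hj
    have hjpos : 0 < j := Nat.pos_of_dvd_of_pos hj'.1 hd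
    have := Nat.le_of_dvd hjpos h6
    omega
  have hne : q ^ d - 1 ≠ 0 := by
    have : q ^ 1 ≤ q ^ d := Nat.pow_le_pow_right (by omega) hd
    rw [pow_one] at this
    omega
  refine ⟨R, hfac, ?_⟩
  have hR0 : R ≠ 0 := by
    rintro h0
    rw [h0, mul_zero] at hfac
    exact hne hfac
  have hC0 : ((cyclotomic d ℤ).eval (q : ℤ)).natAbs ≠ 0 := by
    rintro h0
    rw [h0, zero_mul] at hfac
    exact hne hfac
  rw [hfac, padicValNat.mul hC0 hR0, padicValNat.eq_zero_of_not_dvd hRr, add_zero]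

/-- The `r`-part of `q ^ j - 1` for `1 ≤ j < r`. -/
theorem padicVal_pow_sub_one_eq {r : ℕ} [hrF : Fact r.Prime] {q : ℕ} (hq : 2 ≤ q)
    (hd : 0 < orderOf (q : ZMod r)) {j : ℕ} (hj1 : 1 ≤ j) (hjr : j < r) :
    padicValNat r (q ^ j - 1) = if orderOf (q : ZMod r) ∣ j then
      padicValNat r ((cyclotomic (orderOf (q : ZMod r)) ℤ).eval (q : ℤ)).natAbs else 0 := by
  have hr : r.Prime := hrF.out
  set d := orderOf (q : ZMod r) with hdd
  have hiff : ∀ l : ℕ, r ∣ q ^ l - 1 ↔ d ∣ l := by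
    intro l
    rw [← ZMod.natCast_eq_zero_iff (q ^ l - 1) r, Nat.cast_sub (Nat.one_le_pow _ _ (by omega)),
      Nat.cast_pow, Nat.cast_one, sub_eq_zero, orderOf_dvd_iff_pow_eq_one]
  by_cases hdj : d ∣ j
  · rw [if_pos hdj]
    obtain ⟨t, rfl⟩ := hdj
    obtain ⟨R, -, hval⟩ := padicVal_pow_order_sub_one (r := r) hq hd
    rw [← hval, pow_mul]
    have ht1 : 1 ≤ t := by
      rcases Nat.eq_zero_or_pos t with h | h
      · rw [h, mul_zero] at hj1
        omega
      · exact h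
    have htr : t < r := by
      have : t ≤ d * t := Nat.le_mul_of_pos_left t hd
      omega
    have hx : 2 ≤ q ^ d := by
      have : q ^ 1 ≤ q ^ d := Nat.pow_le_pow_right (by omega) hd
      rw [pow_one] at this
      omega
    exact padicVal_pow_sub_one hx ((hiff d).2 dvd_rfl) ht1 htr
  · rw [if_neg hdj]
    exact padicValNat.eq_zero_of_not_dvd (fun h => hdj ((hiff j).1 h))

/-- The `r`-part of the order of `GL_n(q)` for `n < r`. -/
theorem factorization_card_GL {r : ℕ} [hrF : Fact r.Prime] {q : ℕ} (hq : 2 ≤ q) (hrq : ¬ r ∣ q)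
    (hd : 0 < orderOf (q : ZMod r)) {n : ℕ} (hnr : n < r) :
    (∏ i : Fin n, (q ^ n - q ^ (i : ℕ))).factorization r = (n / orderOf (q : ZMod r)) *
      padicValNat r ((cyclotomic (orderOf (q : ZMod r)) ℤ).eval (q : ℤ)).natAbs := by
  have hr : r.Prime := hrF.out
  set d := orderOf (q : ZMod r) with hdd
  set a := padicValNat r ((cyclotomic d ℤ).eval (q : ℤ)).natAbs with ha
  have hfac : ∀ i : Fin n, q ^ n - q ^ (i : ℕ) = q ^ (i : ℕ) * (q ^ (n - (i : ℕ)) - 1) := by
    intro i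
    rw [Nat.mul_sub, mul_one, ← pow_add]
    congr 2
    have := i.2
    omega
  have hne : ∀ i : Fin n, q ^ n - q ^ (i : ℕ) ≠ 0 := by
    intro i
    have : q ^ (i : ℕ) < q ^ n := Nat.pow_lt_pow_right (by omega) i.2
    omega
  rw [Nat.factorization_prod (fun i _ => hne i), Finsupp.finsetSum_apply]
  have hterm : ∀ i : Fin n, (q ^ n - q ^ (i : ℕ)).factorization r =
      if d ∣ n - (i : ℕ) then a else 0 := by
    intro i
    have hi := i.2
    have h1 : q ^ (i : ℕ) ≠ 0 := pow_ne_zero _ (by omega)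
    have h2 : q ^ (n - (i : ℕ)) - 1 ≠ 0 := by
      have : q ^ 1 ≤ q ^ (n - (i : ℕ)) := Nat.pow_le_pow_right (by omega) (by omega)
      rw [pow_one] at this
      omega
    rw [hfac, Nat.factorization_mul h1 h2, Finsupp.add_apply, Nat.factorization_pow,
      Finsupp.smul_apply, Nat.factorization_eq_zero_of_not_dvd hrq, smul_zero, zero_add,
      Nat.factorization_def _ hr]
    exact padicVal_pow_sub_one_eq hq hd (by omega) (by omega)
  rw [Finset.sum_congr rfl (fun i _ => hterm i)]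
  rw [Fin.sum_univ_eq_sum_range (fun i => if d ∣ n - i then a else 0) n]
  have hrefl := Finset.sum_range_reflect (fun j => if d ∣ j + 1 then a else 0) n
  have hcongr : ∀ i ∈ Finset.range n, (if d ∣ n - i then a else 0) =
      (fun j => if d ∣ j + 1 then a else 0) (n - 1 - i) := by
    intro i hi
    have := Finset.mem_range.1 hi
    have e : n - 1 - i + 1 = n - i := by omega
    simp only [e]
  rw [Finset.sum_congr rfl hcongr, hrefl, ← Finset.sum_filter, Finset.sum_const,
    Nat.card_multiples, smul_eq_mul]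

end SylowGL
end Cfsg.Agent.Lib.Helper15
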