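import Cfsg.Agent.Lib.Helper15.SylowGLArith

set_option autoImplicit false

namespace Cfsg.Agent.Lib.Helper15
namespace SylowGL

open Module

/-- A product of `k` copies of a cyclic group of order `N ∣ q ^ d - 1` embeds in `GL_n(q)` when
`k d ≤ n`. -/
theorem exists_embedding {F : Type*} [Field F] [Fintype F] (n d k : ℕ) (hd : 1 ≤ d)
    (hkd : k * d ≤ n) (N : ℕ) (hN : N ∣ Fintype.card F ^ d - 1) :
    ∃ Ψ : (Fin k → Multiplicative (ZMod N)) →* GL (Fin n) F, Function.Injective Ψ := by
  classical
  obtain ⟨p, hp⟩ := CharP.exists F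
  have : Fact p.Prime := ⟨CharP.char_is_prime F p⟩
  have : NeZero d := ⟨by omega⟩
  let E := FiniteField.Extension F p d
  have hfr : Module.finrank F E = d := FiniteField.finrank_extension F p d
  let _ : Fintype E := Fintype.ofFinite E
  have hcardE : Nat.card Eˣ = Fintype.card F ^ d - 1 := by
    rw [Nat.card_units, FiniteField.natCard_extension, Nat.card_eq_fintype_card]
  obtain ⟨h, hordh⟩ : ∃ h : Eˣ, orderOf h = N := by
    obtain ⟨ζ, hζ⟩ := IsCyclic.exists_generator (α := Eˣ)
    have hordζ : orderOf ζ = Fintype.card F ^ d - 1 := by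
      rw [orderOf_eq_card_of_forall_mem_zpowers hζ, hcardE]
    refine ⟨ζ ^ (orderOf ζ / N), ?_⟩
    rw [← hordζ] at hN
    exact orderOf_pow_orderOf_div (orderOf_pos ζ).ne' hN
  let C : Subgroup Eˣ := Subgroup.zpowers h
  have hC : Nat.card C = N := by rw [Nat.card_zpowers, hordh]
  have e₀ : Multiplicative (ZMod N) ≃* C := by
    rw [← hC]
    exact zmodCyclicMulEquiv (inferInstance : IsCyclic C)
  let j : (Fin k → Multiplicative (ZMod N)) →* (Fin k → Eˣ) :=
    (C.subtype.comp e₀.toMonoidHom).compLeft (Fin k)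
  have hj : Function.Injective j := by
    intro x y hxy
    funext i
    have h1 := congrFun hxy i
    have h2 : (e₀ (x i) : Eˣ) = (e₀ (y i) : Eˣ) := h1
    exact e₀.injective (Subtype.ext h2)
  let M := Fin k → E
  let W := Fin (n - k * d) → F
  let ρ : (Fin k → Eˣ) →* Module.End F (M × W) :=
    { toFun := fun u =>
        { toFun := fun x => (fun i => (u i : E) * x.1 i, x.2)
          map_add' := by
            intro x y
            ext i
            · show (u i : E) * (x.1 i + y.1 i) = (u i : E) * x.1 i + (u i : E) * y.1 i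
              rw [mul_add]
            · simp
          map_smul' := by
            intro c x
            ext i
            · show (u i : E) * (c • x.1 i) = c • ((u i : E) * x.1 i)
              rw [mul_smul_comm]
            · simp }
      map_one' := by
        apply LinearMap.ext
        intro x
        ext i
        · simp
        · simp
      map_mul' := by
        intro u v
        apply LinearMap.ext
        intro x
        ext i
        · simp [mul_assoc]
        · simp }
  have hρ : ∀ u (x : M × W), ρ u x = (fun i => (u i : E) * x.1 i, x.2) := fun u x => rfl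
  have hfin : Module.finrank F (M × W) = n := by
    rw [Module.finrank_prod, Module.finrank_pi_fintype, Module.finrank_fin_fun]
    simp only [hfr, Finset.sum_const, Finset.card_univ, Fintype.card_fin, smul_eq_mul]
    omega
  let b : Module.Basis (Fin n) F (M × W) := Module.finBasisOfFinrankEq F (M × W) hfin
  let T : Module.End F (M × W) ≃ₐ[F] Matrix (Fin n) (Fin n) F := LinearMap.toMatrixAlgEquiv b
  let Ψ₀ : (Fin k → Eˣ) →* GL (Fin n) F := ((T : Module.End F (M × W) →* _).comp ρ).toHomUnits
  refine ⟨Ψ₀.comp j, ?_⟩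
  intro x y hxy
  apply hj
  have h1 : ((Ψ₀ (j x) : GL (Fin n) F) : Matrix (Fin n) (Fin n) F) =
      ((Ψ₀ (j y) : GL (Fin n) F) : Matrix (Fin n) (Fin n) F) := congrArg Units.val hxy
  have h2 : T (ρ (j x)) = T (ρ (j y)) := h1
  have h3 : ρ (j x) = ρ (j y) := T.injective h2
  funext i
  have h4 := congrArg (fun f : Module.End F (M × W) => (f ((fun _ => (1 : E)), (0 : W))).1 i) h3
  simp only [hρ, mul_one] at h4
  exact Units.ext h4

end SylowGL
end Cfsg.Agent.Lib.Helper15

namespace Cfsg.Agent.Lib.Helper15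
namespace SylowGL

/-- The order of `q` modulo a prime not dividing it is positive. -/
theorem orderOf_pos_zmod {r : ℕ} [hrF : Fact r.Prime] {q : ℕ} (hrq : ¬ r ∣ q) :
    0 < orderOf (q : ZMod r) := by
  have hq0 : (q : ZMod r) ≠ 0 := fun h => hrq ((ZMod.natCast_eq_zero_iff _ _).1 h)
  have h1 : (q : ZMod r) ^ (r - 1) = 1 := ZMod.pow_card_sub_one_eq_one hq0
  have h2 := hrF.out.two_le
  exact orderOf_pos_iff.2 (isOfFinOrder_iff_pow_eq_one.2 ⟨r - 1, by omega, h1⟩)

/-- Sylow `r`-subgroups of `GL_n(q)` for `r > n`, `r ∤ q`. -/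
theorem sylow_gl {F : Type*} [Field F] [Fintype F] (n r : ℕ) [hrF : Fact r.Prime] (hrn : n < r)
    (hrq : ¬ r ∣ Fintype.card F) (P : Sylow r (GL (Fin n) F)) :
    Nonempty (↥(P : Subgroup (GL (Fin n) F)) ≃*
      (Fin (n / orderOf ((Fintype.card F : ℕ) : ZMod r)) →
        Multiplicative (ZMod (r ^ padicValNat r ((Polynomial.cyclotomic
          (orderOf ((Fintype.card F : ℕ) : ZMod r)) ℤ).eval ((Fintype.card F : ℕ) : ℤ)).natAbs)))) := by
  classical
  have hq2 : 2 ≤ Fintype.card F := Fintype.one_lt_card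
  have hd := orderOf_pos_zmod (r := r) hrq
  obtain ⟨R, hfac, -⟩ := padicVal_pow_order_sub_one (r := r) hq2 hd
  set d := orderOf ((Fintype.card F : ℕ) : ZMod r) with hdd
  set a := padicValNat r ((Polynomial.cyclotomic d ℤ).eval ((Fintype.card F : ℕ) : ℤ)).natAbs
    with ha
  have hN : r ^ a ∣ Fintype.card F ^ d - 1 :=
    (pow_padicValNat_dvd).trans (Dvd.intro _ hfac.symm)
  obtain ⟨Ψ, hΨ⟩ := exists_embedding (F := F) n d (n / d) hd (Nat.div_mul_le_self n d) (r ^ a) hN
  have hrpos : 0 < r ^ a := pow_pos hrF.out.pos a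
  have : NeZero (r ^ a) := ⟨hrpos.ne'⟩
  have hcardH : Nat.card Ψ.range = (r ^ a) ^ (n / d) := by
    rw [← Nat.card_congr (MonoidHom.ofInjective hΨ).toEquiv, Nat.card_fun, Nat.card_fin,
      Nat.card_congr (Multiplicative.toAdd (α := ZMod (r ^ a))), Nat.card_zmod]
  have hsyl : Nat.card Ψ.range = r ^ (Nat.card (GL (Fin n) F)).factorization r := by
    rw [Matrix.card_GL_field, factorization_card_GL hq2 hrq hd hrn, hcardH, ← pow_mul, mul_comm]
  exact ⟨(P.equiv (Sylow.ofCard Ψ.range hsyl)).trans
    ((MulEquiv.subgroupCongr (Sylow.coe_ofCard Ψ.range hsyl)).trans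
      (MonoidHom.ofInjective hΨ).symm)⟩

end SylowGL
end Cfsg.Agent.Lib.Helper15
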