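import Cfsg.Agent.Lib.Helper15.SylowGLEmb
import Cfsg.Agent.Lib.Helper15.GL2Centralizer

set_option autoImplicit false

namespace Cfsg.Agent.Lib.Helper15
namespace SylowGL

open Module

/-- An embedded homocyclic group of the right order is (isomorphic to) every Sylow subgroup. -/
theorem sylow_of_embedding {G : Type*} [Group G] [Finite G] (r : ℕ) [hrF : Fact r.Prime]
    (c N : ℕ) (hN : N ≠ 0) (Ψ : (Fin c → Multiplicative (ZMod N)) →* G)
    (hΨ : Function.Injective Ψ) (hcard : N ^ c = r ^ (Nat.card G).factorization r)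
    (P : Sylow r G) :
    Nonempty (↥(P : Subgroup G) ≃* (Fin c → Multiplicative (ZMod N))) := by
  classical
  have : NeZero N := ⟨hN⟩
  have hcardH : Nat.card Ψ.range = N ^ c := by
    rw [← Nat.card_congr (MonoidHom.ofInjective hΨ).toEquiv, Nat.card_fun, Nat.card_fin,
      Nat.card_congr (Multiplicative.toAdd (α := ZMod N)), Nat.card_zmod]
  have hsyl : Nat.card Ψ.range = r ^ (Nat.card G).factorization r := by rw [hcardH, hcard]
  exact ⟨(P.equiv (Sylow.ofCard Ψ.range hsyl)).trans
    ((MulEquiv.subgroupCongr (Sylow.coe_ofCard Ψ.range hsyl)).trans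
      (MonoidHom.ofInjective hΨ).symm)⟩

/-- The diagonal embedding of `(F^×)^m` into `SL_{m+1}(F)`. -/
def diagSL (F : Type*) [Field F] (m : ℕ) :
    (Fin m → Fˣ) →* Matrix.SpecialLinearGroup (Fin (m + 1)) F where
  toFun u := ⟨Matrix.diagonal (Fin.cons (((∏ i, u i)⁻¹ : Fˣ) : F) (fun i => (u i : F))), by
    rw [Matrix.det_diagonal, Fin.prod_univ_succ]
    simp only [Fin.cons_zero, Fin.cons_succ]
    rw [← Units.coe_prod, ← Units.val_mul, inv_mul_cancel, Units.val_one]⟩
  map_one' := by
    apply Subtype.ext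
    show Matrix.diagonal _ = (1 : Matrix (Fin (m + 1)) (Fin (m + 1)) F)
    rw [← Matrix.diagonal_one]
    congr 1
    funext i
    refine Fin.cases ?_ (fun i => ?_) i
    · simp
    · simp
  map_mul' u v := by
    apply Subtype.ext
    show Matrix.diagonal _ = Matrix.diagonal _ * Matrix.diagonal _
    rw [Matrix.diagonal_mul_diagonal]
    congr 1
    funext i
    refine Fin.cases ?_ (fun i => ?_) i
    · simp only [Fin.cons_zero, Pi.mul_apply, Finset.prod_mul_distrib, mul_inv, Units.val_mul]
    · simp only [Fin.cons_succ, Pi.mul_apply, Units.val_mul]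

theorem diagSL_injective (F : Type*) [Field F] (m : ℕ) : Function.Injective (diagSL F m) := by
  intro u v huv
  funext i
  have h1 : (diagSL F m u).1 i.succ i.succ = (diagSL F m v).1 i.succ i.succ := by rw [huv]
  have h2 : ∀ w : Fin m → Fˣ, (diagSL F m w).1 i.succ i.succ = (w i : F) := by
    intro w
    show Matrix.diagonal _ i.succ i.succ = _
    rw [Matrix.diagonal_apply_eq, Fin.cons_succ]
  rw [h2, h2] at h1
  exact Units.ext h1

end SylowGL
end Cfsg.Agent.Lib.Helper15

namespace Cfsg.Agent.Lib.Helper15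
namespace SylowGL

/-- `(Z_N)^m` embeds in `SL_{m+1}(F)` for `N ∣ q - 1`. -/
theorem exists_embedding_diag {F : Type*} [Field F] [Fintype F] (m N : ℕ)
    (hN : N ∣ Fintype.card F - 1) :
    ∃ Ψ : (Fin m → Multiplicative (ZMod N)) →* Matrix.SpecialLinearGroup (Fin (m + 1)) F,
      Function.Injective Ψ := by
  classical
  have hcard : Nat.card Fˣ = Fintype.card F - 1 := by
    rw [Nat.card_units, Nat.card_eq_fintype_card]
  obtain ⟨h, hordh⟩ : ∃ h : Fˣ, orderOf h = N := by
    obtain ⟨ζ, hζ⟩ := IsCyclic.exists_generator (α := Fˣ)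
    have hordζ : orderOf ζ = Fintype.card F - 1 := by
      rw [orderOf_eq_card_of_forall_mem_zpowers hζ, hcard]
    refine ⟨ζ ^ (orderOf ζ / N), ?_⟩
    rw [← hordζ] at hN
    exact orderOf_pow_orderOf_div (orderOf_pos ζ).ne' hN
  let C : Subgroup Fˣ := Subgroup.zpowers h
  have hC : Nat.card C = N := by rw [Nat.card_zpowers, hordh]
  have e₀ : Multiplicative (ZMod N) ≃* C := by
    rw [← hC]
    exact zmodCyclicMulEquiv (inferInstance : IsCyclic C)
  let j : (Fin m → Multiplicative (ZMod N)) →* (Fin m → Fˣ) :=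
    (C.subtype.comp e₀.toMonoidHom).compLeft (Fin m)
  have hj : Function.Injective j := by
    intro x y hxy
    funext i
    have h1 := congrFun hxy i
    have h2 : (e₀ (x i) : Fˣ) = (e₀ (y i) : Fˣ) := h1
    exact e₀.injective (Subtype.ext h2)
  exact ⟨(diagSL F m).comp j, (diagSL_injective F m).comp hj⟩

/-- The embedding into `GL_n` lands in `SL_n` when `N` is prime to `q - 1`. -/
theorem exists_embedding_SL {F : Type*} [Field F] [Fintype F] (n d k : ℕ) (hd : 1 ≤ d)
    (hkd : k * d ≤ n) (N : ℕ) (hN0 : N ≠ 0) (hN : N ∣ Fintype.card F ^ d - 1)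
    (hcop : Nat.Coprime N (Fintype.card F - 1)) :
    ∃ Ψ : (Fin k → Multiplicative (ZMod N)) →* Matrix.SpecialLinearGroup (Fin n) F,
      Function.Injective Ψ := by
  classical
  obtain ⟨Ψ, hΨ⟩ := exists_embedding (F := F) n d k hd hkd N hN
  have : NeZero N := ⟨hN0⟩
  have hpow : ∀ x : Fin k → Multiplicative (ZMod N), x ^ N = 1 := by
    intro x
    funext i
    have h1 : Nat.card (Multiplicative (ZMod N)) = N := by
      rw [Nat.card_congr (Multiplicative.toAdd (α := ZMod N)), Nat.card_zmod]
    have h2 : (x i) ^ Nat.card (Multiplicative (ZMod N)) = 1 := pow_card_eq_one'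
    rw [h1] at h2
    exact h2
  have hdet : ∀ x, (Ψ x : Matrix (Fin n) (Fin n) F).det = 1 := by
    intro x
    have h1 : (Matrix.GeneralLinearGroup.det (Ψ x)) ^ N = 1 := by
      rw [← map_pow, ← map_pow, hpow, map_one, map_one]
    have h2 : (Matrix.GeneralLinearGroup.det (Ψ x)) ^ (Fintype.card F - 1) = 1 := by
      rw [← Fintype.card_units]
      exact pow_card_eq_one
    have h3 := orderOf_dvd_of_pow_eq_one h1
    have h4 := orderOf_dvd_of_pow_eq_one h2
    have h5 : orderOf (Matrix.GeneralLinearGroup.det (Ψ x)) = 1 :=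
      Nat.eq_one_of_dvd_coprimes hcop h3 h4
    have h6 := orderOf_eq_one_iff.1 h5
    have h7 := congrArg Units.val h6
    rwa [Matrix.GeneralLinearGroup.val_det_apply] at h7
  let Ψ' : (Fin k → Multiplicative (ZMod N)) →* Matrix.SpecialLinearGroup (Fin n) F :=
    { toFun := fun x => ⟨(Ψ x : Matrix (Fin n) (Fin n) F), hdet x⟩
      map_one' := by
        apply Subtype.ext
        show ((Ψ 1 : GL (Fin n) F) : Matrix (Fin n) (Fin n) F) = 1
        rw [map_one]
        rfl
      map_mul' := by
        intro x y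
        apply Subtype.ext
        show ((Ψ (x * y) : GL (Fin n) F) : Matrix (Fin n) (Fin n) F) =
          (Ψ x : Matrix (Fin n) (Fin n) F) * (Ψ y : Matrix (Fin n) (Fin n) F)
        rw [map_mul]
        rfl }
  refine ⟨Ψ', ?_⟩
  intro x y hxy
  apply hΨ
  apply Units.ext
  exact congrArg Subtype.val hxy

/-- Sylow `r`-subgroups of `SL_n(q)` for `r > n`, `r ∤ q`. -/
theorem sylow_sl {F : Type*} [Field F] [Fintype F] (n r : ℕ) [hrF : Fact r.Prime] (hrn : n < r)
    (hrq : ¬ r ∣ Fintype.card F) (P : Sylow r (Matrix.SpecialLinearGroup (Fin n) F)) :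
    Nonempty (↥(P : Subgroup (Matrix.SpecialLinearGroup (Fin n) F)) ≃*
      (Fin ((Finset.Icc 2 n).filter
          (fun i => orderOf ((Fintype.card F : ℕ) : ZMod r) ∣ i)).card →
        Multiplicative (ZMod (r ^ padicValNat r ((Polynomial.cyclotomic
          (orderOf ((Fintype.card F : ℕ) : ZMod r)) ℤ).eval ((Fintype.card F : ℕ) : ℤ)).natAbs)))) := by
  classical
  have hr : r.Prime := hrF.out
  have hq2 : 2 ≤ Fintype.card F := Fintype.one_lt_card
  have hd := orderOf_pos_zmod (r := r) hrq
  obtain ⟨R, hfac, -⟩ := padicVal_pow_order_sub_one (r := r) hq2 hd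
  set d := orderOf ((Fintype.card F : ℕ) : ZMod r) with hdd
  set a := padicValNat r ((Polynomial.cyclotomic d ℤ).eval ((Fintype.card F : ℕ) : ℤ)).natAbs
    with ha
  have hN : r ^ a ∣ Fintype.card F ^ d - 1 :=
    (pow_padicValNat_dvd).trans (Dvd.intro _ hfac.symm)
  have hN0 : r ^ a ≠ 0 := (pow_pos hr.pos a).ne'
  rcases Nat.eq_zero_or_pos n with hn0 | hnpos
  · subst hn0
    have hc : ((Finset.Icc 2 0).filter (fun i => d ∣ i)).card = 0 := by simp
    rw [hc]
    have hcard1 : Nat.card (Matrix.SpecialLinearGroup (Fin 0) F) = 1 := by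
      rw [Nat.card_eq_one_iff_unique]
      refine ⟨⟨fun x y => ?_⟩, ⟨1⟩⟩
      apply Subtype.ext
      ext i
      exact i.elim0
    exact sylow_of_embedding r 0 (r ^ a) hN0 1 (Function.injective_of_subsingleton _)
      (by rw [hcard1]; simp) P
  · have hmul : Nat.card (Matrix.SpecialLinearGroup (Fin n) F) * (Fintype.card F - 1) =
        ∏ i : Fin n, (Fintype.card F ^ n - Fintype.card F ^ (i : ℕ)) := by
      rw [card_SL_mul n hnpos, Matrix.card_GL_field]
    have hfacSL : (Nat.card (Matrix.SpecialLinearGroup (Fin n) F)).factorization r +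
        (if d ∣ 1 then a else 0) = (n / d) * a := by
      have h1 : (Nat.card (Matrix.SpecialLinearGroup (Fin n) F) *
          (Fintype.card F - 1)).factorization r =
          (∏ i : Fin n, (Fintype.card F ^ n - Fintype.card F ^ (i : ℕ))).factorization r := by
        rw [hmul]
      rw [factorization_card_GL hq2 hrq hd hrn,
        Nat.factorization_mul Nat.card_pos.ne' (by omega), Finsupp.add_apply,
        Nat.factorization_def _ hr] at h1
      have h2 := padicVal_pow_sub_one_eq (r := r) hq2 hd (j := 1) le_rfl hr.one_lt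
      rw [pow_one] at h2
      rw [Nat.factorization_def _ hr, h2] at h1
      rw [Nat.factorization_def _ hr]
      exact h1
    by_cases hd1 : d = 1
    · rw [hd1] at hfacSL hN ⊢
      rw [if_pos dvd_rfl, Nat.div_one] at hfacSL
      rw [pow_one] at hN
      obtain ⟨m, rfl⟩ : ∃ m, n = m + 1 := ⟨n - 1, by omega⟩
      have hc : ((Finset.Icc 2 (m + 1)).filter (fun i => 1 ∣ i)).card = m := by
        rw [Finset.filter_true_of_mem (fun i _ => one_dvd i), Nat.card_Icc]
        omega
      rw [hc]
      obtain ⟨Ψ, hΨ⟩ := exists_embedding_diag (F := F) m (r ^ a) hN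
      refine sylow_of_embedding r m (r ^ a) hN0 Ψ hΨ ?_ P
      have h3 : (Nat.card (Matrix.SpecialLinearGroup (Fin (m + 1)) F)).factorization r
          = m * a := by
        have : (m + 1) * a = m * a + a := by ring
        omega
      rw [h3, ← pow_mul, mul_comm]
    · have hd2 : 2 ≤ d := by omega
      have hnd : ¬ d ∣ 1 := by
        intro h
        exact hd1 (Nat.dvd_one.1 h)
      rw [if_neg hnd, add_zero] at hfacSL
      have hc : ((Finset.Icc 2 n).filter (fun i => d ∣ i)).card = n / d := by
        rw [← Nat.card_multiples' n d]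
        congr 1
        ext i
        simp only [Finset.mem_filter, Finset.mem_Icc, Finset.mem_range, Nat.succ_eq_add_one]
        constructor
        · rintro ⟨⟨h1, h2⟩, h3⟩
          exact ⟨by omega, by omega, h3⟩
        · rintro ⟨h1, h2, h3⟩
          have := Nat.le_of_dvd (by omega) h3
          exact ⟨⟨by omega, by omega⟩, h3⟩
      rw [hc]
      have hr1 : ¬ r ∣ Fintype.card F - 1 := by
        intro h
        have h2 := padicVal_pow_sub_one_eq (r := r) hq2 hd (j := 1) le_rfl hr.one_lt
        rw [pow_one, if_neg hnd] at h2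
        have h3 : 1 ≤ padicValNat r (Fintype.card F - 1) :=
          one_le_padicValNat_of_dvd (by omega) h
        omega
      have hcop : Nat.Coprime (r ^ a) (Fintype.card F - 1) :=
        Nat.Coprime.pow_left a ((Nat.Prime.coprime_iff_not_dvd hr).2 hr1)
      obtain ⟨Ψ, hΨ⟩ := exists_embedding_SL (F := F) n d (n / d) hd (Nat.div_mul_le_self n d)
        (r ^ a) hN0 hN hcop
      refine sylow_of_embedding r (n / d) (r ^ a) hN0 Ψ hΨ ?_ P
      rw [hfacSL, ← pow_mul, mul_comm]

end SylowGL
end Cfsg.Agent.Lib.Helper15
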