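import Cfsg.Agent.Lib.Helper4.SuzC2
import Cfsg.Agent.Lib.Helper4.Suz10
import Cfsg.Agent.Lib.Helper21.SzBasic

set_option autoImplicit false

namespace Cfsg.Agent.Lib.Helper15
namespace SzBridge

open Matrix Cfsg.Lie
open Cfsg.Agent.Lib.Helper4.Suz
open Cfsg.Agent.Lib.Helper21.Sz4

variable {F : Type*} [Field F]

theorem colC_iff_isForm (A : Matrix (Fin 4) (Fin 4) F) : ColC A ↔ IsForm A := by
  unfold IsForm ColC
  constructor
  · intro h
    ext i j
    have := h i j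
    fin_cases i <;> fin_cases j <;>
      simp [wMat, Matrix.mul_apply, Fin.sum_univ_four, Matrix.transpose_apply, dl, Fin.rev]
        at this ⊢ <;>
      linear_combination this
  · intro h i j
    have := congrFun (congrFun h i) j
    fin_cases i <;> fin_cases j <;>
      simp [wMat, Matrix.mul_apply, Fin.sum_univ_four, Matrix.transpose_apply, dl, Fin.rev]
        at this ⊢ <;>
      linear_combination this

theorem det_of_isForm (D : Dat F) {A : Matrix (Fin 4) (Fin 4) F} (h : IsForm A) : A.det = 1 := by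
  unfold IsForm at h
  have h1 := congrArg Matrix.det h
  rw [Matrix.det_mul, Matrix.det_mul, Matrix.det_transpose, det_wMat, mul_one] at h1
  exact D.sq_eq_one (by rw [pow_two]; exact h1)

theorem sigma_tau (D : Dat F) (x : F) : D.σ (D.τ x) = x := by
  have h2 := D.two
  have h1 : D.σ (D.τ x) ^ 2 = x ^ 2 := by
    rw [← map_pow, D.hτ, D.hσ]
  have h3 : (D.σ (D.τ x) - x) ^ 2 = 0 := by
    linear_combination h1 + (x ^ 2 - D.σ (D.τ x) * x) * h2
  exact sub_eq_zero.1 (pow_eq_zero_iff (by norm_num) |>.1 h3)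

theorem star4_u (D : Dat F) (a b : F) : star4 (D.uMat a b) = (D.uMat a b).map D.σ := by
  have h2 := D.two
  ext p r
  fin_cases p <;> fin_cases r <;>
    simp [star4, pairOf, Dat.uMat, Dat.f, D.hσ] <;>
    first
      | done
      | (ring_nf; done)
      | skip
  · linear_combination (-(a ^ 2 * D.σ a + D.σ b)) * h2
  · linear_combination (-(a ^ 2 * D.σ a ^ 2 + D.σ a * D.σ b)) * h2
  · linear_combination (-(D.σ b)) * h2

theorem star4_h (D : Dat F) (k : Fˣ) : star4 (D.hMat k) = (D.hMat k).map D.σ := by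
  have h1 := D.τ_ne k
  have h2 := k.ne_zero
  have h3 := sigma_tau D (k : F)
  have h4 := D.hτ (k : F)
  ext p r
  fin_cases p <;> fin_cases r <;>
    simp [star4, pairOf, Dat.hMat, h3]
  · linear_combination (k : F) * h4
  · rw [← h4]
    field_simp

theorem star4_w (D : Dat F) : star4 (wMat F) = (wMat F).map D.σ := by
  have h2 := D.two
  ext p r
  fin_cases p <;> fin_cases r <;>
    simp [star4, pairOf, wMat]
  all_goals linear_combination (-1 : F) * h2

/-- The two defining conditions of the Suzuki group, for a matrix. -/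
def Good (D : Dat F) (A : Matrix (Fin 4) (Fin 4) F) : Prop := ColC A ∧ star4 A = A.map D.σ

theorem Good.mul (D : Dat F) {A B : Matrix (Fin 4) (Fin 4) F} (hA : Good D A) (hB : Good D B) :
    Good D (A * B) := by
  have : CharP F 2 := CharTwo.of_one_ne_zero_of_two_eq_zero one_ne_zero D.two
  refine ⟨(colC_iff_isForm _).2
    (((colC_iff_isForm _).1 hA.1).mul ((colC_iff_isForm _).1 hB.1)), ?_⟩
  rw [star4_mul _ _ (rowC_of_colC _ hA.1) hB.1, hA.2, hB.2, Matrix.map_mul]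

theorem good_of_mem [Finite F] (D : Dat F) (hI : D.Indep) {g : SpecialLinearGroup (Fin 4) F}
    (hg : g ∈ D.G) : Good D g.1 := by
  have gu : ∀ a b, Good D (D.uMat a b) :=
    fun a b => ⟨(colC_iff_isForm _).2 (D.isForm_u a b), star4_u D a b⟩
  have gh : ∀ k, Good D (D.hMat k) :=
    fun k => ⟨(colC_iff_isForm _).2 (D.isForm_h k), star4_h D k⟩
  have gw : Good D (wMat F) := ⟨(colC_iff_isForm _).2 isForm_w, star4_w D⟩
  rcases D.cases hI hg with ⟨a, b, k, rfl⟩ | ⟨a, b, c, d, k, rfl⟩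
  · exact (gu a b).mul D (gh k)
  · exact (((gu a b).mul D gw).mul D (gu c d)).mul D (gh k)

theorem col_cases (D : Dat F) {A : Matrix (Fin 4) (Fin 4) F} (h : Good D A) :
    (A 3 0 = 0 ∧ A 2 0 = 0 ∧ A 1 0 = 0) ∨
    (A 3 0 ≠ 0 ∧ A 0 0 = A 3 0 * D.f (A 2 0 / A 3 0) (A 1 0 / A 3 0)) := by
  obtain ⟨hc, hs⟩ := h
  have h2 := D.two
  have s1 : A 0 0 * A 2 1 - A 2 0 * A 0 1 = D.σ (A 1 0) := congrFun (congrFun hs 1) 0
  have s2 : A 1 0 * A 3 1 - A 3 0 * A 1 1 = D.σ (A 2 0) := congrFun (congrFun hs 2) 0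
  have s3 : A 2 0 * A 3 1 - A 3 0 * A 2 1 = D.σ (A 3 0) := congrFun (congrFun hs 3) 0
  have hc01 : A 0 0 * A 3 1 + A 1 0 * A 2 1 + A 2 0 * A 1 1 + A 3 0 * A 0 1 = 0 := by
    have := hc 0 1
    simpa [dl, Fin.rev] using this
  have key : A 0 0 * A 3 0 * D.σ (A 3 0) + A 3 0 ^ 2 * D.σ (A 1 0) +
      A 1 0 * A 2 0 * D.σ (A 3 0) + A 2 0 ^ 2 * D.σ (A 2 0) = 0 := by
    linear_combination (-(A 0 0 * A 3 0 + A 1 0 * A 2 0)) * s3 + (-(A 3 0) ^ 2) * s1 +
      (-(A 2 0) ^ 2) * s2 + (A 2 0 * A 3 0) * hc01 +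
      (A 1 0 * A 2 0 ^ 2 * A 3 1 -
        A 2 0 * A 3 0 * (A 3 0 * A 0 1 + A 1 0 * A 2 1 + A 2 0 * A 1 1)) * h2
  by_cases h3 : A 3 0 = 0
  · left
    have k2 : A 2 0 ^ 2 * D.σ (A 2 0) = 0 := by
      have := key
      rw [h3, map_zero] at this
      linear_combination this
    have hc2 : A 2 0 = 0 := by
      rcases mul_eq_zero.1 k2 with h | h
      · exact pow_eq_zero_iff (by norm_num) |>.1 h
      · exact (map_eq_zero D.σ).1 h
    refine ⟨h3, hc2, ?_⟩
    by_contra hc1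
    rw [h3] at s2 hc01
    rw [hc2] at s2 hc01 s1
    rw [map_zero] at s2
    have hd3 : A 3 1 = 0 := by
      have : A 1 0 * A 3 1 = 0 := by linear_combination s2
      rcases mul_eq_zero.1 this with h | h
      · exact absurd h hc1
      · exact h
    have hd2 : A 2 1 = 0 := by
      have : A 1 0 * A 2 1 = 0 := by
        rw [hd3] at hc01
        linear_combination hc01
      rcases mul_eq_zero.1 this with h | h
      · exact absurd h hc1
      · exact h
    rw [hd2] at s1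
    have : D.σ (A 1 0) = 0 := by linear_combination -s1
    exact hc1 ((map_eq_zero D.σ).1 this)
  · right
    refine ⟨h3, ?_⟩
    have hσ3 : D.σ (A 3 0) ≠ 0 := (map_ne_zero D.σ).2 h3
    rw [Dat.f, map_div₀, map_div₀]
    field_simp
    linear_combination key - (A 3 0 ^ 2 * D.σ (A 1 0) + D.σ (A 3 0) * A 2 0 * A 1 0 +
      A 2 0 ^ 2 * D.σ (A 2 0)) * h2

theorem smul_inf_mem (D : Dat F) (M : SpecialLinearGroup (Fin 4) F) (h : Good D M.1) :
    M • inf F ∈ D.ovoid := by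
  have hcol : M.1 *ᵥ ![1, 0, 0, 0] = ![M.1 0 0, M.1 1 0, M.1 2 0, M.1 3 0] := by
    ext i
    fin_cases i <;> simp [Matrix.mulVec, dotProduct, Fin.sum_univ_four]
  rcases col_cases D h with ⟨h3, h2, h1⟩ | ⟨h3, h0⟩
  · left
    apply smul_mk_eq _ _ _ (M.1 0 0)
    rw [hcol, h3, h2, h1]
    ext i
    fin_cases i <;> simp
  · right
    refine ⟨M.1 2 0 / M.1 3 0, M.1 1 0 / M.1 3 0, ?_⟩
    apply smul_mk_eq _ _ _ (M.1 3 0)
    rw [hcol]
    ext i
    fin_cases i
    · simp [Dat.vec]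
      exact h0
    · simp [Dat.vec]
      field_simp
    · simp [Dat.vec]
      field_simp
    · simp [Dat.vec]

theorem mem_G_of_good [Finite F] (D : Dat F) (hI : D.Indep) (M : SpecialLinearGroup (Fin 4) F)
    (h : Good D M.1) : M ∈ D.G := by
  rw [D.mem_G_iff]
  intro p hp
  rw [← D.orbit_inf] at hp
  obtain ⟨g, rfl⟩ := hp
  have : M • (g • inf F) = (M * g.1) • inf F := by
    rw [mul_smul]
    rfl
  rw [this]
  exact smul_inf_mem D _ (h.mul D (good_of_mem D hI g.2))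

theorem map_sigma (D : Dat F) (e : ℕ) (hσ : ∀ x, D.σ x = x ^ e) (A : Matrix (Fin 4) (Fin 4) F) :
    A.map D.σ = A.map (fun x => x ^ e) := by
  ext i j
  simp [hσ]

theorem cond_iff_good (D : Dat F) (e : ℕ) (hσ : ∀ x, D.σ x = x ^ e) (g : GL (Fin 4) F) :
    Cond e g ↔ Good D (g : Matrix (Fin 4) (Fin 4) F) := by
  unfold Cond Good
  rw [map_sigma D e hσ]
  constructor
  · rintro ⟨h1, h2⟩
    exact ⟨colC_of_mem h1, h2⟩
  · rintro ⟨h1, h2⟩
    exact ⟨mem_of_colC h1, h2⟩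

theorem mem_Sz_iff_good (D : Dat F) (e : ℕ) (he : e ≠ 0) (hσ : ∀ x, D.σ x = x ^ e)
    (g : GL (Fin 4) F) : g ∈ Cfsg.Lie.Sz F e ↔ Good D (g : Matrix (Fin 4) (Fin 4) F) := by
  have : CharP F 2 := CharTwo.of_one_ne_zero_of_two_eq_zero one_ne_zero D.two
  have hadd : ∀ x y : F, (x + y) ^ e = x ^ e + y ^ e := by
    intro x y
    rw [← hσ, ← hσ, ← hσ, map_add]
  rw [mem_Sz_iff e he hadd, cond_iff_good D e hσ]

/-- The homomorphism from the group of the ovoid to the matrix Suzuki group. -/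
def szHom [Finite F] (D : Dat F) (hI : D.Indep) (e : ℕ) (he : e ≠ 0) (hσ : ∀ x, D.σ x = x ^ e) :
    D.G →* Cfsg.Lie.Sz F e where
  toFun g := ⟨SpecialLinearGroup.toGL g.1,
    (mem_Sz_iff_good D e he hσ _).2 (good_of_mem D hI g.2)⟩
  map_one' := Subtype.ext (map_one _)
  map_mul' _ _ := Subtype.ext (map_mul _ _ _)

theorem szHom_bijective [Finite F] (D : Dat F) (hI : D.Indep) (e : ℕ) (he : e ≠ 0)
    (hσ : ∀ x, D.σ x = x ^ e) : Function.Bijective (szHom D hI e he hσ) := by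
  constructor
  · intro a b h
    have h1 : SpecialLinearGroup.toGL a.1 = SpecialLinearGroup.toGL b.1 :=
      congrArg Subtype.val h
    exact Subtype.ext (SpecialLinearGroup.toGL_injective h1)
  · rintro ⟨g, hg⟩
    have hgood := (mem_Sz_iff_good D e he hσ g).1 hg
    have hdet : (g : Matrix (Fin 4) (Fin 4) F).det = 1 :=
      det_of_isForm D ((colC_iff_isForm _).1 hgood.1)
    refine ⟨⟨⟨(g : Matrix (Fin 4) (Fin 4) F), hdet⟩, mem_G_of_good D hI _ hgood⟩, ?_⟩
    apply Subtype.ext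
    apply Units.ext
    rfl

/-- The group of the ovoid is isomorphic to the matrix Suzuki group. -/
noncomputable def szEquiv [Finite F] (D : Dat F) (hI : D.Indep) (e : ℕ) (he : e ≠ 0)
    (hσ : ∀ x, D.σ x = x ^ e) : D.G ≃* Cfsg.Lie.Sz F e :=
  MulEquiv.ofBijective (szHom D hI e he hσ) (szHom_bijective D hI e he hσ)

/-- The isomorphism for the field of order `2 ^ (2 * m + 1)`. -/
noncomputable def equiv {F : Type*} [Field F] [Fintype F] {m : ℕ} (hm : 1 ≤ m)
    (hF : Fintype.card F = 2 ^ (2 * m + 1)) : (dat hF).G ≃* Cfsg.Lie.Sz F (2 ^ (m + 1)) :=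
  szEquiv (dat hF) (dat_indep hm hF) (2 ^ (m + 1)) (by positivity) (dat_σ hF)

end SzBridge
end Cfsg.Agent.Lib.Helper15
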