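import Cfsg.Agent.Lib.Helper4.Suz10
import Cfsg.Agent.Lib.Helper4.SuzC2

set_option autoImplicit false

namespace Cfsg.Agent.Lib.Helper15
namespace SzG

open Matrix
open Cfsg.Agent.Lib.Helper4.Suz

variable {F : Type*} [Field F] [Finite F] (D : Dat F)

/-- The unipotent elements, inside the group of the ovoid. -/
def gu (a b : F) : D.G := ⟨D.u a b, D.u_mem a b⟩

/-- The torus elements, inside the group of the ovoid. -/
def gh (k : Fˣ) : D.G := ⟨D.h k, D.h_mem k⟩

/-- The involution, inside the group of the ovoid. -/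
def gw : D.G := ⟨w F, D.w_mem⟩

theorem gu_mul (hI : D.Indep) (a b c d : F) :
    gu D a b * gu D c d = gu D (a + c) (b + d + D.σ a * c) :=
  Subtype.ext (D.u_mul hI a b c d)

theorem gu_zero (hI : D.Indep) : gu D 0 0 = 1 := Subtype.ext (D.u_zero_zero hI)

theorem gu_inv (hI : D.Indep) (a b : F) : (gu D a b)⁻¹ = gu D a (b + a * D.σ a) :=
  Subtype.ext (D.u_inv hI a b)

theorem gh_gu (hI : D.Indep) (k : Fˣ) (a b : F) :
    gh D k * gu D a b = gu D ((k : F) * a) ((k : F) * D.σ k * b) * gh D k :=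
  Subtype.ext (D.h_u hI k a b)

theorem gh_mul (k k' : Fˣ) : gh D (k * k') = gh D k * gh D k' := Subtype.ext (D.h_mul k k')

theorem gh_one : gh D 1 = 1 := Subtype.ext D.h_one

theorem gh_inv (k : Fˣ) : (gh D k)⁻¹ = gh D k⁻¹ := Subtype.ext (D.h_inv k)

theorem gw_gw : gw D * gw D = 1 := Subtype.ext w_mul_w

theorem gw_inv : (gw D)⁻¹ = gw D := inv_eq_of_mul_eq_one_left (gw_gw D)

theorem gw_gh (k : Fˣ) : gw D * gh D k = gh D k⁻¹ * gw D := Subtype.ext (D.w_h k)

theorem gh_gw (k : Fˣ) : gh D k * gw D = gw D * gh D k⁻¹ := by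
  have := gw_gh D k⁻¹
  rw [inv_inv] at this
  exact this.symm

/-- The torus as a homomorphism. -/
def ghHom : Fˣ →* D.G where
  toFun := gh D
  map_one' := gh_one D
  map_mul' := gh_mul D

theorem gu_inj {a b a' b' : F} (h : gu D a b = gu D a' b') : a = a' ∧ b = b' :=
  D.u_inj (congrArg Subtype.val h)

theorem gugh_inj {a b a' b' : F} {k k' : Fˣ} (h : gu D a b * gh D k = gu D a' b' * gh D k') :
    a = a' ∧ b = b' ∧ k = k' :=
  D.uh_inj (congrArg Subtype.val h)

theorem cases (hI : D.Indep) (g : D.G) :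
    (∃ a b k, g = gu D a b * gh D k) ∨
      (∃ a b c d k, g = gu D a b * gw D * gu D c d * gh D k) := by
  rcases D.cases hI g.2 with ⟨a, b, k, e⟩ | ⟨a, b, c, d, k, e⟩
  · exact Or.inl ⟨a, b, k, Subtype.ext e⟩
  · exact Or.inr ⟨a, b, c, d, k, Subtype.ext e⟩

theorem fix_inf (hI : D.Indep) (g : D.G) (h : g.1 • inf F = inf F) :
    ∃ a b k, g = gu D a b * gh D k := by
  obtain ⟨a, b, k, e⟩ := D.stab_inf hI g.2 h
  exact ⟨a, b, k, Subtype.ext e⟩

theorem gugh_inf (a b : F) (k : Fˣ) : (gu D a b * gh D k).1 • inf F = inf F := D.uh_inf a b k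

theorem gu_ne_one (hI : D.Indep) {a b : F} (h : ¬ (a = 0 ∧ b = 0)) : gu D a b ≠ 1 := by
  intro e
  rw [← gu_zero D hI] at e
  exact h (gu_inj D e)

/-- Conjugation of a unipotent element by a torus element. -/
theorem gh_conj (hI : D.Indep) (k : Fˣ) (a b : F) :
    gh D k * gu D a b * (gh D k)⁻¹ = gu D ((k : F) * a) ((k : F) * D.σ k * b) := by
  rw [gh_gu D hI, mul_inv_cancel_right]

theorem gu_sq (hI : D.Indep) (a b : F) : gu D a b * gu D a b = gu D 0 (D.σ a * a) := by
  rw [gu_mul D hI, D.add_self, D.add_self, zero_add]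

theorem gu_fix {a b : F} (h : ¬ (a = 0 ∧ b = 0)) (g : D.G)
    (hg : (gu D a b).1 • (g.1 • inf F) = g.1 • inf F) : g.1 • inf F = inf F := by
  rcases D.smul_mem g.2 D.inf_mem with e | ⟨x, y, e⟩
  · exact e
  · exfalso
    rw [e] at hg
    have h1 : D.u a b • D.pt x y = D.pt x y := hg
    rw [D.u_pt] at h1
    obtain ⟨h2, h3⟩ := D.pt_inj h1
    have ha : a = 0 := by linear_combination h2
    subst ha
    have hb : b = 0 := by
      simp only [map_zero, zero_mul, add_zero] at h3
      linear_combination h3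
    exact h ⟨rfl, hb⟩

/-- A subgroup containing the three kinds of elements is everything. -/
theorem top_of_uhw (hI : D.Indep) (K : Subgroup D.G) (hu : ∀ a b, gu D a b ∈ K)
    (hh : ∀ k, gh D k ∈ K) (hw : gw D ∈ K) : K = ⊤ := by
  rw [eq_top_iff]
  intro g _
  rcases cases D hI g with ⟨a, b, k, rfl⟩ | ⟨a, b, c, d, k, rfl⟩
  · exact K.mul_mem (hu a b) (hh k)
  · exact K.mul_mem (K.mul_mem (K.mul_mem (hu a b) hw) (hu c d)) (hh k)

/-- A subgroup containing the torus and one unipotent element outside the centre contains all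
unipotent elements. -/
theorem gu_mem_of (hI : D.Indep) (K : Subgroup D.G) (hh : ∀ k, gh D k ∈ K) {c d : F}
    (hc : c ≠ 0) (hcd : gu D c d ∈ K) (a b : F) : gu D a b ∈ K := by
  have hconj : ∀ (k : Fˣ) (x y : F), gu D x y ∈ K →
      gu D ((k : F) * x) ((k : F) * D.σ k * y) ∈ K := by
    intro k x y hxy
    rw [← gh_conj D hI]
    exact K.mul_mem (K.mul_mem (hh k) hxy) (K.inv_mem (hh k))
  have hσc : D.σ c ≠ 0 := (map_ne_zero D.σ).2 hc
  have hz : gu D 0 (D.σ c * c) ∈ K := by
    rw [← gu_sq D hI c d]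
    exact K.mul_mem hcd hcd
  have hcen : ∀ e, gu D 0 e ∈ K := by
    intro e
    by_cases he : e = 0
    · subst he
      rw [gu_zero D hI]
      exact K.one_mem
    · obtain ⟨k, hk⟩ := D.exists_mul_sigma (e / (D.σ c * c))
      have hk0 : k ≠ 0 := by
        rintro rfl
        rw [zero_mul] at hk
        exact (div_ne_zero he (mul_ne_zero hσc hc)) hk.symm
      have := hconj (Units.mk0 k hk0) 0 (D.σ c * c) hz
      have e1 : ((Units.mk0 k hk0 : Fˣ) : F) * D.σ ((Units.mk0 k hk0 : Fˣ) : F) * (D.σ c * c) = e := by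
        rw [Units.val_mk0, hk]
        field_simp
      rw [e1, mul_zero] at this
      exact this
  by_cases ha : a = 0
  · subst ha
    exact hcen b
  · have h1 := hconj (Units.mk0 (a / c) (div_ne_zero ha hc)) c d hcd
    have e1 : ((Units.mk0 (a / c) (div_ne_zero ha hc) : Fˣ) : F) * c = a := by
      rw [Units.val_mk0]
      field_simp
    rw [e1] at h1
    have h2 := K.mul_mem h1 (hcen (b + (((Units.mk0 (a / c) (div_ne_zero ha hc) : Fˣ) : F) *
      D.σ ((Units.mk0 (a / c) (div_ne_zero ha hc) : Fˣ) : F) * d)))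
    rw [gu_mul D hI] at h2
    have e2 : ∀ t : F, t + (b + t) + D.σ a * 0 = b := by
      intro t
      have := D.add_self t
      linear_combination this
    rw [e2, add_zero] at h2
    exact h2

/-- The group of the ovoid is generated by two elements. -/
theorem two_gen (hI : D.Indep) (k0 : F) (hk0 : k0 ≠ 0) (hk1 : k0 ≠ 1) :
    ∃ x y : D.G, Subgroup.closure ({x, y} : Set D.G) = ⊤ := by
  obtain ⟨κ, hκ⟩ := IsCyclic.exists_generator (α := Fˣ)
  refine ⟨gh D κ, gu D 1 0 * gw D, ?_⟩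
  set K := Subgroup.closure ({gh D κ, gu D 1 0 * gw D} : Set D.G) with hK
  have ha : gh D κ ∈ K := Subgroup.subset_closure (by simp)
  have hb : gu D 1 0 * gw D ∈ K := Subgroup.subset_closure (by simp)
  have hh : ∀ k, gh D k ∈ K := by
    intro k
    obtain ⟨n, rfl⟩ := Subgroup.mem_zpowers_iff.1 (hκ k)
    have : gh D (κ ^ n) = (gh D κ) ^ n := map_zpow (ghHom D) κ n
    rw [this]
    exact K.zpow_mem ha n
  set k : Fˣ := Units.mk0 k0 hk0 with hk
  have hkv : (k : F) = k0 := rfl
  have key : gh D k * (gu D 1 0 * gw D) =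
      gu D (k0 + k0 * k0) (D.σ (k0 + k0 * k0) * (k0 * k0)) * gh D (k * k) *
        (gu D 1 0 * gw D) * gh D k := by
    have e1 : gh D k * (gu D 1 0 * gw D) = gu D k0 0 * gh D k * gw D := by
      rw [← mul_assoc, gh_gu D hI, hkv, mul_one, mul_zero]
    have e2 : gu D (k0 + k0 * k0) (D.σ (k0 + k0 * k0) * (k0 * k0)) * gh D (k * k) *
        (gu D 1 0 * gw D) * gh D k = gu D k0 0 * gh D k * gw D := by
      have e3 : gh D (k * k) * (gu D 1 0 * gw D) * gh D k =
          gu D (k0 * k0) 0 * gh D k * gw D := by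
        rw [← mul_assoc, gh_gu D hI, mul_one, mul_zero, mul_assoc, mul_assoc, gw_gh, ← mul_assoc,
          ← mul_assoc, mul_assoc (gu D _ _), ← gh_mul, mul_inv_cancel_right]
        simp [hkv]
      have e4 : gu D (k0 + k0 * k0) (D.σ (k0 + k0 * k0) * (k0 * k0)) * gu D (k0 * k0) 0 =
          gu D k0 0 := by
        rw [gu_mul D hI]
        have h1 : k0 + k0 * k0 + k0 * k0 = k0 := by
          have := D.add_self (k0 * k0)
          linear_combination this
        have h2 : D.σ (k0 + k0 * k0) * (k0 * k0) + 0 + D.σ (k0 + k0 * k0) * (k0 * k0) = 0 := by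
          have := D.add_self (D.σ (k0 + k0 * k0) * (k0 * k0))
          linear_combination this
        rw [h1, h2]
      calc gu D (k0 + k0 * k0) (D.σ (k0 + k0 * k0) * (k0 * k0)) * gh D (k * k) *
            (gu D 1 0 * gw D) * gh D k
          = gu D (k0 + k0 * k0) (D.σ (k0 + k0 * k0) * (k0 * k0)) *
              (gh D (k * k) * (gu D 1 0 * gw D) * gh D k) := by simp only [mul_assoc]
        _ = gu D (k0 + k0 * k0) (D.σ (k0 + k0 * k0) * (k0 * k0)) *
              (gu D (k0 * k0) 0 * gh D k * gw D) := by rw [e3]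
        _ = gu D k0 0 * gh D k * gw D := by rw [← e4]; simp only [mul_assoc]
    rw [e1, e2]
  have hmem : gu D (k0 + k0 * k0) (D.σ (k0 + k0 * k0) * (k0 * k0)) ∈ K := by
    have h1 : gu D (k0 + k0 * k0) (D.σ (k0 + k0 * k0) * (k0 * k0)) =
        gh D k * (gu D 1 0 * gw D) * (gh D k)⁻¹ * (gu D 1 0 * gw D)⁻¹ * (gh D (k * k))⁻¹ := by
      rw [key]
      group
    rw [h1]
    exact K.mul_mem (K.mul_mem (K.mul_mem (K.mul_mem (hh k) hb) (K.inv_mem (hh k)))
      (K.inv_mem hb)) (K.inv_mem (hh _))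
  have hne : k0 + k0 * k0 ≠ 0 := by
    intro h
    have h1 : k0 * (1 + k0) = 0 := by linear_combination h
    rcases mul_eq_zero.1 h1 with h2 | h2
    · exact hk0 h2
    · apply hk1
      have := D.two
      linear_combination h2 - this
  have hu : ∀ a b, gu D a b ∈ K := gu_mem_of D hI K hh hne hmem
  have hw : gw D ∈ K := by
    have : gw D = (gu D 1 0)⁻¹ * (gu D 1 0 * gw D) := by group
    rw [this]
    exact K.mul_mem (K.inv_mem (hu 1 0)) hb
  exact top_of_uhw D hI K hu hh hw

end SzG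
end Cfsg.Agent.Lib.Helper15
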