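import Cfsg.Agent.Lib.Helper15.SzG

set_option autoImplicit false

namespace Cfsg.Agent.Lib.Helper15
namespace SzG

open Matrix
open Cfsg.Agent.Lib.Helper4.Suz
open scoped Pointwise

variable {F : Type*} [Field F] [Finite F] (D : Dat F)

/-- The unipotent subgroup inside the group of the ovoid. -/
def gU (hI : D.Indep) : Subgroup D.G where
  carrier := {g | ∃ a b, g = gu D a b}
  mul_mem' := by
    rintro _ _ ⟨a, b, rfl⟩ ⟨c, d, rfl⟩
    exact ⟨_, _, gu_mul D hI a b c d⟩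
  one_mem' := ⟨0, 0, (gu_zero D hI).symm⟩
  inv_mem' := by
    rintro _ ⟨a, b, rfl⟩
    exact ⟨_, _, gu_inv D hI a b⟩

theorem mem_gU (hI : D.Indep) {g : D.G} : g ∈ gU D hI ↔ ∃ a b, g = gu D a b := Iff.rfl

/-- The stabiliser of the point at infinity inside the group of the ovoid. -/
def gB : Subgroup D.G where
  carrier := {g | g.1 • inf F = inf F}
  mul_mem' := by
    intro a b ha hb
    show (a.1 * b.1) • inf F = inf F
    rw [mul_smul]
    have hb' : b.1 • inf F = inf F := hb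
    rw [hb']
    exact ha
  one_mem' := one_smul _ _
  inv_mem' := by
    intro a ha
    show (a.1)⁻¹ • inf F = inf F
    rw [inv_smul_eq_iff]
    exact (ha : a.1 • inf F = inf F).symm

theorem mem_gB (hI : D.Indep) {g : D.G} : g ∈ gB D ↔ ∃ a b k, g = gu D a b * gh D k := by
  constructor
  · intro h
    exact fix_inf D hI g h
  · rintro ⟨a, b, k, rfl⟩
    exact gugh_inf D a b k

theorem card_gU (hI : D.Indep) : Nat.card (gU D hI) = Nat.card F ^ 2 := by
  have hbij : Function.Bijective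
      (fun p : F × F => (⟨gu D p.1 p.2, ⟨p.1, p.2, rfl⟩⟩ : gU D hI)) := by
    constructor
    · rintro ⟨a, b⟩ ⟨a', b'⟩ h
      have h1 : gu D a b = gu D a' b' := congrArg Subtype.val h
      obtain ⟨rfl, rfl⟩ := gu_inj D h1
      rfl
    · rintro ⟨g, a, b, rfl⟩
      exact ⟨(a, b), rfl⟩
  rw [← Nat.card_congr (Equiv.ofBijective _ hbij), Nat.card_prod, pow_two]

theorem exists_sylow [Fintype F] (hI : D.Indep) (n : ℕ) (hq : Fintype.card F = 2 ^ (n + 1)) :
    ∃ Q : Sylow 2 D.G, (Q : Subgroup D.G) = gU D hI := by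
  have hcU : Nat.card (gU D hI) = Fintype.card F ^ 2 := by
    rw [card_gU, Nat.card_eq_fintype_card]
  have hp : IsPGroup 2 (gU D hI) := by
    apply IsPGroup.of_card (n := 2 * (n + 1))
    rw [hcU, hq, ← pow_mul]
    congr 1
    ring
  obtain ⟨Q, hQ⟩ := hp.exists_le_sylow
  have hQc : Nat.card (Q : Subgroup D.G) ≤ Fintype.card F ^ 2 := by
    obtain ⟨j, hj⟩ := IsPGroup.iff_card.1 Q.isPGroup'
    have hdvd : Nat.card (Q : Subgroup D.G) ∣ Nat.card D.G := Subgroup.card_subgroup_dvd_card _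
    rw [hj, D.card_G hI, hq] at hdvd
    have hodd1 : Odd ((2 ^ (n + 1)) ^ 2 + 1) := ⟨2 * (2 ^ n) ^ 2, by ring⟩
    have hodd2 : Odd (2 ^ (n + 1) - 1) := by
      have h1 : 1 ≤ 2 ^ n := Nat.one_le_two_pow
      refine ⟨2 ^ n - 1, ?_⟩
      rw [pow_succ]
      omega
    have c1 : Nat.Coprime (2 ^ j) ((2 ^ (n + 1)) ^ 2 + 1) :=
      Nat.Coprime.pow_left j (Nat.coprime_two_left.2 hodd1)
    have c2 : Nat.Coprime (2 ^ j) (2 ^ (n + 1) - 1) :=
      Nat.Coprime.pow_left j (Nat.coprime_two_left.2 hodd2)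
    have d1 := c1.dvd_of_dvd_mul_left hdvd
    have d2 := c2.dvd_of_dvd_mul_right d1
    rw [hj, hq]
    exact Nat.le_of_dvd (by positivity) d2
  exact ⟨Q, (Subgroup.eq_of_le_of_card_ge hQ (by rw [hcU]; exact hQc)).symm⟩

theorem sylow_conj [Fintype F] (hI : D.Indep) (n : ℕ) (hq : Fintype.card F = 2 ^ (n + 1))
    (P : Sylow 2 D.G) :
    ∃ g : D.G, (P : Subgroup D.G) = (gU D hI).map (MulAut.conj g).toMonoidHom := by
  obtain ⟨Q, hQ⟩ := exists_sylow D hI n hq
  obtain ⟨g, hg⟩ := MulAction.exists_smul_eq D.G Q P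
  refine ⟨g, ?_⟩
  rw [← hg, ← hQ]
  rfl

theorem sylow_conj_mem [Fintype F] (hI : D.Indep) (n : ℕ) (hq : Fintype.card F = 2 ^ (n + 1))
    (P : Sylow 2 D.G) :
    ∃ g : D.G, ∀ x : D.G, x ∈ (P : Subgroup D.G) ↔ g⁻¹ * x * g ∈ gU D hI := by
  obtain ⟨g, hg⟩ := sylow_conj D hI n hq P
  refine ⟨g, fun x => ?_⟩
  rw [hg]
  constructor
  · rintro ⟨y, hy, rfl⟩
    have : g⁻¹ * (MulAut.conj g).toMonoidHom y * g = y := by
      simp [MulAut.conj_apply, mul_assoc]
    rw [this]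
    exact hy
  · intro hx
    refine ⟨g⁻¹ * x * g, hx, ?_⟩
    simp [MulAut.conj_apply, mul_assoc]

theorem conj_mem_gU (hI : D.Indep) {g h : D.G} (hg : g ∈ gB D) (hh : h ∈ gU D hI) :
    g * h * g⁻¹ ∈ gU D hI := by
  obtain ⟨a, b, k, rfl⟩ := (mem_gB D hI).1 hg
  obtain ⟨c, d, rfl⟩ := hh
  have : gu D a b * gh D k * gu D c d * (gu D a b * gh D k)⁻¹ =
      gu D a b * (gh D k * gu D c d * (gh D k)⁻¹) * (gu D a b)⁻¹ := by group
  rw [this, gh_conj D hI]
  exact (gU D hI).mul_mem ((gU D hI).mul_mem ⟨_, _, rfl⟩ ⟨_, _, rfl⟩)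
    ((gU D hI).inv_mem ⟨_, _, rfl⟩)

theorem normalizer_gU (hI : D.Indep) :
    Subgroup.normalizer ((gU D hI : Subgroup D.G) : Set D.G) = gB D := by
  ext g
  rw [Subgroup.mem_normalizer_iff]
  constructor
  · intro h
    have h1 : g * gu D 0 1 * g⁻¹ ∈ gU D hI := (h (gu D 0 1)).1 ⟨0, 1, rfl⟩
    obtain ⟨a, b, e⟩ := h1
    have hab : ¬ (a = 0 ∧ b = 0) := by
      rintro ⟨rfl, rfl⟩
      rw [gu_zero D hI] at e
      have h2 : gu D 0 1 = 1 := by
        have h3 : gu D 0 1 = g⁻¹ * (g * gu D 0 1 * g⁻¹) * g := by group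
        rw [h3, e]
        group
      exact gu_ne_one D hI (by simp) h2
    apply gu_fix D hab g
    rw [← e]
    show (g.1 * (gu D 0 1).1 * g.1⁻¹) • (g.1 • inf F) = g.1 • inf F
    rw [mul_smul, inv_smul_smul, mul_smul]
    congr 1
    exact D.u_inf 0 1
  · intro hg h
    constructor
    · intro hh
      exact conj_mem_gU D hI hg hh
    · intro hh
      have h1 := conj_mem_gU D hI ((gB D).inv_mem hg) hh
      have h2 : g⁻¹ * (g * h * g⁻¹) * g⁻¹⁻¹ = h := by group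
      rw [h2] at h1
      exact h1

theorem gw_not_mem_gB : gw D ∉ gB D := by
  intro h
  have h1 : w F • inf F = inf F := h
  rw [D.w_inf] at h1
  exact D.pt_ne_inf 0 0 h1

theorem gu_mem_gB (hI : D.Indep) (a b : F) : gu D a b ∈ gB D :=
  (mem_gB D hI).2 ⟨a, b, 1, by rw [gh_one, mul_one]⟩

theorem gh_mem_gB (hI : D.Indep) (k : Fˣ) : gh D k ∈ gB D :=
  (mem_gB D hI).2 ⟨0, 0, k, by rw [gu_zero D hI, one_mul]⟩

theorem isCoatom_gB (hI : D.Indep) : IsCoatom (gB D) := by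
  refine ⟨fun h => gw_not_mem_gB D (h ▸ Subgroup.mem_top _), fun M hM => ?_⟩
  obtain ⟨g, hgM, hgB⟩ := SetLike.exists_of_lt hM
  have hu : ∀ a b, gu D a b ∈ M := fun a b => hM.le (gu_mem_gB D hI a b)
  have hh : ∀ k, gh D k ∈ M := fun k => hM.le (gh_mem_gB D hI k)
  rcases cases D hI g with ⟨a, b, k, rfl⟩ | ⟨a, b, c, d, k, rfl⟩
  · exact absurd ((mem_gB D hI).2 ⟨a, b, k, rfl⟩) hgB
  · have hw : gw D ∈ M := by
      have : gw D = (gu D a b)⁻¹ * (gu D a b * gw D * gu D c d * gh D k) * (gh D k)⁻¹ *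
          (gu D c d)⁻¹ := by group
      rw [this]
      exact M.mul_mem (M.mul_mem (M.mul_mem (M.inv_mem (hu a b)) hgM) (M.inv_mem (hh k)))
        (M.inv_mem (hu c d))
    exact top_of_uhw D hI M hu hh hw

theorem conj_closure {G : Type*} [Group G] (S : Set G) (x : G)
    (h : ∀ s ∈ S, x * s * x⁻¹ ∈ Subgroup.closure S) {l : G} (hl : l ∈ Subgroup.closure S) :
    x * l * x⁻¹ ∈ Subgroup.closure S := by
  have : Subgroup.closure S ≤ (Subgroup.closure S).comap (MulAut.conj x).toMonoidHom := by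
    rw [Subgroup.closure_le]
    intro s hs
    exact h s hs
  exact this hl

/-- A subgroup containing the unipotent subgroup and an element interchanging the two base
points is everything. -/
theorem top_of_U_w (hI : D.Indep) (k0 : F) (hk0 : k0 ≠ 0) (hk1 : k0 ≠ 1) (K : Subgroup D.G)
    (hu : ∀ a b, gu D a b ∈ K) (k : Fˣ) (hn : gw D * gh D k ∈ K) : K = ⊤ := by
  let S : Set D.G := {g | (∃ a b, g = gu D a b) ∨ (∃ a b, g = gw D * gu D a b * gw D)}
  have hSK : Subgroup.closure S ≤ K := by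
    rw [Subgroup.closure_le]
    rintro g (⟨a, b, rfl⟩ | ⟨a, b, rfl⟩)
    · exact hu a b
    · have e5 : gw D * gu D a b * gw D = gw D * gu D a b * (gw D)⁻¹ := by rw [gw_inv]
      have e := gh_conj D hI k⁻¹ a b
      have e6 : gw D * gu D a b * gw D = (gw D * gh D k) *
          gu D (((k⁻¹ : Fˣ) : F) * a) (((k⁻¹ : Fˣ) : F) * D.σ ((k⁻¹ : Fˣ) : F) * b) *
            (gw D * gh D k)⁻¹ := by
        rw [e5, ← e, ← gh_inv]
        group
      show gw D * gu D a b * gw D ∈ K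
      rw [e6]
      exact K.mul_mem (K.mul_mem hn (hu _ _)) (K.inv_mem hn)
  set L := Subgroup.closure S with hL
  have huL : ∀ a b, gu D a b ∈ L := fun a b => Subgroup.subset_closure (Or.inl ⟨a, b, rfl⟩)
  have hvL : ∀ a b, gw D * gu D a b * gw D ∈ L :=
    fun a b => Subgroup.subset_closure (Or.inr ⟨a, b, rfl⟩)
  have hN : ∀ x : D.G, (∀ s ∈ S, x * s * x⁻¹ ∈ L) → (∀ s ∈ S, x⁻¹ * s * x⁻¹⁻¹ ∈ L) →
      x ∈ Subgroup.normalizer (L : Set D.G) := by
    intro x h1 h2
    rw [Subgroup.mem_normalizer_iff]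
    intro l
    constructor
    · intro hl
      exact conj_closure S x h1 hl
    · intro hl
      have h3 := conj_closure S x⁻¹ h2 hl
      have h4 : x⁻¹ * (x * l * x⁻¹) * x⁻¹⁻¹ = l := by group
      rw [h4] at h3
      exact h3
  have hNu : ∀ a b, gu D a b ∈ Subgroup.normalizer (L : Set D.G) := by
    intro a b
    apply hN
    · intro s hs
      exact L.mul_mem (L.mul_mem (huL a b) (Subgroup.subset_closure hs)) (L.inv_mem (huL a b))
    · intro s hs
      exact L.mul_mem (L.mul_mem (L.inv_mem (huL a b)) (Subgroup.subset_closure hs))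
        (L.inv_mem (L.inv_mem (huL a b)))
  have hNw : gw D ∈ Subgroup.normalizer (L : Set D.G) := by
    have h1 : ∀ s ∈ S, gw D * s * (gw D)⁻¹ ∈ L := by
      rintro s (⟨a, b, rfl⟩ | ⟨a, b, rfl⟩)
      · rw [gw_inv]
        exact hvL a b
      · have : gw D * (gw D * gu D a b * gw D) * (gw D)⁻¹ = gu D a b := by
          rw [mul_assoc, mul_assoc, mul_assoc, mul_inv_cancel, mul_one, ← mul_assoc, gw_gw,
            one_mul]
        rw [this]
        exact huL a b
    apply hN _ h1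
    rw [gw_inv]
    exact h1
  have hNh : ∀ k', gh D k' ∈ Subgroup.normalizer (L : Set D.G) := by
    have h1 : ∀ k' : Fˣ, ∀ s ∈ S, gh D k' * s * (gh D k')⁻¹ ∈ L := by
      rintro k' s (⟨a, b, rfl⟩ | ⟨a, b, rfl⟩)
      · rw [gh_conj D hI]
        exact huL _ _
      · have e1 : gh D k' * (gw D * gu D a b * gw D) * (gh D k')⁻¹ =
            gw D * (gh D k'⁻¹ * gu D a b * (gh D k'⁻¹)⁻¹) * gw D := by
          have e2 : gh D k' * gw D = gw D * gh D k'⁻¹ := gh_gw D k'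
          have e3 : gw D * (gh D k')⁻¹ = (gh D k'⁻¹)⁻¹ * gw D := by
            rw [gh_inv, gh_inv, inv_inv, gw_gh, inv_inv]
          calc gh D k' * (gw D * gu D a b * gw D) * (gh D k')⁻¹
              = (gh D k' * gw D) * gu D a b * (gw D * (gh D k')⁻¹) := by simp only [mul_assoc]
            _ = (gw D * gh D k'⁻¹) * gu D a b * ((gh D k'⁻¹)⁻¹ * gw D) := by rw [e2, e3]
            _ = gw D * (gh D k'⁻¹ * gu D a b * (gh D k'⁻¹)⁻¹) * gw D := by simp only [mul_assoc]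
        rw [e1, gh_conj D hI]
        exact hvL _ _
    intro k'
    apply hN _ (h1 k')
    rw [gh_inv]
    exact h1 k'⁻¹
  have hNtop : Subgroup.normalizer (L : Set D.G) = ⊤ := top_of_uhw D hI _ hNu hNh hNw
  have hnormal : L.Normal := Subgroup.normalizer_eq_top_iff.1 hNtop
  have hsimple : IsSimpleGroup D.G := D.simple hI k0 hk0 hk1
  rcases hnormal.eq_bot_or_eq_top with h | h
  · exfalso
    have h1 : gu D 1 0 ∈ L := huL 1 0
    rw [h, Subgroup.mem_bot] at h1
    exact gu_ne_one D hI (by simp) h1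
  · rw [eq_top_iff, ← h]
    exact hSK

theorem coatom_unique (hI : D.Indep) (k0 : F) (hk0 : k0 ≠ 0) (hk1 : k0 ≠ 1) (M : Subgroup D.G)
    (hM : IsCoatom M) (hU : gU D hI ≤ M) : M = gB D := by
  by_cases hle : M ≤ gB D
  · by_contra hne
    exact (isCoatom_gB D hI).1 (hM.2 _ (lt_of_le_of_ne hle hne))
  · exfalso
    obtain ⟨g, hgM, hgB⟩ := SetLike.not_le_iff_exists.1 hle
    have hu : ∀ a b, gu D a b ∈ M := fun a b => hU ⟨a, b, rfl⟩
    rcases cases D hI g with ⟨a, b, k, rfl⟩ | ⟨a, b, c, d, k, rfl⟩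
    · exact hgB ((mem_gB D hI).2 ⟨a, b, k, rfl⟩)
    · have hn : gw D * gh D k ∈ M := by
        have e1 : gw D * gh D k = (gu D a b)⁻¹ * (gu D a b * gw D * gu D c d * gh D k) *
            (gh D k⁻¹ * (gu D c d)⁻¹ * (gh D k⁻¹)⁻¹) := by
          rw [← gh_inv]
          group
        rw [e1, gu_inv D hI c d, gh_conj D hI]
        exact M.mul_mem (M.mul_mem (M.inv_mem (hu a b)) hgM) (hu _ _)
      exact hM.1 (top_of_U_w D hI k0 hk0 hk1 M hu k hn)

theorem transport_coatom {G : Type*} [Group G] (Q : Subgroup G) (g : G)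
    (h1 : IsCoatom (Subgroup.normalizer (Q : Set G)))
    (h2 : ∀ M : Subgroup G, IsCoatom M → Q ≤ M → M = Subgroup.normalizer (Q : Set G)) :
    IsCoatom (Subgroup.normalizer ((Q.map (MulAut.conj g).toMonoidHom : Subgroup G) : Set G)) ∧
    ∀ M : Subgroup G, IsCoatom M → Q.map (MulAut.conj g).toMonoidHom ≤ M →
      M = Subgroup.normalizer ((Q.map (MulAut.conj g).toMonoidHom : Subgroup G) : Set G) := by
  have hN : Subgroup.normalizer ((Q.map (MulAut.conj g).toMonoidHom : Subgroup G) : Set G) =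
      (Subgroup.normalizer (Q : Set G)).map (MulAut.conj g).toMonoidHom :=
    (Subgroup.map_equiv_normalizer_eq Q (MulAut.conj g)).symm
  rw [hN]
  refine ⟨((MulAut.conj g).mapSubgroup.isCoatom_iff _).2 h1, fun M hM hQM => ?_⟩
  have hM' : IsCoatom (M.map (MulAut.conj g).symm.toMonoidHom) :=
    ((MulAut.conj g).symm.mapSubgroup.isCoatom_iff M).2 hM
  have hQ' : Q ≤ M.map (MulAut.conj g).symm.toMonoidHom := by
    intro x hx
    refine ⟨MulAut.conj g x, hQM ⟨x, hx, rfl⟩, ?_⟩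
    simp
    group
  have h3 := h2 _ hM' hQ'
  rw [← h3, Subgroup.map_map]
  ext x
  simp

theorem sylow_main [Fintype F] (hI : D.Indep) (k0 : F) (hk0 : k0 ≠ 0) (hk1 : k0 ≠ 1) (n : ℕ)
    (hq : Fintype.card F = 2 ^ (n + 1)) (P : Sylow 2 D.G) :
    IsCoatom (Subgroup.normalizer ((P : Subgroup D.G) : Set D.G)) ∧
    ∀ M : Subgroup D.G, IsCoatom M → (P : Subgroup D.G) ≤ M →
      M = Subgroup.normalizer ((P : Subgroup D.G) : Set D.G) := by
  obtain ⟨g, hg⟩ := sylow_conj D hI n hq P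
  rw [hg]
  apply transport_coatom
  · rw [normalizer_gU]
    exact isCoatom_gB D hI
  · intro M hM hU
    rw [normalizer_gU]
    exact coatom_unique D hI k0 hk0 hk1 M hM hU

end SzG
end Cfsg.Agent.Lib.Helper15
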