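import Cfsg.Agent.Lib.Helper15.SzG2

set_option autoImplicit false

namespace Cfsg.Agent.Lib.Helper15
namespace SzG

open Matrix
open Cfsg.Agent.Lib.Helper4.Suz
open scoped Pointwise

variable {F : Type*} [Field F] [Finite F] (D : Dat F)

theorem conj_fix {a b : F} (h : ¬ (a = 0 ∧ b = 0)) (c : D.G) {a' b' : F}
    (hc : c * gu D a' b' * c⁻¹ = gu D a b) : c.1 • inf F = inf F := by
  apply gu_fix D h c
  rw [← hc]
  show (c.1 * (gu D a' b').1 * c.1⁻¹) • (c.1 • inf F) = c.1 • inf F
  rw [mul_smul, inv_smul_smul, mul_smul]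
  congr 1
  exact D.u_inf a' b'

theorem real_core (hI : D.Indep) (a b : F) (h : IsConj (gu D a b) (gu D a b)⁻¹) : a = 0 := by
  by_contra ha
  obtain ⟨c, hc⟩ := isConj_iff.1 h
  rw [gu_inv D hI] at hc
  have hfix : c.1 • inf F = inf F := conj_fix D (by tauto) c hc
  obtain ⟨c₁, d₁, k, rfl⟩ := fix_inf D hI c hfix
  have e : gu D c₁ d₁ * gh D k * gu D a b =
      gu D a (b + a * D.σ a) * (gu D c₁ d₁ * gh D k) := by
    rw [← hc]
    group
  have e' : gu D a (b + a * D.σ a) * (gu D c₁ d₁ * gh D k) =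
      gu D (a + c₁) (b + a * D.σ a + d₁ + D.σ a * c₁) * gh D k := by
    rw [← mul_assoc, gu_mul D hI]
  rw [e', mul_assoc, gh_gu D hI, ← mul_assoc, gu_mul D hI] at e
  obtain ⟨e1, e2, -⟩ := gugh_inj D e
  have hk : (k : F) = 1 := by
    have : ((k : F) - 1) * a = 0 := by linear_combination e1
    rcases mul_eq_zero.1 this with h | h
    · linear_combination h
    · exact absurd h ha
  rw [hk] at e2
  simp only [map_one, one_mul] at e2
  have e3 : D.σ c₁ * a = a * D.σ a + D.σ a * c₁ := by linear_combination e2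
  have hσa : D.σ a ≠ 0 := (map_ne_zero D.σ).2 ha
  have e4 : D.σ (c₁ / a) = 1 + c₁ / a := by
    rw [map_div₀]
    field_simp
    linear_combination e3
  have e5 : (c₁ / a) ^ 2 = c₁ / a := by
    have h1 := congrArg D.σ e4
    rw [D.hσ, map_add, map_one, e4] at h1
    have h2 := D.two
    linear_combination h1 + h2
  have e6 : c₁ / a = 0 ∨ c₁ / a = 1 := by
    have : (c₁ / a) * (c₁ / a - 1) = 0 := by linear_combination e5
    rcases mul_eq_zero.1 this with h | h
    · exact Or.inl h
    · exact Or.inr (by linear_combination h)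
  rcases e6 with h | h
  · rw [h, map_zero] at e4
    exact one_ne_zero (α := F) (by linear_combination -e4)
  · rw [h, map_one] at e4
    exact one_ne_zero (α := F) (by linear_combination -e4)

theorem real_iff [Fintype F] (hI : D.Indep) (n : ℕ) (hq : Fintype.card F = 2 ^ (n + 1))
    (P : Sylow 2 D.G) (g : D.G) (hg : g ∈ (P : Subgroup D.G)) (h1 : g ≠ 1) :
    IsConj g g⁻¹ ↔ orderOf g = 2 := by
  constructor
  · intro h
    obtain ⟨x, hx⟩ := sylow_conj_mem D hI n hq P
    obtain ⟨a, b, e⟩ := (hx g).1 hg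
    have hconj : IsConj (gu D a b) (gu D a b)⁻¹ := by
      rw [← e]
      obtain ⟨c, hc⟩ := isConj_iff.1 h
      rw [isConj_iff]
      refine ⟨x⁻¹ * c * x, ?_⟩
      have : x⁻¹ * c * x * (x⁻¹ * g * x) * (x⁻¹ * c * x)⁻¹ = x⁻¹ * (c * g * c⁻¹) * x := by group
      rw [this, hc]
      group
    have ha := real_core D hI a b hconj
    subst ha
    have hg2 : g * g = 1 := by
      have h2 : (x⁻¹ * g * x) * (x⁻¹ * g * x) = 1 := by
        rw [e, gu_sq D hI]
        simp [gu_zero D hI]
      have h3 : g * g = x * ((x⁻¹ * g * x) * (x⁻¹ * g * x)) * x⁻¹ := by group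
      rw [h3, h2]
      group
    exact orderOf_eq_prime (by rw [pow_two]; exact hg2) h1
  · intro h
    have h2 : g ^ 2 = 1 := by
      rw [← h]
      exact pow_orderOf_eq_one g
    have h3 : g⁻¹ = g := by
      rw [inv_eq_iff_mul_eq_one, ← pow_two]
      exact h2
    rw [h3]

end SzG
end Cfsg.Agent.Lib.Helper15
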