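import Cfsg.Agent.Lib.Helper15.SzG3
import Cfsg.Prelude.Def_Transfer

set_option autoImplicit false

namespace Cfsg.Agent.Lib.Helper15
namespace SzG

open Matrix
open Cfsg.Agent.Lib.Helper4.Suz
open scoped Pointwise

/-- A finite additive subgroup of a finite field of characteristic two which is equal to each of
its multiples that it meets is a multiple of a subfield. -/
theorem dvd_of_ti {F : Type*} [Field F] [Finite F] (A : AddSubgroup F) (n N : ℕ) (hn : 1 ≤ n)
    (hA : Nat.card A = 2 ^ n) (hF : Nat.card F = 2 ^ N)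
    (hti : ∀ l : F, l ≠ 0 → (∃ b ∈ A, b ≠ 0 ∧ l * b ∈ A) → ∀ b ∈ A, l * b ∈ A) : n ∣ N := by
  have hex : ∃ a₀ ∈ A, a₀ ≠ 0 := by
    by_contra hcon
    have hbot : A = ⊥ := by
      rw [AddSubgroup.eq_bot_iff_forall]
      intro x hx
      by_contra hx0
      exact hcon ⟨x, hx, hx0⟩
    rw [hbot, AddSubgroup.card_bot] at hA
    have : 2 ^ 1 ≤ 2 ^ n := Nat.pow_le_pow_right (by norm_num) hn
    omega
  obtain ⟨a₀, ha₀, ha₀ne⟩ := hex
  have hmul : ∀ x : F, x * a₀ ∈ A → ∀ b ∈ A, x * b ∈ A := by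
    intro x hx b hb
    by_cases hx0 : x = 0
    · rw [hx0, zero_mul]
      exact A.zero_mem
    · exact hti x hx0 ⟨a₀, ha₀, ha₀ne, hx⟩ b hb
  let K : Subfield F :=
    { carrier := {x | x * a₀ ∈ A}
      mul_mem' := by
        intro x y hx hy
        show x * y * a₀ ∈ A
        rw [mul_assoc]
        exact hmul x hx _ hy
      one_mem' := by
        show 1 * a₀ ∈ A
        rw [one_mul]
        exact ha₀
      add_mem' := by
        intro x y hx hy
        show (x + y) * a₀ ∈ A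
        rw [add_mul]
        exact A.add_mem hx hy
      zero_mem' := by
        show 0 * a₀ ∈ A
        rw [zero_mul]
        exact A.zero_mem
      neg_mem' := by
        intro x hx
        show -x * a₀ ∈ A
        rw [neg_mul]
        exact A.neg_mem hx
      inv_mem' := by
        intro x hx
        show x⁻¹ * a₀ ∈ A
        by_cases hx0 : x = 0
        · rw [hx0, _root_.inv_zero, zero_mul]
          exact A.zero_mem
        · let f : A → A := fun b => ⟨x * b.1, hmul x hx b.1 b.2⟩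
          have hf : Function.Injective f := by
            intro b b' h
            have h1 : x * b.1 = x * b'.1 := congrArg Subtype.val h
            exact Subtype.ext (mul_left_cancel₀ hx0 h1)
          have hfin : Finite A := Nat.finite_of_card_ne_zero (by rw [hA]; positivity)
          obtain ⟨b, hb⟩ := (Finite.injective_iff_surjective.1 hf) ⟨a₀, ha₀⟩
          have h1 : x * b.1 = a₀ := congrArg Subtype.val hb
          have h2 : x⁻¹ * a₀ = b.1 := by
            rw [← h1, ← mul_assoc, inv_mul_cancel₀ hx0, one_mul]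
          rw [h2]
          exact b.2 }
  have hK : Nat.card K = 2 ^ n := by
    rw [← hA]
    have hbij : Function.Bijective (fun x : K => (⟨x.1 * a₀, x.2⟩ : A)) := by
      constructor
      · intro x y h
        have h1 : x.1 * a₀ = y.1 * a₀ := congrArg Subtype.val h
        exact Subtype.ext (mul_right_cancel₀ ha₀ne h1)
      · rintro ⟨b, hb⟩
        refine ⟨⟨b / a₀, ?_⟩, ?_⟩
        · show b / a₀ * a₀ ∈ A
          rw [div_mul_cancel₀ _ ha₀ne]
          exact hb
        · apply Subtype.ext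
          show b / a₀ * a₀ = b
          rw [div_mul_cancel₀ _ ha₀ne]
    exact Nat.card_congr (Equiv.ofBijective _ hbij)
  have h1 : Nat.card F = Nat.card K ^ Module.finrank K F := Module.natCard_eq_pow_finrank
  rw [hF, hK, ← pow_mul] at h1
  have h2 := Nat.pow_right_injective (le_refl 2) h1
  exact ⟨_, h2⟩

/-- A finite field of order `2 ^ N` contains a subfield of order `2 ^ n` for each divisor `n`
of `N`. -/
theorem exists_ti {F : Type*} [Field F] [Fintype F] [CharP F 2] (n N : ℕ)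
    (hF : Fintype.card F = 2 ^ N) (hn : n ∣ N) (hn0 : n ≠ 0) :
    ∃ A : AddSubgroup F, Nat.card A = 2 ^ n ∧
      ∀ l : F, l ≠ 0 → (∃ b ∈ A, b ≠ 0 ∧ l * b ∈ A) → ∀ b, b ∈ A ↔ l * b ∈ A := by
  have : Fact (Nat.Prime 2) := ⟨Nat.prime_two⟩
  let _ : Algebra (ZMod 2) F := ZMod.algebra F 2
  have h1 : Module.finrank (ZMod 2) F = N := by
    have := FiniteField.pow_finrank_eq_card 2 F
    rw [hF] at this
    exact Nat.pow_right_injective (le_refl 2) this
  have h2 : Module.finrank (ZMod 2) (GaloisField 2 n) = n := GaloisField.finrank 2 hn0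
  obtain ⟨φ⟩ := FiniteField.nonempty_algHom_of_finrank_dvd (F := ZMod 2) (K := GaloisField 2 n)
    (L := F) (by rw [h1, h2]; exact hn)
  have hφ : Function.Injective φ := φ.toRingHom.injective
  refine ⟨(φ.toRingHom.range).toAddSubgroup, ?_, ?_⟩
  · have h3 : Nat.card (Set.range φ) = Nat.card (GaloisField 2 n) :=
      Nat.card_range_of_injective hφ
    rw [GaloisField.card 2 n hn0] at h3
    exact h3
  · rintro l hl ⟨b, ⟨x, rfl⟩, hb0, ⟨y, hy⟩⟩
    have hx0 : x ≠ 0 := by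
      rintro rfl
      exact hb0 (map_zero φ)
    have hl' : l = φ (y / x) := by
      have hφx : φ x ≠ 0 := hb0
      have e1 : φ (y / x) = φ y / φ x := map_div₀ φ y x
      have e2 : φ y = l * φ x := hy
      rw [e1, e2]
      field_simp
    have hyx : y / x ≠ 0 := by
      intro h
      rw [h] at hl'
      exact hl (hl'.trans (map_zero φ))
    intro b
    constructor
    · rintro ⟨z, rfl⟩
      exact ⟨y / x * z, by rw [hl']; exact map_mul φ _ _⟩
    · rintro ⟨z, hz⟩
      refine ⟨z / (y / x), ?_⟩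
      have e1 : φ (z / (y / x)) = φ z / φ (y / x) := map_div₀ φ _ _
      have e2 : φ z = l * b := hz
      show φ (z / (y / x)) = b
      rw [e1, e2, ← hl']
      field_simp

variable {F : Type*} [Field F] [Finite F] (D : Dat F)

/-- The subgroup of the centre of the unipotent subgroup attached to an additive subgroup. -/
def gZ (hI : D.Indep) (A : AddSubgroup F) : Subgroup D.G where
  carrier := {g | ∃ b ∈ A, g = gu D 0 b}
  mul_mem' := by
    rintro _ _ ⟨b, hb, rfl⟩ ⟨b', hb', rfl⟩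
    exact ⟨b + b', A.add_mem hb hb', by rw [gu_mul D hI]; simp⟩
  one_mem' := ⟨0, A.zero_mem, (gu_zero D hI).symm⟩
  inv_mem' := by
    rintro _ ⟨b, hb, rfl⟩
    exact ⟨b, hb, by rw [gu_inv D hI]; simp⟩

theorem gu0_mul (hI : D.Indep) (b b' : F) : gu D 0 b * gu D 0 b' = gu D 0 (b + b') := by
  rw [gu_mul D hI]
  simp

theorem card_gZ (hI : D.Indep) (A : AddSubgroup F) : Nat.card (gZ D hI A) = Nat.card A := by
  have hbij : Function.Bijective
      (fun b : A => (⟨gu D 0 b.1, ⟨b.1, b.2, rfl⟩⟩ : gZ D hI A)) := by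
    constructor
    · intro b b' h
      have h1 : gu D 0 b.1 = gu D 0 b'.1 := congrArg Subtype.val h
      exact Subtype.ext (gu_inj D h1).2
    · rintro ⟨g, b, hb, rfl⟩
      exact ⟨⟨b, hb⟩, rfl⟩
  exact (Nat.card_congr (Equiv.ofBijective _ hbij)).symm

theorem elem_gZ (hI : D.Indep) (A : AddSubgroup F) : Cfsg.IsElementaryAbelian 2 (gZ D hI A) := by
  refine ⟨⟨⟨?_⟩⟩, ?_⟩
  · rintro ⟨_, b, hb, rfl⟩ ⟨_, b', hb', rfl⟩
    apply Subtype.ext
    show gu D 0 b * gu D 0 b' = gu D 0 b' * gu D 0 b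
    rw [gu0_mul D hI, gu0_mul D hI, add_comm]
  · rintro _ ⟨b, hb, rfl⟩
    rw [pow_two, gu0_mul D hI, D.add_self, gu_zero D hI]

theorem conj_cen (hI : D.Indep) (c d : F) (k : Fˣ) (e : F) :
    (gu D c d * gh D k) * gu D 0 e * (gu D c d * gh D k)⁻¹ =
      gu D 0 ((k : F) * D.σ k * e) := by
  have h1 : (gu D c d * gh D k) * gu D 0 e * (gu D c d * gh D k)⁻¹ =
      gu D c d * (gh D k * gu D 0 e * (gh D k)⁻¹) * (gu D c d)⁻¹ := by group
  rw [h1, gh_conj D hI, mul_zero]
  have h2 : ∀ e' : F, gu D c d * gu D 0 e' = gu D 0 e' * gu D c d := by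
    intro e'
    rw [gu_mul D hI, gu_mul D hI]
    simp [add_comm]
  rw [h2, mul_inv_cancel_right]

theorem ti_gZ (hI : D.Indep) (A : AddSubgroup F)
    (hti : ∀ l : F, l ≠ 0 → (∃ b ∈ A, b ≠ 0 ∧ l * b ∈ A) → ∀ b, b ∈ A ↔ l * b ∈ A) (x : D.G)
    (hx : gZ D hI A ⊓ (gZ D hI A).map (MulAut.conj x).toMonoidHom ≠ ⊥) :
    x ∈ Subgroup.normalizer ((gZ D hI A : Subgroup D.G) : Set D.G) := by
  obtain ⟨⟨g, hg⟩, hg1⟩ := (Subgroup.ne_bot_iff_exists_ne_one).1 hx
  have hg1' : g ≠ 1 := fun h => hg1 (Subtype.ext h)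
  obtain ⟨⟨b, hb, rfl⟩, ⟨_, ⟨b', hb', rfl⟩, e⟩⟩ := Subgroup.mem_inf.1 hg
  have e' : x * gu D 0 b' * x⁻¹ = gu D 0 b := e
  have hb0 : b ≠ 0 := by
    rintro rfl
    exact hg1' (gu_zero D hI)
  have hfix : x.1 • inf F = inf F := conj_fix D (by tauto) x e'
  obtain ⟨c, d, k, rfl⟩ := fix_inf D hI x hfix
  rw [conj_cen D hI] at e'
  have e2 : (k : F) * D.σ k * b' = b := (gu_inj D e').2
  have hl : (k : F) * D.σ k ≠ 0 := mul_ne_zero k.ne_zero ((map_ne_zero D.σ).2 k.ne_zero)
  have hb'0 : b' ≠ 0 := by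
    rintro rfl
    rw [mul_zero] at e2
    exact hb0 e2.symm
  have key := hti _ hl ⟨b', hb', hb'0, by rw [e2]; exact hb⟩
  rw [Subgroup.mem_normalizer_iff]
  intro h
  constructor
  · rintro ⟨e, he, rfl⟩
    rw [conj_cen D hI]
    exact ⟨_, (key e).1 he, rfl⟩
  · rintro ⟨e₁, he₁, he⟩
    have h3 : gu D c d * gh D k * h * (gu D c d * gh D k)⁻¹ =
        gu D c d * gh D k * gu D 0 (((k : F) * D.σ k)⁻¹ * e₁) * (gu D c d * gh D k)⁻¹ := by
      rw [he, conj_cen D hI, mul_inv_cancel_left₀ hl]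
    have h4 : h = gu D 0 (((k : F) * D.σ k)⁻¹ * e₁) :=
      mul_left_cancel (mul_right_cancel h3)
    rw [h4]
    refine ⟨_, (key _).2 ?_, rfl⟩
    rw [mul_inv_cancel_left₀ hl]
    exact he₁

theorem ti_conv [Fintype F] (hI : D.Indep) (N : ℕ) (hq : Fintype.card F = 2 ^ (N + 1)) (n : ℕ)
    (hn : 1 ≤ n) (E : Subgroup D.G) (hE : Cfsg.IsElementaryAbelian 2 E)
    (hc : Nat.card E = 2 ^ n)
    (hti : ∀ x : D.G, E ⊓ E.map (MulAut.conj x).toMonoidHom ≠ ⊥ →
      x ∈ Subgroup.normalizer (E : Set D.G)) : n ∣ N + 1 := by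
  have hp : IsPGroup 2 E := IsPGroup.of_card hc
  obtain ⟨P, hP⟩ := hp.exists_le_sylow
  obtain ⟨g, hg⟩ := sylow_conj_mem D hI N hq P
  have hform : ∀ e ∈ E, ∃ b, e = g * gu D 0 b * g⁻¹ := by
    intro e he
    obtain ⟨a, b, hab⟩ := (hg e).1 (hP he)
    have he2 : e ^ 2 = 1 := hE.2 e he
    have h1 : gu D a b * gu D a b = 1 := by
      rw [← hab]
      have : g⁻¹ * e * g * (g⁻¹ * e * g) = g⁻¹ * (e * e) * g := by group
      rw [this, ← pow_two, he2]
      group
    rw [gu_sq D hI] at h1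
    have h2 : D.σ a * a = 0 := (gu_inj D (h1.trans (gu_zero D hI).symm)).2
    have ha : a = 0 := by
      rcases mul_eq_zero.1 h2 with h | h
      · exact (map_eq_zero D.σ).1 h
      · exact h
    subst ha
    refine ⟨b, ?_⟩
    rw [← hab]
    group
  let A : AddSubgroup F :=
    { carrier := {b | g * gu D 0 b * g⁻¹ ∈ E}
      add_mem' := by
        intro b b' hb hb'
        show g * gu D 0 (b + b') * g⁻¹ ∈ E
        have : g * gu D 0 (b + b') * g⁻¹ = (g * gu D 0 b * g⁻¹) * (g * gu D 0 b' * g⁻¹) := by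
          rw [← gu0_mul D hI]
          group
        rw [this]
        exact E.mul_mem hb hb'
      zero_mem' := by
        show g * gu D 0 0 * g⁻¹ ∈ E
        rw [gu_zero D hI, mul_one, mul_inv_cancel]
        exact E.one_mem
      neg_mem' := by
        intro b hb
        show g * gu D 0 (-b) * g⁻¹ ∈ E
        rw [D.neg_eq]
        exact hb }
  have hA : Nat.card A = 2 ^ n := by
    rw [← hc]
    have hbij : Function.Bijective (fun b : A => (⟨g * gu D 0 b.1 * g⁻¹, b.2⟩ : E)) := by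
      constructor
      · intro b b' h
        have h1 : g * gu D 0 b.1 * g⁻¹ = g * gu D 0 b'.1 * g⁻¹ := congrArg Subtype.val h
        exact Subtype.ext (gu_inj D (mul_left_cancel (mul_right_cancel h1))).2
      · rintro ⟨e, he⟩
        obtain ⟨b, rfl⟩ := hform e he
        exact ⟨⟨b, he⟩, rfl⟩
    exact Nat.card_congr (Equiv.ofBijective _ hbij)
  apply dvd_of_ti A n (N + 1) hn hA (by rw [Nat.card_eq_fintype_card, hq])
  rintro l hl ⟨b, hb, hb0, hlb⟩ b' hb'
  obtain ⟨k, hk⟩ := D.exists_mul_sigma l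
  have hk0 : k ≠ 0 := by
    rintro rfl
    rw [zero_mul] at hk
    exact hl hk.symm
  set x : D.G := g * gh D (Units.mk0 k hk0) * g⁻¹ with hx
  have hconj : ∀ e : F, x * (g * gu D 0 e * g⁻¹) * x⁻¹ = g * gu D 0 (l * e) * g⁻¹ := by
    intro e
    have h1 : x * (g * gu D 0 e * g⁻¹) * x⁻¹ =
        g * (gh D (Units.mk0 k hk0) * gu D 0 e * (gh D (Units.mk0 k hk0))⁻¹) * g⁻¹ := by
      rw [hx]
      group
    rw [h1, gh_conj D hI, mul_zero, Units.val_mk0, hk]
  have hne : E ⊓ E.map (MulAut.conj x).toMonoidHom ≠ ⊥ := by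
    rw [Subgroup.ne_bot_iff_exists_ne_one]
    refine ⟨⟨g * gu D 0 (l * b) * g⁻¹,
      Subgroup.mem_inf.2 ⟨hlb, ⟨g * gu D 0 b * g⁻¹, hb, hconj b⟩⟩⟩, ?_⟩
    intro h
    have h1 : g * gu D 0 (l * b) * g⁻¹ = 1 := congrArg Subtype.val h
    have h2 : gu D 0 (l * b) = 1 := by
      have : gu D 0 (l * b) = g⁻¹ * (g * gu D 0 (l * b) * g⁻¹) * g := by group
      rw [this, h1]
      group
    exact gu_ne_one D hI (by simp [hl, hb0]) h2
  have hxN := hti x hne
  rw [Subgroup.mem_normalizer_iff] at hxN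
  have h5 := (hxN (g * gu D 0 b' * g⁻¹)).1 hb'
  rw [hconj] at h5
  exact h5

theorem ti_iff [Fintype F] (hI : D.Indep) (N : ℕ) (hq : Fintype.card F = 2 ^ (N + 1)) (n : ℕ)
    (hn : 2 ≤ n) :
    (∃ E : Subgroup D.G, Cfsg.IsElementaryAbelian 2 E ∧ Nat.card E = 2 ^ n ∧
      ∀ x : D.G, E ⊓ E.map (MulAut.conj x).toMonoidHom ≠ ⊥ →
        x ∈ Subgroup.normalizer (E : Set D.G)) ↔ n ∣ N + 1 := by
  constructor
  · rintro ⟨E, hE, hc, hti⟩
    exact ti_conv D hI N hq n (by omega) E hE hc hti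
  · intro hdvd
    have : CharP F 2 := CharTwo.of_one_ne_zero_of_two_eq_zero one_ne_zero D.two
    obtain ⟨A, hA, hti⟩ := exists_ti n (N + 1) hq hdvd (by omega)
    exact ⟨gZ D hI A, elem_gZ D hI A, by rw [card_gZ, hA], ti_gZ D hI A hti⟩

end SzG
end Cfsg.Agent.Lib.Helper15
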